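/-
Frames of isometries of a symplectic or symmetric form over a prime field: the squares of the frame maps as a
quadratic form on the indices.
-/
import Cfsg.Agent.Lib.Classical.Frame.Sub

set_option autoImplicit false
set_option linter.unusedSectionVars false

namespace Cfsg.Agent.Classical.Frame

open Module

universe u v w

variable {F : Type u} [Field F] {V : Type v} [AddCommGroup V] [Module F V] [FiniteDimensional F V]
  {A : Type w} [AddCommGroup A] [Finite A]

/-- A nondegenerate bilinear form, symmetric or skew. -/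
structure Bil (F : Type u) [Field F] (V : Type v) [AddCommGroup V] [Module F V] where
  B : V → V → F
  ε : F
  heps : ε = 1 ∨ ε = -1
  add_left : ∀ v v' w, B (v + v') w = B v w + B v' w
  smul_left : ∀ (c : F) v w, B (c • v) w = c * B v w
  swap : ∀ v w, B w v = ε * B v w
  nondeg : ∀ v, (∀ w, B v w = 0) → v = 0

namespace Bil

variable (β : Bil F V)

theorem add_right (v w w' : V) : β.B v (w + w') = β.B v w + β.B v w' := by
  rw [β.swap, β.add_left, mul_add, ← β.swap, ← β.swap]

theorem smul_right (c : F) (v w : V) : β.B v (c • w) = c * β.B v w := by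
  rw [β.swap, β.smul_left, mul_left_comm, ← β.swap]

theorem zero_left (w : V) : β.B 0 w = 0 := by rw [← zero_smul F (0 : V), β.smul_left, zero_mul]

theorem zero_right (v : V) : β.B v 0 = 0 := by rw [← zero_smul F (0 : V), β.smul_right, zero_mul]

theorem neg_left (v w : V) : β.B (-v) w = -β.B v w := by rw [← neg_one_smul F v, β.smul_left, neg_one_mul]

theorem neg_right (v w : V) : β.B v (-w) = -β.B v w := by rw [← neg_one_smul F w, β.smul_right, neg_one_mul]

theorem sub_left (v v' w : V) : β.B (v - v') w = β.B v w - β.B v' w := by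
  rw [sub_eq_add_neg, β.add_left, β.neg_left, sub_eq_add_neg]

theorem sub_right (v w w' : V) : β.B v (w - w') = β.B v w - β.B v w' := by
  rw [sub_eq_add_neg, β.add_right, β.neg_right, sub_eq_add_neg]

theorem exists_pairing {v : V} (hv : v ≠ 0) : ∃ w, β.B v w ≠ 0 := by
  by_contra hh
  push Not at hh
  exact hv (β.nondeg v hh)

theorem ext {v v' : V} (h : ∀ w, β.B v w = β.B v' w) : v = v' :=
  sub_eq_zero.mp (β.nondeg _ fun w => by rw [β.sub_left, h, sub_self])

/-- An isometry. -/
def Isom (g : V ≃ₗ[F] V) : Prop := ∀ v w, β.B (g v) (g w) = β.B v w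

/-- A similitude. -/
def Sim (g : V ≃ₗ[F] V) : Prop := ∃ μ : F, μ ≠ 0 ∧ ∀ v w, β.B (g v) (g w) = μ * β.B v w

variable {β} {Φ : Data F V A}

/-- A scalar by which an isometry is multiplied to give an isometry is a sign. -/
theorem Isom.mul' {g h : V ≃ₗ[F] V} (hg : β.Isom g) (hh : β.Isom h) : β.Isom (g * h) := fun v w => by
  rw [LinearEquiv.mul_apply, LinearEquiv.mul_apply, hg, hh]

/-- A scalar by which an isometry is multiplied to give an isometry is a sign. -/
theorem sq_of_isom (hne : ∃ v : V, v ≠ 0) {g h : V ≃ₗ[F] V} (hg : β.Isom g) (hh : β.Isom h) {c : F}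
    (hc : ∀ v, g v = c • h v) : c = 1 ∨ c = -1 := by
  obtain ⟨v, hv⟩ := hne
  obtain ⟨w, hw⟩ := β.exists_pairing hv
  have e := hg v w
  rw [hc, hc, β.smul_left, β.smul_right, hh] at e
  exact mul_self_eq_one_iff.mp (mul_right_cancel₀ hw (by linear_combination e))

variable (Φ)

/-- The frame map of the index squares to minus one. -/
def One (a : A) : Prop := ∀ v, Φ.u a (Φ.u a v) = -v

/-- The sign of the square of the frame map. -/
noncomputable def dd (a : A) : F := @ite F (One Φ a) (_root_.Classical.propDecidable _) (-1) 1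

variable {Φ}

theorem dd_of_one {a : A} (h : One Φ a) : dd Φ a = -1 := by rw [dd, if_pos h]

theorem dd_sign (a : A) : dd Φ a = 1 ∨ dd Φ a = -1 := by
  by_cases h : One Φ a
  · exact Or.inr (dd_of_one h)
  · exact Or.inl (by rw [dd, if_neg h])

theorem one_iff {a : A} : One Φ a ↔ dd Φ a = -1 := by
  refine ⟨dd_of_one, fun h => ?_⟩
  by_contra hh
  rw [dd, if_neg hh] at h
  exact Φ.one_ne_neg h

theorem dd_sq (a : A) : dd Φ a * dd Φ a = 1 := by rcases dd_sign (Φ := Φ) a with h | h <;> simp [h]

/-- The frame consists of isometries. -/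
structure Setup (β : Bil F V) (Φ : Data F V A) : Prop where
  isom : ∀ a, β.Isom (Φ.u a)

/-- The indices squaring to one contain no subgroup of more than `n` elements. -/
def NoSing (Φ : Data F V A) (n : ℕ) : Prop := ∀ S : AddSubgroup A, (∀ x ∈ S, dd Φ x = 1) → Nat.card S ≤ n

/-- Enough room for the moves: a large frame, or one of order sixty-four of minus type. -/
def Wide (Φ : Data F V A) : Prop := 256 ≤ Nat.card A ∨ (64 ≤ Nat.card A ∧ NoSing Φ 4)

/-- Enough room for rigidity: order sixty-four, or order sixteen of minus type. -/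
def Mid (Φ : Data F V A) : Prop := 64 ≤ Nat.card A ∨ (16 ≤ Nat.card A ∧ NoSing Φ 2)

theorem Wide.le (h : Wide Φ) : 64 ≤ Nat.card A := by
  rcases h with h | ⟨h, -⟩ <;> omega

theorem Mid.le (h : Mid Φ) : 16 ≤ Nat.card A := by
  rcases h with h | ⟨h, -⟩ <;> omega

/-- A bound from two orthogonal indices squaring to one. -/
theorem NoSing.two_pair (h : NoSing Φ 2) {x y : A} (hx : dd Φ x = 1) (hy : dd Φ y = 1) (hxy : dd Φ (x + y) = 1)
    (h0 : dd Φ 0 = 1) (hx0 : x ≠ 0) (hy0 : y ≠ 0) : x = y := by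
  classical
  by_contra hne
  obtain ⟨S, hS⟩ : ∃ S, S = AddSubgroup.zmultiples x ⊔ AddSubgroup.zmultiples y := ⟨_, rfl⟩
  have hall : ∀ w ∈ S, dd Φ w = 1 := by
    intro w hw
    rw [hS] at hw
    obtain ⟨a, ha, b, hb, rfl⟩ := AddSubgroup.mem_sup.mp hw
    rcases Φ.mem_zmultiples.mp ha with rfl | rfl <;> rcases Φ.mem_zmultiples.mp hb with rfl | rfl <;>
      first | simpa only [zero_add, add_zero] using h0 | simpa only [zero_add, add_zero] using hx |
        simpa only [zero_add, add_zero] using hy | simpa only [zero_add, add_zero] using hxy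
  haveI := Fintype.ofFinite S
  have h2 : Fintype.card S ≤ 2 := by rw [← Nat.card_eq_fintype_card]; exact h S hall
  let m : Fin 3 → S := ![0, ⟨x, hS ▸ AddSubgroup.mem_sup_left (AddSubgroup.mem_zmultiples x)⟩,
    ⟨y, hS ▸ AddSubgroup.mem_sup_right (AddSubgroup.mem_zmultiples y)⟩]
  have hinj : Function.Injective m := by
    intro i j e
    have e' := congrArg Subtype.val e
    fin_cases i <;> fin_cases j <;>
      simp [m, hx0, hy0, hne, Ne.symm hx0, Ne.symm hy0, Ne.symm hne] at e' ⊢
  have := Fintype.card_le_of_injective m hinj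
  rw [Fintype.card_fin] at this
  omega

variable (hS : β.Setup Φ)

include hS

theorem sq_eq (a : A) (v : V) : Φ.u a (Φ.u a v) = dd Φ a • v := by
  obtain ⟨c, -, hc⟩ := Φ.sq a
  rcases sq_of_isom Φ.exists_ne ((hS.isom a).mul' (hS.isom a)) (h := 1) (fun v w => rfl) (fun v => hc v) with e | e
  · subst e
    rw [dd, if_neg (fun h => ?_), hc, one_smul]
    obtain ⟨w, hw⟩ := Φ.exists_ne
    have := h w
    rw [hc, one_smul] at this
    exact Φ.two ((smul_eq_zero.mp (show (2 : F) • w = 0 by rw [two_smul]; nth_rewrite 1 [this]; exact neg_add_cancel w)).resolve_right hw)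
  · subst e
    rw [dd_of_one fun w => by rw [hc, neg_one_smul], hc]

theorem mul_const {a b : A} {c : F} (hc : ∀ v, Φ.u a (Φ.u b v) = c • Φ.u (a + b) v) : c = 1 ∨ c = -1 :=
  sq_of_isom Φ.exists_ne ((hS.isom a).mul' (hS.isom b)) (hS.isom (a + b)) hc

theorem dd_add (a b : A) : dd Φ (a + b) = Φ.sg a b * dd Φ a * dd Φ b := by
  obtain ⟨c, hc⟩ := Φ.mul a b
  have hc2 : c * c = 1 := by rcases mul_const hS hc with e | e <;> simp [e]
  obtain ⟨v, hv⟩ := Φ.exists_ne
  refine (smul_left_injective F hv ?_).symm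
  show (Φ.sg a b * dd Φ a * dd Φ b) • v = dd Φ (a + b) • v
  have h1 : Φ.u a (Φ.u b (Φ.u a (Φ.u b v))) = (Φ.sg a b * dd Φ a * dd Φ b) • v := by
    rw [Φ.comm b a, map_smul, sq_eq hS a, sq_eq hS b, Φ.sg_symm a b]
    simp only [map_smul, smul_smul, sq_eq hS, mul_assoc]
  rw [← h1, hc, hc, map_smul, smul_smul, sq_eq hS, smul_smul, hc2, one_mul]

theorem dd_zero : dd Φ 0 = 1 := by
  have h := dd_add hS (0 : A) 0
  rw [add_zero, Φ.sg_zero, one_mul, dd_sq] at h
  exact h

theorem one_ne_zero {a : A} (ha : One Φ a) : a ≠ 0 := by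
  rintro rfl
  exact Φ.one_ne_neg ((dd_zero hS).symm.trans (dd_of_one ha))

theorem not_one {a : A} (h : dd Φ a = 1) (v : V) : Φ.u a (Φ.u a v) = v := by rw [sq_eq hS, h, one_smul]

/-- Two anticommuting indices with equal squares sum to an index squaring to minus one. -/
theorem one_add_anti {a b : A} (h : Φ.sg a b = -1) (hd : dd Φ a = dd Φ b) : One Φ (a + b) := by
  rw [one_iff, dd_add hS, h, hd, neg_one_mul, neg_mul, dd_sq]

theorem one_add_sgl {a b : A} (h : Φ.sg a b = 1) (ha : One Φ a) (hb : dd Φ b = 1) : One Φ (a + b) := by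
  rw [one_iff, dd_add hS, h, dd_of_one ha, hb, one_mul, mul_one]

/-- A subgroup with small cardinality has an index squaring to minus one in its perpendicular. -/
theorem exists_one_perp {S : AddSubgroup A}
    (h : Nat.card S * Nat.card S < Nat.card A ∨ (Nat.card S * Nat.card S ≤ Nat.card A ∧ ∃ s ∈ S, One Φ s) ∨
      ((∀ y ∈ S, y ∈ Φ.perp S → y = 0) ∧ Nat.card S < Nat.card A)) :
    ∃ y ∈ Φ.perp S, One Φ y := by
  by_contra hh
  push Not at hh
  have hd : ∀ y ∈ Φ.perp S, dd Φ y = 1 := fun y hy => (dd_sign y).resolve_right fun e => hh y hy (one_iff.mpr e)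
  have hle : Φ.perp S ≤ S := by
    intro y hy
    rw [← Φ.perp_perp S]
    intro z hz
    have := dd_add hS y z
    rw [hd _ ((Φ.perp S).add_mem hy hz), hd y hy, hd z hz, mul_one, mul_one] at this
    exact this.symm
  have hc := Φ.card_perp S
  have h1 : Nat.card (Φ.perp S) ≤ Nat.card S := AddSubgroup.card_le_of_le hle
  rcases h with h | ⟨h, s, hs, hs1⟩ | ⟨h, h'⟩
  · nlinarith
  · have hS0 : 0 < Nat.card S := Nat.card_pos
    have he : Φ.perp S = S := AddSubgroup.eq_of_le_of_card_ge hle (by nlinarith)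
    exact hh s (he.symm ▸ hs) hs1
  · have hb : Φ.perp S = ⊥ := (AddSubgroup.eq_bot_iff_forall _).mpr fun y hy => h y (hle hy) hy
    rw [hb, AddSubgroup.card_bot, mul_one] at hc
    omega


end Bil

end Cfsg.Agent.Classical.Frame
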