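/-
The hypotheses on a group for a frame of isometries, and the moves of the indices by pairs of lifted transvections.
-/
import Cfsg.Agent.Lib.Classical.Frame.Bil.Basic

set_option autoImplicit false
set_option linter.unusedSectionVars false

namespace Cfsg.Agent.Classical.Frame

open Module

universe u v w

variable {F : Type u} [Field F] {V : Type v} [AddCommGroup V] [Module F V] [FiniteDimensional F V]
  {A : Type w} [AddCommGroup A] [Finite A]

namespace Bil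

variable {β : Bil F V} {Φ : Data F V A}

/-- The lifted transvection of an index squaring to minus one. -/
def tE {p : A} (hp : One Φ p) : V ≃ₗ[F] V where
  toFun v := v + Φ.u p v
  map_add' v w := by rw [map_add]; abel
  map_smul' c v := by rw [map_smul, RingHom.id_apply, smul_add]
  invFun v := (2 : F)⁻¹ • (v - Φ.u p v)
  left_inv v := by
    simp only [map_add, hp v]
    rw [show v + Φ.u p v - (Φ.u p v + -v) = (2 : F) • v by module, inv_smul_smul₀ Φ.two]
  right_inv v := by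
    simp only [map_smul, map_sub, hp v]
    rw [← smul_add, show v - Φ.u p v + (Φ.u p v - -v) = (2 : F) • v by module, inv_smul_smul₀ Φ.two]

theorem tE_apply {p : A} (hp : One Φ p) (v : V) : tE hp v = v + Φ.u p v := rfl

theorem tE_tz {p : A} (hp : One Φ p) : Φ.Tz p (tE hp) :=
  ⟨1, fun v => by rw [one_smul, one_smul, hp], fun v => by rw [one_smul, tE_apply]⟩

/-- What is asked of the group: the frame, similitudes, and the pairs of lifted transvections. -/
structure Grp (β : Bil F V) (Φ : Data F V A) (G : Subgroup (PG F V)) : Prop where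
  le : Φ.E ≤ G
  pres : ∀ g : V ≃ₗ[F] V, pr F V g ∈ G → β.Sim g
  pair : ∀ p q (hp : One Φ p) (hq : One Φ q), pr F V (tE hp * tE hq) ∈ G

/-- Four indices. -/
def S4 (a b c e : A) : AddSubgroup A :=
  (AddSubgroup.zmultiples a ⊔ AddSubgroup.zmultiples b) ⊔ (AddSubgroup.zmultiples c ⊔ AddSubgroup.zmultiples e)

theorem card_sup_le (H K : AddSubgroup A) : Nat.card (H ⊔ K : AddSubgroup A) ≤ Nat.card H * Nat.card K := by
  rw [← Nat.card_prod]
  refine Nat.card_le_card_of_surjective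
    (fun hk : H × K => ⟨(hk.1 : A) + hk.2, AddSubgroup.add_mem_sup hk.1.2 hk.2.2⟩) fun y => ?_
  obtain ⟨a, ha, b, hb, e⟩ := AddSubgroup.mem_sup.mp y.2
  exact ⟨(⟨a, ha⟩, ⟨b, hb⟩), Subtype.ext e⟩

include Φ in
theorem card_S4 (a b c e : A) : Nat.card (S4 a b c e) ≤ 16 :=
  (card_sup_le _ _).trans (Nat.mul_le_mul ((card_sup_le _ _).trans (Nat.mul_le_mul (Φ.card_zmultiples_le a)
    (Φ.card_zmultiples_le b))) ((card_sup_le _ _).trans (Nat.mul_le_mul (Φ.card_zmultiples_le c)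
    (Φ.card_zmultiples_le e))))

theorem mem_S4 (a b c e : A) : a ∈ S4 a b c e ∧ b ∈ S4 a b c e ∧ c ∈ S4 a b c e ∧ e ∈ S4 a b c e :=
  ⟨AddSubgroup.mem_sup_left (AddSubgroup.mem_sup_left (AddSubgroup.mem_zmultiples _)),
    AddSubgroup.mem_sup_left (AddSubgroup.mem_sup_right (AddSubgroup.mem_zmultiples _)),
    AddSubgroup.mem_sup_right (AddSubgroup.mem_sup_left (AddSubgroup.mem_zmultiples _)),
    AddSubgroup.mem_sup_right (AddSubgroup.mem_sup_right (AddSubgroup.mem_zmultiples _))⟩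

theorem sg_of_perp {a b c e y : A} (hy : y ∈ Φ.perp (S4 a b c e)) :
    Φ.sg a y = 1 ∧ Φ.sg b y = 1 ∧ Φ.sg c y = 1 ∧ Φ.sg e y = 1 := by
  obtain ⟨ha, hb, hc, he⟩ := mem_S4 a b c e
  exact ⟨by rw [Φ.sg_symm y a]; exact hy a ha, by rw [Φ.sg_symm y b]; exact hy b hb,
    by rw [Φ.sg_symm y c]; exact hy c hc, by rw [Φ.sg_symm y e]; exact hy e he⟩

variable (hS : β.Setup Φ)

include hS

/-- An index squaring to minus one orthogonal to two given ones. -/
theorem exists_one_two (hA : Wide Φ) (a b : A) :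
    ∃ y, One Φ y ∧ Φ.sg a y = 1 ∧ Φ.sg b y = 1 ∧ Φ.sg b y = 1 := by
  have h1 : Nat.card (AddSubgroup.zmultiples (0 : A) ⊔ AddSubgroup.zmultiples (0 : A) : AddSubgroup A) ≤ 1 := by
    rw [AddSubgroup.zmultiples_zero_eq_bot, bot_sup_eq, AddSubgroup.card_bot]
  have h4 : Nat.card (S4 a b 0 0) ≤ 4 :=
    (card_sup_le _ _).trans (Nat.mul_le_mul ((card_sup_le _ _).trans (Nat.mul_le_mul
      (Φ.card_zmultiples_le a) (Φ.card_zmultiples_le b))) h1)
  obtain ⟨y, hy, hy1⟩ := exists_one_perp hS (S := S4 a b 0 0) (Or.inl (by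
    have := hA.le; nlinarith))
  obtain ⟨h1, h2, -, -⟩ := sg_of_perp hy
  exact ⟨y, hy1, h1, h2, h2⟩

/-- An index squaring to minus one orthogonal to a subgroup of order at most eight containing another one. -/
theorem exists_one_eight (hA : 64 ≤ Nat.card A) {S : AddSubgroup A} (h8 : Nat.card S ≤ 8) {s : A} (hs : s ∈ S)
    (hs1 : One Φ s) : ∃ y, One Φ y ∧ ∀ x ∈ S, Φ.sg x y = 1 := by
  obtain ⟨y, hy, hy1⟩ := exists_one_perp hS (S := S) (Or.inr (Or.inl ⟨by nlinarith, s, hs, hs1⟩))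
  exact ⟨y, hy1, fun x hx => by rw [Φ.sg_symm y x]; exact hy x hx⟩

variable {G : Subgroup (PG F V)}

theorem pair_acts {p q : A} (hp : One Φ p) (hq : One Φ q) :
    Φ.Acts (pr F V (tE hp * tE hq)) (Φ.tau p ∘ Φ.tau q) := by
  rw [map_mul]
  exact (tE_tz hp).acts.mul (tE_tz hq).acts

/-- Pairs of lifted transvections move an index to any other with the same square, fixing a given index. -/
theorem exists_move (hG : β.Grp Φ G) (hA : Wide Φ) {a b e : A} (hd : dd Φ a = dd Φ b)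
    (hea : Φ.sg e a = 1) (heb : Φ.sg e b = 1) (ha : a ∉ AddSubgroup.zmultiples e)
    (hb : b ∉ AddSubgroup.zmultiples e) : ∃ n ∈ G, ∃ f, Φ.Acts n f ∧ f a = b ∧ f e = e := by
  have step : ∀ p q, Φ.sg p q = -1 → dd Φ p = dd Φ q → Φ.sg e p = 1 → Φ.sg e q = 1 →
      ∃ n ∈ G, ∃ f, Φ.Acts n f ∧ f p = q ∧ f e = e := by
    intro p q hpq hd hp hq
    obtain ⟨r, hr, hre, hrp, -⟩ := exists_one_two hS hA e p
    have hw := one_add_anti hS hpq hd
    have hwe : Φ.sg (p + q) e = 1 := by rw [Φ.sg_symm e, Φ.sg_add, hp, hq, one_mul]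
    refine ⟨_, hG.pair _ _ hw hr, _, pair_acts hS hw hr, ?_, ?_⟩
    · have e1 : Φ.tau r p = p := Φ.tau_of_one (by rw [Φ.sg_symm p r]; exact hrp)
      rw [Function.comp_apply, e1,
        Φ.tau_of_neg (by rw [Φ.sg_add_left, Φ.sg_self, Φ.sg_symm p q, hpq, one_mul]), ← add_assoc, Φ.elem, zero_add]
    · have e1 : Φ.tau r e = e := Φ.tau_of_one (by rw [Φ.sg_symm e r]; exact hre)
      rw [Function.comp_apply, e1, Φ.tau_of_one hwe]
  rcases Φ.sign a b with hab | hab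
  swap
  · exact step a b hab hd hea heb
  rw [← Φ.perp_perp (AddSubgroup.zmultiples e)] at ha hb
  obtain ⟨c, hc, hac, hbc⟩ := Φ.exists_neg_both ha hb
  have hec : Φ.sg e c = 1 := by rw [Φ.sg_symm c e]; exact hc e (AddSubgroup.mem_zmultiples e)
  obtain ⟨c', hdc, hec', hac', hbc'⟩ : ∃ c', dd Φ c' = dd Φ a ∧ Φ.sg e c' = 1 ∧ Φ.sg a c' = -1 ∧ Φ.sg b c' = -1 := by
    by_cases hcd : dd Φ c = dd Φ a
    · exact ⟨c, hcd, hec, hac, hbc⟩
    have hce : Φ.sg c e = 1 := by rw [Φ.sg_symm e c]; exact hec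
    have hea' : Φ.sg a e = 1 := by rw [Φ.sg_symm e a]; exact hea
    have heb' : Φ.sg b e = 1 := by rw [Φ.sg_symm e b]; exact heb
    have hca : Φ.sg c a = -1 := by rw [Φ.sg_symm a c]; exact hac
    have hcb : Φ.sg c b = -1 := by rw [Φ.sg_symm b c]; exact hbc
    have hba : Φ.sg b a = 1 := by rw [Φ.sg_symm a b]; exact hab
    rcases dd_sign (Φ := Φ) a with ha1 | ha1
    · have hc1 : dd Φ c = -1 := (dd_sign c).resolve_left fun h => hcd (h.trans ha1.symm)
      refine ⟨c + a, ?_, by rw [Φ.sg_add, hec, hea, one_mul], by rw [Φ.sg_add, hac, Φ.sg_self, mul_one],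
        by rw [Φ.sg_add, hbc, hba, mul_one]⟩
      rw [dd_add hS, hca, hc1, ha1]; ring
    have hc1 : dd Φ c = 1 := (dd_sign c).resolve_right fun h => hcd (h.trans ha1.symm)
    have fix : ∀ y, One Φ y → Φ.sg a y = 1 → Φ.sg b y = 1 → Φ.sg c y = 1 → Φ.sg e y = 1 →
        dd Φ (c + y) = dd Φ a ∧ Φ.sg e (c + y) = 1 ∧ Φ.sg a (c + y) = -1 ∧ Φ.sg b (c + y) = -1 :=
      fun y hy hya hyb hyc hye => ⟨by rw [dd_add hS, hyc, hc1, dd_of_one hy, ha1]; ring,
        by rw [Φ.sg_add, hec, hye, one_mul], by rw [Φ.sg_add, hac, hya, mul_one], by rw [Φ.sg_add, hbc, hyb, mul_one]⟩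
    rcases dd_sign (Φ := Φ) e with he1 | he1
    swap
    · refine ⟨c + e, by rw [dd_add hS, hce, hc1, he1, ha1]; ring, by rw [Φ.sg_add, hec, Φ.sg_self, one_mul],
        by rw [Φ.sg_add, hac, hea', mul_one], by rw [Φ.sg_add, hbc, heb', mul_one]⟩
    rcases hA with hA' | ⟨hA', hno⟩
    · obtain ⟨y, hy, hy1⟩ := exists_one_perp hS (S := S4 a b c e) (Or.inr (Or.inl ⟨by
        have := card_S4 (Φ := Φ) a b c e; nlinarith, a, (mem_S4 a b c e).1, one_iff.mpr ha1⟩))
      obtain ⟨g1, g2, g3, g4⟩ := sg_of_perp hy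
      exact ⟨c + y, fix y hy1 g1 g2 g3 g4⟩
    · obtain ⟨S, hSdef⟩ : ∃ S, S = AddSubgroup.zmultiples c ⊔ AddSubgroup.zmultiples e ⊔
          AddSubgroup.zmultiples (a + b) := ⟨_, rfl⟩
      have hd1 : dd Φ (a + b) = 1 := by rw [dd_add hS, hab, ← hd, ha1]; ring
      have hsing : ∀ x ∈ S, dd Φ x = 1 := by
        intro x hx
        rw [hSdef] at hx
        obtain ⟨u, hu, w, hw, rfl⟩ := AddSubgroup.mem_sup.mp hx
        obtain ⟨p, hp, q, hq, rfl⟩ := AddSubgroup.mem_sup.mp hu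
        rcases Φ.mem_zmultiples.mp hp with rfl | rfl <;> rcases Φ.mem_zmultiples.mp hq with rfl | rfl <;>
          rcases Φ.mem_zmultiples.mp hw with rfl | rfl <;>
          simp only [dd_add hS, Φ.sg_add, Φ.sg_add_left, hd1, hc1, he1, hce, hca, hcb, hea, heb, dd_zero hS, zero_add,
            add_zero, mul_one, one_mul, mul_neg, neg_neg, hab, hba, ha1, ← hd, neg_mul]
      have h8 : Nat.card (AddSubgroup.zmultiples a ⊔ S : AddSubgroup A) ≤ 8 :=
        (card_sup_le _ _).trans (Nat.mul_le_mul (Φ.card_zmultiples_le a) (hno S hsing))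
      obtain ⟨y, hy, hy1⟩ := exists_one_eight hS hA' h8
        (AddSubgroup.mem_sup_left (AddSubgroup.mem_zmultiples a)) (one_iff.mpr ha1)
      have hya := hy1 a (AddSubgroup.mem_sup_left (AddSubgroup.mem_zmultiples a))
      have hyab := hy1 (a + b) (AddSubgroup.mem_sup_right (hSdef ▸ AddSubgroup.mem_sup_right
        (AddSubgroup.mem_zmultiples _)))
      rw [Φ.sg_add_left, hya, one_mul] at hyab
      exact ⟨c + y, fix y hy hya hyab
        (hy1 c (AddSubgroup.mem_sup_right (hSdef ▸ AddSubgroup.mem_sup_left (AddSubgroup.mem_sup_left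
          (AddSubgroup.mem_zmultiples c)))))
        (hy1 e (AddSubgroup.mem_sup_right (hSdef ▸ AddSubgroup.mem_sup_left (AddSubgroup.mem_sup_right
          (AddSubgroup.mem_zmultiples e)))))⟩
  obtain ⟨n1, hn1, f1, ha1, e1, p1⟩ := step a c' hac' hdc.symm hea hec'
  obtain ⟨n2, hn2, f2, ha2, e2, p2⟩ := step c' b (by rw [Φ.sg_symm]; exact hbc') (hdc.trans hd) hec' heb
  exact ⟨n2 * n1, G.mul_mem hn2 hn1, f2 ∘ f1, ha2.mul ha1, by rw [Function.comp_apply, e1, e2],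
    by rw [Function.comp_apply, p1, p2]⟩

theorem exists_move_top (hG : β.Grp Φ G) (hA : Wide Φ) {a b : A} (hd : dd Φ a = dd Φ b) (ha : a ≠ 0)
    (hb : b ≠ 0) : ∃ n ∈ G, ∃ f, Φ.Acts n f ∧ f a = b := by
  have h : ∀ c : A, c ≠ 0 → c ∉ AddSubgroup.zmultiples (0 : A) := fun c hc hm => hc (by
    rw [AddSubgroup.zmultiples_zero_eq_bot] at hm; exact hm)
  obtain ⟨n, hn, f, hf, e, -⟩ := exists_move hS hG hA hd (e := 0) (by rw [Φ.sg_symm, Φ.sg_zero])
    (by rw [Φ.sg_symm, Φ.sg_zero]) (h a ha) (h b hb)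
  exact ⟨n, hn, f, hf, e⟩

/-- A similitude conjugating one frame map to a multiple of another keeps the square. -/
theorem conj_dd {g : V ≃ₗ[F] V} (hg : β.Sim g) {a b : A} {c : F} (h : ∀ v, g (Φ.u a v) = c • Φ.u b (g v)) :
    (c = 1 ∨ c = -1) ∧ dd Φ a = dd Φ b := by
  obtain ⟨μ, hμ, hg⟩ := hg
  obtain ⟨v, hv⟩ := Φ.exists_ne
  have hc : c * c = 1 := by
    obtain ⟨w, hw⟩ := β.exists_pairing hv
    have e := hg (Φ.u a v) (Φ.u a w)
    rw [h, h, β.smul_left, β.smul_right, hS.isom b, hS.isom a, hg] at e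
    exact mul_right_cancel₀ (mul_ne_zero hμ hw) (by linear_combination e)
  refine ⟨mul_self_eq_one_iff.mp hc, smul_left_injective F (fun e => hv (g.map_eq_zero_iff.mp e))
    (show dd Φ a • g v = dd Φ b • g v from ?_)⟩
  rw [← map_smul, ← sq_eq hS, h, h, map_smul, smul_smul, hc, one_smul, sq_eq hS]

theorem conj_dd_pr {g : V ≃ₗ[F] V} (hg : β.Sim g) {a b : A}
    (h : pr F V g * Φ.e a * (pr F V g)⁻¹ = Φ.e b) : dd Φ a = dd Φ b := by
  obtain ⟨c, -, hc⟩ := Φ.exists_smul h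
  exact (conj_dd hS hg hc).2

theorem mem_N_of_conj (hG : β.Grp Φ G) (hA : Wide Φ) (hc : Φ.CentLe G) {a b : A} (ha : a ≠ 0)
    {g : PG F V} (hg : g ∈ G) (h : g * Φ.e a * g⁻¹ = Φ.e b) : g ∈ Φ.N := by
  have hb : b ≠ 0 := by
    rintro rfl
    rw [Φ.e_zero, mul_inv_eq_one, mul_eq_left, Φ.e_eq_one] at h
    exact ha h
  obtain ⟨l, rfl⟩ := pr_surjective g
  obtain ⟨n, hn, f, hf, hfa⟩ := exists_move_top hS hG hA (conj_dd_pr hS (hG.pres l hg) h) ha hb
  have h1 : n⁻¹ * pr F V l ∈ Φ.N := hc a ha _ (G.mul_mem (G.inv_mem hn) hg) (by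
    calc n⁻¹ * pr F V l * Φ.e a = n⁻¹ * (pr F V l * Φ.e a * (pr F V l)⁻¹) * pr F V l := by group
      _ = n⁻¹ * (n * Φ.e a * n⁻¹) * pr F V l := by rw [h, hf a, hfa]
      _ = Φ.e a * (n⁻¹ * pr F V l) := by group)
  simpa using Φ.N.mul_mem hf.mem_N h1

end Bil

end Cfsg.Agent.Classical.Frame
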