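/-
The rank two transvections commuting with a frame map squaring to minus one.
-/
import Cfsg.Agent.Lib.Classical.Frame.Bil.Moves

set_option autoImplicit false
set_option linter.unusedSectionVars false

namespace Cfsg.Agent.Classical.Frame

open Module

universe u v w

variable {F : Type u} [Field F] {V : Type v} [AddCommGroup V] [Module F V] [FiniteDimensional F V]
  {A : Type w} [AddCommGroup A] [Finite A]

namespace Bil

variable (β : Bil F V) (Φ : Data F V A)

/-- Isotropic for the form and for its twist by the frame map. -/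
def Iso (x : A) (a : V) : Prop := β.B a a = 0 ∧ β.B a (Φ.u x a) = 0

/-- The nilpotent map. -/
noncomputable def lop (x : A) (a v : V) : V :=
  @ite V (β.ε = 1) (_root_.Classical.propDecidable _) (β.B v a • Φ.u x a - β.B v (Φ.u x a) • a)
    (β.B v a • a + β.B v (Φ.u x a) • Φ.u x a)

variable {β Φ}

theorem lop_one (he : β.ε = 1) (x : A) (a v : V) :
    β.lop Φ x a v = β.B v a • Φ.u x a - β.B v (Φ.u x a) • a := by rw [lop, if_pos he]

theorem lop_neg (he : β.ε = -1) (x : A) (a v : V) :
    β.lop Φ x a v = β.B v a • a + β.B v (Φ.u x a) • Φ.u x a := by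
  rw [lop, if_neg (by rw [he]; exact fun h => Φ.one_ne_neg h.symm)]

theorem lop_add (x : A) (a v w : V) : β.lop Φ x a (v + w) = β.lop Φ x a v + β.lop Φ x a w := by
  rcases β.heps with he | he
  · rw [lop_one he, lop_one he, lop_one he, β.add_left, β.add_left]; module
  · rw [lop_neg he, lop_neg he, lop_neg he, β.add_left, β.add_left]; module

theorem lop_smul (x : A) (a : V) (c : F) (v : V) : β.lop Φ x a (c • v) = c • β.lop Φ x a v := by
  rcases β.heps with he | he
  · rw [lop_one he, lop_one he, β.smul_left, β.smul_left]; module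
  · rw [lop_neg he, lop_neg he, β.smul_left, β.smul_left]; module

variable (hS : β.Setup Φ)

include hS

theorem iso_ua {x : A} (hx : One Φ x) {a : V} (ha : β.Iso Φ x a) :
    β.B (Φ.u x a) (Φ.u x a) = 0 ∧ β.B (Φ.u x a) a = 0 :=
  ⟨by rw [hS.isom x]; exact ha.1, by rw [β.swap, ha.2, mul_zero]⟩

theorem lop_a {x : A} (hx : One Φ x) {a : V} (ha : β.Iso Φ x a) :
    β.lop Φ x a a = 0 ∧ β.lop Φ x a (Φ.u x a) = 0 := by
  obtain ⟨h1, h2⟩ := iso_ua hS hx ha
  rcases β.heps with he | he
  · simp [lop_one he, ha.1, ha.2, h1, h2]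
  · simp [lop_neg he, ha.1, ha.2, h1, h2]

theorem lop_lop {x : A} (hx : One Φ x) {a : V} (ha : β.Iso Φ x a) (v : V) : β.lop Φ x a (β.lop Φ x a v) = 0 := by
  obtain ⟨h1, h2⟩ := lop_a hS hx ha
  rcases β.heps with he | he
  · rw [lop_one he x a v, sub_eq_add_neg, ← neg_smul, lop_add, lop_smul, lop_smul, h1, h2, smul_zero, smul_zero,
      add_zero]
  · rw [lop_neg he x a v, lop_add, lop_smul, lop_smul, h1, h2, smul_zero, smul_zero, add_zero]

/-- The transvection. -/
noncomputable def TE {x : A} (hx : One Φ x) {a : V} (ha : β.Iso Φ x a) (s : F) : V ≃ₗ[F] V where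
  toFun v := v + s • β.lop Φ x a v
  map_add' v w := by rw [lop_add, smul_add]; abel
  map_smul' c v := by rw [lop_smul, RingHom.id_apply, smul_add, smul_comm c]
  invFun v := v + (-s) • β.lop Φ x a v
  left_inv v := by simp only [lop_add, lop_smul, lop_lop hS hx ha, smul_zero, add_zero]; module
  right_inv v := by simp only [lop_add, lop_smul, lop_lop hS hx ha, smul_zero, add_zero]; module

theorem TE_apply {x : A} (hx : One Φ x) {a : V} (ha : β.Iso Φ x a) (s : F) (v : V) :
    TE hS hx ha s v = v + s • β.lop Φ x a v := rfl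

theorem TE_isom {x : A} (hx : One Φ x) {a : V} (ha : β.Iso Φ x a) (s : F) : β.Isom (TE hS hx ha s) := fun v w => by
  obtain ⟨h1, h2⟩ := iso_ua hS hx ha
  rw [TE_apply, TE_apply]
  rcases β.heps with he | he
  · rw [lop_one he, lop_one he]
    simp only [β.add_left, β.add_right, β.sub_left, β.sub_right, β.smul_left, β.smul_right, ha.1, ha.2, h1, h2]
    rw [β.swap w a, β.swap w (Φ.u x a), he]
    ring
  · rw [lop_neg he, lop_neg he]
    simp only [β.add_left, β.add_right, β.smul_left, β.smul_right, ha.1, ha.2, h1, h2]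
    rw [β.swap w a, β.swap w (Φ.u x a), he]
    ring

theorem TE_comm {x : A} (hx : One Φ x) {a : V} (ha : β.Iso Φ x a) (s : F) (v : V) :
    TE hS hx ha s (Φ.u x v) = Φ.u x (TE hS hx ha s v) := by
  have e1 : β.B (Φ.u x v) (Φ.u x a) = β.B v a := hS.isom x v a
  have e2 : β.B (Φ.u x v) a = -β.B v (Φ.u x a) := by
    rw [← hS.isom x (Φ.u x v) a, hx, β.neg_left]
  rw [TE_apply, TE_apply, map_add, map_smul]
  rcases β.heps with he | he
  · rw [lop_one he, lop_one he, map_sub, map_smul, map_smul, hx a, e1, e2]; module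
  · rw [lop_neg he, lop_neg he, map_add, map_smul, map_smul, hx a, e1, e2]; module

omit hS

variable (β Φ)

/-- All these transvections lie in the group. -/
def Trans (hS : β.Setup Φ) (G : Subgroup (PG F V)) (x : A) : Prop :=
  ∀ (hx : One Φ x) (a : V) (ha : β.Iso Φ x a) (s : F), pr F V (TE hS hx ha s) ∈ G

variable {β Φ}

/-- The elements commuting with the frame map permute the commuting part of the frame. -/
def Split1 (Φ : Data F V A) (G : Subgroup (PG F V)) (x : A) : Prop :=
  ∀ k : V ≃ₗ[F] V, pr F V k ∈ G → (∀ v, k (Φ.u x v) = Φ.u x (k v)) → ∀ p ∈ Φ.cen x,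
    ∃ q ∈ Φ.cen x, pr F V k * Φ.e p * (pr F V k)⁻¹ = Φ.e q

/-- An index commuting with `x` is, up to `x`, one squaring to minus one. -/
theorem exists_rep (hS : β.Setup Φ) {x : A} (hx : One Φ x) {p : A} (hxp : Φ.sg x p = 1) :
    ∃ r, One Φ r ∧ Φ.sg x r = 1 ∧ ((r = p ∧ One Φ p) ∨
      ∃ m : F, m * m = 1 ∧ (∀ v, Φ.u p (Φ.u p v) = v) ∧ ∀ v, Φ.u r v = m • Φ.u p (Φ.u x v)) := by
  by_cases hp : One Φ p
  · exact ⟨p, hp, hxp, Or.inl ⟨rfl, hp⟩⟩
  have hd : dd Φ p = 1 := (dd_sign p).resolve_right fun h => hp (one_iff.mpr h)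
  obtain ⟨c, hc⟩ := Φ.mul p x
  have hc2 : c * c = 1 := by rcases mul_const hS hc with e | e <;> simp [e]
  refine ⟨p + x, ?_, by rw [Φ.sg_add, hxp, Φ.sg_self, one_mul], Or.inr ⟨c, hc2, not_one hS hd, fun v => ?_⟩⟩
  · rw [add_comm]; exact one_add_sgl hS hxp hx hd
  · rw [hc, smul_smul, hc2, one_smul]

end Bil

end Cfsg.Agent.Classical.Frame
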