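/-
For a symmetric form, rank two transvections commuting with the frame maps give all Siegel transformations.
-/
import Cfsg.Agent.Lib.Classical.Frame.Bil.Trans
import Cfsg.Agent.Lib.Classical.OrthRoot

set_option autoImplicit false
set_option linter.unusedSectionVars false

namespace Cfsg.Agent.Classical.Frame

open Module QuadraticMap
open Cfsg.Agent.Classical Cfsg.Agent.Classical.OCount Cfsg.Agent.Classical.ORefl Cfsg.Agent.Classical.OOmega

universe u v w

variable {F : Type u} [Field F] {V : Type v} [AddCommGroup V] [Module F V] [FiniteDimensional F V]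
  {A : Type w} [AddCommGroup A] [Finite A]

namespace Bil

variable {β : Bil F V} {Φ : Data F V A} {G : Subgroup (PG F V)} (hS : β.Setup Φ) {Q : QuadraticForm F V}
  (hpol : ∀ v w, polar Q v w = β.B v w)

include hS hpol

theorem exists_skew (he : β.ε = 1) (a : V) (w : V) (h : ∀ x, One Φ x → β.B w (Φ.u x a) = 0) :
    ∀ c d : V, β.B a c * β.B w d - β.B a d * β.B w c = 0 := by
  classical
  haveI := Fintype.ofFinite A
  intro c d
  let M : End F V :=
    { toFun := fun v => β.B v c • d - β.B v d • c
      map_add' := fun v v' => by rw [β.add_left, β.add_left]; module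
      map_smul' := fun r v => by rw [β.smul_left, β.smul_left, RingHom.id_apply]; module }
  obtain ⟨g, hg⟩ : ∃ g : A → F, ∑ b, g b • Φ.m b = M :=
    (Submodule.mem_span_range_iff_exists_fun F).mp (Φ.span_top ▸ Submodule.mem_top)
  have hMv : ∀ v, β.B v c • d - β.B v d • c = ∑ b, g b • Φ.u b v := fun v => by
    show M v = _
    rw [← hg]; simp [Data.m, LinearMap.sum_apply]
  let L : V → (V →ₗ[F] F) := fun v =>
    { toFun := β.B v, map_add' := β.add_right v, map_smul' := fun r w => β.smul_right r v w }
  let R : V → (V →ₗ[F] F) := fun v =>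
    { toFun := fun w => β.B w v, map_add' := fun w w' => β.add_left w w' v,
      map_smul' := fun r w => β.smul_left r w v }
  have hu : ∀ b v v', β.B (Φ.u b v) v' = dd Φ b * β.B v (Φ.u b v') := fun b v v' => by
    rw [← hS.isom b v (Φ.u b v'), sq_eq hS, β.smul_right, ← mul_assoc, dd_sq, one_mul]
  have h0 : ∑ b, (g b * (1 + dd Φ b)) • Φ.m b = 0 := by
    refine LinearMap.ext fun v => β.ext fun v' => ?_
    rw [LinearMap.zero_apply, β.zero_left, LinearMap.sum_apply]
    show R v' (∑ b, (g b * (1 + dd Φ b)) • Φ.u b v) = 0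
    rw [map_sum]
    have e1 : R v' (β.B v c • d - β.B v d • c) + R v (β.B v' c • d - β.B v' d • c) = 0 := by
      show β.B _ v' + β.B _ v = 0
      rw [β.sub_left, β.sub_left, β.smul_left, β.smul_left, β.smul_left, β.smul_left, β.swap v' d, β.swap v' c,
        β.swap v c, β.swap v d, he]
      ring
    rw [hMv, hMv, map_sum, map_sum, ← Finset.sum_add_distrib] at e1
    refine Eq.trans (Finset.sum_congr rfl fun b _ => ?_) e1
    rw [map_smul, map_smul, map_smul, smul_eq_mul, smul_eq_mul, smul_eq_mul]
    show _ * β.B (Φ.u b v) v' = _ * β.B (Φ.u b v) v' + _ * β.B (Φ.u b v') v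
    rw [hu b v' v, β.swap (Φ.u b v) v', he]
    ring
  have hg0 : ∀ b, g b ≠ 0 → One Φ b := fun b hb => one_iff.mpr (by
    have := Fintype.linearIndependent_iff.mp Φ.indep _ h0 b
    linear_combination (mul_eq_zero.mp this).resolve_left hb)
  have e : L w (β.B a c • d - β.B a d • c) = 0 := by
    rw [hMv, map_sum]
    refine Finset.sum_eq_zero fun b _ => ?_
    rw [map_smul]
    rcases eq_or_ne (g b) 0 with h0 | h0
    · rw [h0, zero_smul]
    · rw [show L w (Φ.u b a) = β.B w (Φ.u b a) from rfl, h b (hg0 b h0), smul_zero]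
  have e' : β.B w (β.B a c • d - β.B a d • c) = 0 := e
  rw [β.sub_right, β.smul_right, β.smul_right] at e'
  exact e'

/-- All Siegel transformations are in the group. -/
theorem siegel_all (he : β.ε = 1) (ht : ∀ x, β.Trans Φ hS G x) {a v : V} (ha : Q a = 0)
    (hv : polar Q a v = 0) : pr F V (siegel ha hv) ∈ G := by
  have haa : β.B a a = 0 := by rw [← hpol, polar_self_zero ha]
  rcases eq_or_ne a 0 with rfl | ha0
  · rw [show siegel ha hv = 1 from LinearEquiv.ext fun x => by
      rw [siegel_apply, polar_zero_left, smul_zero, zero_smul, add_zero, sub_zero]; rfl, map_one]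
    exact G.one_mem
  suffices key : v ∈ Submodule.span F {d : V | ∃ x, One Φ x ∧ d = Φ.u x a} by
    suffices main : ∀ (s : F) (hs : polar Q a (s • v) = 0), pr F V (siegel ha hs) ∈ G by
      have := main 1 (by rwa [one_smul])
      simpa using this
    clear hv
    refine Submodule.span_induction ?_ ?_ ?_ ?_ key
    · rintro _ ⟨x, hx, rfl⟩ s hs
      have h1 : β.B (Φ.u x a) (Φ.u x a) = 0 := by rw [hS.isom x]; exact haa
      have h2 : β.B a (Φ.u x a) = 0 := by
        have e := hS.isom x a (Φ.u x a)
        rw [hx, β.neg_right, β.swap a (Φ.u x a), he, one_mul] at e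
        exact (mul_eq_zero.mp (show (2 : F) * β.B a (Φ.u x a) = 0 by linear_combination -e)).resolve_left Φ.two
      have hQ : Q (Φ.u x a) = 0 := by
        have := polar_self_two (Q := Q) (Φ.u x a)
        rw [hpol, h1] at this
        exact (mul_eq_zero.mp this.symm).resolve_left Φ.two
      have hI : β.Iso Φ x a := ⟨haa, h2⟩
      rw [show siegel ha hs = TE hS hx hI s from LinearEquiv.ext fun y => by
        rw [siegel_apply, TE_apply, lop_one he, QuadraticMap.map_smul, hQ, smul_zero, zero_mul, add_zero,
          hpol, hpol, β.smul_left, β.swap y a, β.swap y (Φ.u x a), he]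
        module]
      exact ht x hx a hI s
    · intro s hs
      rw [show siegel ha hs = 1 from LinearEquiv.ext fun y => by
        rw [siegel_apply]; simp, map_one]
      exact G.one_mem
    · intro d d' hd hd' ihd ihd' s hs
      have hperp : ∀ d ∈ Submodule.span F {d : V | ∃ x, One Φ x ∧ d = Φ.u x a}, ∀ t : F, polar Q a (t • d) = 0 := by
        intro d hd t
        rw [hpol, β.smul_right]
        refine mul_eq_zero_of_right t ?_
        refine Submodule.span_induction ?_ (β.zero_right a) ?_ ?_ hd
        · rintro _ ⟨x, hx, rfl⟩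
          have e := hS.isom x a (Φ.u x a)
          rw [hx, β.neg_right, β.swap a (Φ.u x a), he, one_mul] at e
          exact (mul_eq_zero.mp (show (2 : F) * β.B a (Φ.u x a) = 0 by linear_combination -e)).resolve_left Φ.two
        · intro d d' _ _ h h'; rw [β.add_right, h, h', add_zero]
        · intro r d _ h; rw [β.smul_right, h, mul_zero]
      rw [show siegel ha hs = siegel ha (hperp d hd s) * siegel ha (hperp d' hd' s) by
        rw [siegel_mul]; exact LinearEquiv.ext fun y => by rw [siegel_apply, siegel_apply, smul_add], map_mul]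
      exact G.mul_mem (ihd s _) (ihd' s _)
    · intro r d _ ih s hs
      have hs' : polar Q a ((s * r) • d) = 0 := by rwa [← smul_smul]
      rw [show siegel ha hs = siegel ha hs' from LinearEquiv.ext fun y => by
        rw [siegel_apply, siegel_apply]; simp only [smul_smul, mul_assoc]]
      exact ih _ hs'
  by_contra hvS
  have hPND : PND Q := fun x hx => β.nondeg x fun y => by rw [← hpol]; exact hx y
  obtain ⟨w, hw1, hw2⟩ := exists_polar_sep hPND hvS 1
  have hsk := exists_skew hS hpol he a w fun x hx => by
    rw [← hpol]; exact hw1 _ (Submodule.subset_span ⟨x, hx, rfl⟩)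
  obtain ⟨c, hc⟩ := β.exists_pairing ha0
  have hav : β.B a v = 0 := by rw [← hpol]; exact hv
  have := hsk c v
  rw [hav, zero_mul, sub_zero, mul_eq_zero] at this
  rw [hpol, this.resolve_left hc] at hw2
  exact zero_ne_one hw2

/-- The derived group of the isometry group is in the group. -/
theorem commutator_le [Finite F] (hn : 5 ≤ finrank F V) (he : β.ε = 1) (ht : ∀ x, β.Trans Φ hS G x)
    {g : ↥(ORefl.Iso Q)} (hg : g ∈ commutator ↥(ORefl.Iso Q)) : pr F V g.1 ∈ G := by
  have hPND : PND Q := fun x hx => β.nondeg x fun y => by rw [← hpol]; exact hx y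
  rw [commutator_eq_root Φ.two hPND hn] at hg
  have : rootGroup Q ≤ G.comap ((pr F V).comp (ORefl.Iso Q).subtype) := by
    rw [rootGroup, Subgroup.closure_le]
    rintro g ⟨e, v, hev, hv, -, hg⟩
    show pr F V g.1 ∈ G
    rw [hg]
    exact siegel_all hS hpol he ht hev hv
  exact this hg

end Bil

end Cfsg.Agent.Classical.Frame
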