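/-
A group containing the frame in which the frame is the centraliser of each of its indices squaring to minus one is
the frame, when it is normalised by the pairs of transvections.
-/
import Cfsg.Agent.Lib.Classical.Frame.Bil.Moves
import Cfsg.Agent.Lib.Classical.Frame.Grp
import Mathlib.GroupTheory.Transfer

set_option autoImplicit false
set_option linter.unusedSectionVars false

namespace Cfsg.Agent.Classical.Frame

open Module

universe u v w

variable {F : Type u} [Field F] {V : Type v} [AddCommGroup V] [Module F V] [FiniteDimensional F V]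
  {A : Type w} [AddCommGroup A] [Finite A]

namespace Bil

variable {β : Bil F V} {Φ : Data F V A}

/-- An index of a product of two transvections is among the indices of an equal product. -/
theorem tau_pair_mem {X Y P Q : A} (hP : P ≠ 0) (hPQ : P ≠ Q)
    (h : Φ.tau X ∘ Φ.tau Y = Φ.tau P ∘ Φ.tau Q) : P = X ∨ P = Y ∨ P = X + Y := by
  have hn : P ∉ AddSubgroup.zmultiples Q := fun hm => by
    rcases Φ.mem_zmultiples.mp hm with e | e
    exacts [hP e, hPQ e]
  rw [← Φ.perp_cen, Φ.mem_perp] at hn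
  push Not at hn
  obtain ⟨v, hv, hPv⟩ := hn
  have e := congrFun h v
  rw [Function.comp_apply, Function.comp_apply, Φ.tau_of_one (Φ.mem_cen.mp hv), Φ.tau_of_neg (Φ.sg_cases hPv)] at e
  rcases Φ.sign Y v with h1 | h1
  · rw [Φ.tau_of_one h1] at e
    rcases Φ.sign X v with h2 | h2
    · rw [Φ.tau_of_one h2] at e
      exact absurd (left_eq_add.mp e) hP
    · rw [Φ.tau_of_neg h2] at e
      exact Or.inl (add_left_cancel e).symm
  · rw [Φ.tau_of_neg h1] at e
    rcases Φ.sign X (v + Y) with h2 | h2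
    · rw [Φ.tau_of_one h2] at e
      exact Or.inr (Or.inl (add_left_cancel e).symm)
    · rw [Φ.tau_of_neg h2, add_assoc] at e
      exact Or.inr (Or.inr ((add_left_cancel e).symm.trans (add_comm _ _)))

theorem tau_tau (z a : A) : Φ.tau z (Φ.tau z a) = a := by
  rcases Φ.sign z a with h | h
  · rw [Φ.tau_of_one h, Φ.tau_of_one h]
  · rw [Φ.tau_of_neg h, Φ.tau_of_neg (by rw [Φ.sg_add, h, Φ.sg_self, mul_one]), add_assoc, Φ.elem, add_zero]

theorem tau_map {g : PG F V} {f : A → A} (hf : Φ.Acts g f) (z a : A) : f (Φ.tau z a) = Φ.tau (f z) (f a) := by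
  rcases Φ.sign z a with h | h
  · rw [Φ.tau_of_one h, Φ.tau_of_one (by rw [hf.sg, h])]
  · rw [Φ.tau_of_neg h, Φ.tau_of_neg (by rw [hf.sg, h]), hf.add]

variable (hS : β.Setup Φ) (hA : 64 ≤ Nat.card A)

include hS hA

theorem one3 {a : A} (ha : One Φ a) (b c : A) :
    ∃ y, One Φ y ∧ Φ.sg a y = 1 ∧ Φ.sg b y = 1 ∧ Φ.sg c y = 1 := by
  have h8 : Nat.card (S4 a b c 0) ≤ 8 :=
    (card_sup_le _ _).trans (Nat.mul_le_mul ((card_sup_le _ _).trans (Nat.mul_le_mul (Φ.card_zmultiples_le a)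
      (Φ.card_zmultiples_le b))) ((card_sup_le _ _).trans (Nat.mul_le_mul (m₂ := 1) (Φ.card_zmultiples_le c)
      (le_of_eq (by rw [AddSubgroup.zmultiples_zero_eq_bot, AddSubgroup.card_bot])))))
  obtain ⟨y, hy, hy1⟩ := exists_one_perp hS (S := S4 a b c 0)
    (Or.inr (Or.inl ⟨by nlinarith, a, (mem_S4 a b c 0).1, ha⟩))
  obtain ⟨h1, h2, h3, -⟩ := sg_of_perp hy
  exact ⟨y, hy1, h1, h2, h3⟩

omit hA in
theorem one2 (hA : 16 ≤ Nat.card A) {a : A} (ha : One Φ a) (b : A) :
    ∃ y, One Φ y ∧ Φ.sg a y = 1 ∧ Φ.sg b y = 1 := by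
  have h1 : Nat.card (AddSubgroup.zmultiples (0 : A) ⊔ AddSubgroup.zmultiples (0 : A) : AddSubgroup A) ≤ 1 := by
    rw [AddSubgroup.zmultiples_zero_eq_bot, bot_sup_eq, AddSubgroup.card_bot]
  have h4 : Nat.card (S4 a b 0 0) ≤ 4 :=
    (card_sup_le _ _).trans (Nat.mul_le_mul ((card_sup_le _ _).trans (Nat.mul_le_mul
      (Φ.card_zmultiples_le a) (Φ.card_zmultiples_le b))) h1)
  obtain ⟨y, hy, hy1⟩ := exists_one_perp hS (S := S4 a b 0 0)
    (Or.inr (Or.inl ⟨by nlinarith, a, (mem_S4 a b 0 0).1, ha⟩))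
  obtain ⟨h1, h2, -, -⟩ := sg_of_perp hy
  exact ⟨y, hy1, h1, h2⟩

omit hA in
theorem exists_anti_one (hA : 16 ≤ Nat.card A) : ∃ p q, One Φ p ∧ One Φ q ∧ Φ.sg p q = -1 := by
  obtain ⟨p, -, hp⟩ := exists_one_perp hS (S := (⊥ : AddSubgroup A))
    (Or.inl (by rw [AddSubgroup.card_bot]; omega))
  obtain ⟨z, hz⟩ := Φ.nd p (one_ne_zero hS hp)
  by_cases hz1 : One Φ z
  · exact ⟨p, z, hp, hz1, hz⟩
  obtain ⟨y, hy, hpy, hzy⟩ := one2 hS hA hp z
  refine ⟨p, y + z, hp, one_add_sgl hS (by rw [Φ.sg_symm z y]; exact hzy) hy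
    ((dd_sign z).resolve_right fun h => hz1 (one_iff.mpr h)), ?_⟩
  rw [Φ.sg_add, hpy, hz, one_mul]

variable (X : Subgroup (PG F V))

/-- What is asked of the group. -/
structure RigidHyp : Prop where
  le : Φ.E ≤ X
  sim : ∀ g : V ≃ₗ[F] V, pr F V g ∈ X → β.Sim g
  cent : ∀ x, One Φ x → ∀ g ∈ X, g * Φ.e x = Φ.e x * g → g ∈ Φ.E
  pair : ∀ p q, One Φ p → One Φ q → ∃ n, Φ.Acts n (Φ.tau p ∘ Φ.tau q) ∧ ∀ g ∈ X, n * g * n⁻¹ ∈ X

variable {X} (hX : RigidHyp (β := β) (Φ := Φ) X)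

include hX

omit hA in
theorem one_map {g : PG F V} (hg : g ∈ X) {f : A → A} (hf : Φ.Acts g f) {a : A} (ha : One Φ a) :
    One Φ (f a) := by
  obtain ⟨l, rfl⟩ := pr_surjective g
  exact one_iff.mpr ((conj_dd_pr hS (hX.sim l hg) (hf a)).symm.trans (dd_of_one ha))

omit hA in
/-- An element normalising the frame and fixing an index squaring to minus one fixes all. -/
theorem acts_id {g : PG F V} (hg : g ∈ X) {f : A → A} (hf : Φ.Acts g f) {y : A} (hy : One Φ y) (hfy : f y = y) :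
    f = id :=
  hf.eq (show Φ.Acts g id from by
    obtain ⟨b, hb⟩ := Φ.mem_E.mp (hX.cent y hy g hg ((hf.commute_iff y).mpr hfy))
    rw [← hb]; exact Φ.acts_e b)

omit hA in
/-- A commutator with a pair fixing an index squaring to minus one gives an equality of pairs. -/
theorem key_gen {g : PG F V} (hg : g ∈ X) {f : A → A} (hf : Φ.Acts g f) {p q y : A} (hp : One Φ p) (hq : One Φ q)
    (hy : One Φ y) (hfix : Φ.tau (f p) (Φ.tau (f q) (Φ.tau q (Φ.tau p y))) = y) :
    Φ.tau (f p) ∘ Φ.tau (f q) = Φ.tau p ∘ Φ.tau q := by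
  obtain ⟨n, hn, hnX⟩ := hX.pair p q hp hq
  obtain ⟨finv, hfi⟩ : ∃ finv : A → A, ∀ v, f (finv v) = v :=
    (Finite.injective_iff_surjective.mp hf.injective).hasRightInverse
  have hgi : Φ.Acts g⁻¹ finv := fun a => by
    have := hf (finv a)
    rw [hfi] at this
    rw [← this]; group
  have hni : Φ.Acts n⁻¹ (Φ.tau q ∘ Φ.tau p) := fun a => by
    have := hn (Φ.tau q (Φ.tau p a))
    rw [Function.comp_apply, tau_tau, tau_tau] at this
    rw [Function.comp_apply, ← this]; group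
  have hc := ((hf.mul hn).mul hgi).mul hni
  have hcX : g * n * g⁻¹ * n⁻¹ ∈ X := by
    rw [show g * n * g⁻¹ * n⁻¹ = g * (n * g⁻¹ * n⁻¹) by group]
    exact X.mul_mem hg (hnX _ (X.inv_mem hg))
  have hid := acts_id hS hX hcX hc hy (by
    simp only [Function.comp_apply]
    rw [tau_map hf, tau_map hf, hfi]
    exact hfix)
  funext a
  have e := congrFun hid (Φ.tau p (Φ.tau q a))
  simp only [Function.comp_apply, tau_tau, id_eq] at e
  rw [tau_map hf, tau_map hf, hfi] at e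
  exact e

omit hA in
/-- The normaliser of the frame in the group is the frame, for order sixteen of minus type. -/
theorem rigid_N_small (hA : 16 ≤ Nat.card A) (hno : NoSing Φ 2) {g : PG F V} (hg : g ∈ X) (hgN : g ∈ Φ.N) :
    g ∈ Φ.E := by
  have hf := Φ.acts_act hgN
  generalize Φ.act ⟨g, hgN⟩ = f at hf
  by_contra hne
  have hfix : ∀ a, One Φ a → f a ≠ a := fun a ha h => hne (hX.cent a ha g hg ((hf.commute_iff a).mpr h))
  have h0 := dd_zero (Φ := Φ) hS
  have claim : ∀ p, One Φ p →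
      (Φ.sg p (f p) = 1 ∧ f (f p) = p) ∨ (Φ.sg p (f p) = -1 ∧ f (f p) = p + f p) := by
    intro p hp
    have hq := one_map hS hX hg hf hp
    have hpq : p ≠ f p := fun e => hfix p hp e.symm
    have hd : f (f p) = p → Φ.sg p (f p) = 1 := fun e => (Φ.sign _ _).resolve_right fun h => by
      refine hfix (p + f p) (one_add_anti hS h ((dd_of_one hp).trans (dd_of_one hq).symm)) ?_
      rw [hf.add, e, add_comm]
    have hk : Φ.tau (f p) ∘ Φ.tau (f (f p)) = Φ.tau p ∘ Φ.tau (f p) := by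
      have hqr : Φ.sg (f p) (f (f p)) = Φ.sg p (f p) := hf.sg _ _
      rcases Φ.sign p (f p) with h | h
      · refine key_gen hS hX hg hf hp hq hq ?_
        rw [h] at hqr
        rw [Φ.tau_of_one h, Φ.tau_of_one (Φ.sg_self (f p)),
          Φ.tau_of_one (by rw [Φ.sg_symm]; exact hqr : Φ.sg (f (f p)) (f p) = 1), Φ.tau_of_one (Φ.sg_self (f p))]
      · obtain ⟨y, hy, hpy, hy2⟩ := one2 hS hA hp (f p + f (f p))
        refine key_gen hS hX hg hf hp hq hy ?_
        rw [Φ.sg_add_left] at hy2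
        rw [Φ.tau_of_one hpy]
        rcases Φ.sign (f p) y with h1 | h1
        · rw [h1, one_mul] at hy2
          rw [Φ.tau_of_one h1, Φ.tau_of_one hy2, Φ.tau_of_one h1]
        · rw [h1, neg_one_mul, neg_eq_iff_eq_neg] at hy2
          have h2 : Φ.sg (f (f p)) (y + f p) = 1 := by
            rw [Φ.sg_add, hy2, Φ.sg_symm (f p), hqr, h]; ring
          rw [Φ.tau_of_neg h1, Φ.tau_of_one h2, Φ.tau_of_neg (by rw [Φ.sg_add, h1, Φ.sg_self, mul_one] :
            Φ.sg (f p) (y + f p) = -1), add_assoc, Φ.elem, add_zero]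
    rcases tau_pair_mem (one_ne_zero hS hp) hpq hk with e | e | e
    · exact absurd e hpq
    · exact Or.inl ⟨hd e.symm, e.symm⟩
    · have e' : f (f p) = p + f p := by
        calc f (f p) = f p + f (f p) + f p := by rw [add_comm (f p), Φ.add_self_cancel]
          _ = p + f p := by rw [← e]
      refine Or.inr ⟨?_, e'⟩
      have hdd := dd_of_one (one_map hS hX hg hf hq)
      rw [e', dd_add hS, dd_of_one hp, dd_of_one hq] at hdd
      linear_combination hdd
  obtain ⟨p, r, hp, hr, hpr⟩ := exists_anti_one hS hA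
  rcases claim p hp with ⟨hc, hqf⟩ | ⟨hc, hqf⟩
  · have hinv : f ∘ f = id := acts_id hS hX (X.mul_mem hg hg) (hf.mul hf) hp hqf
    have horth : ∀ a, One Φ a → Φ.sg a (f a) = 1 := fun a ha => by
      rcases claim a ha with ⟨h, -⟩ | ⟨-, h⟩
      · exact h
      · exfalso
        have h' : f (f a) = a := congrFun hinv a
        rw [h', left_eq_add] at h
        exact one_ne_zero hS ha (hf.injective (h.trans hf.zero.symm))
    have hsing : ∀ a, One Φ a → dd Φ (a + f a) = 1 ∧ a + f a ≠ 0 := fun a ha =>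
      ⟨by rw [dd_add hS, horth a ha, dd_of_one ha, dd_of_one (one_map hS hX hg hf ha)]; ring,
        Φ.add_ne_zero (Ne.symm (hfix a ha))⟩
    have hperp : Φ.sg (p + f p) (r + f r) = 1 := by
      have e : Φ.sg (f p) r = Φ.sg p (f r) := by
        rw [← hf.sg (f p) r, show f (f p) = p from congrFun hinv p]
      rw [Φ.sg_add_left, Φ.sg_add, Φ.sg_add, hf.sg, e, hpr]
      linear_combination Φ.sg_sq p (f r)
    have hsum : dd Φ (p + f p + (r + f r)) = 1 := by
      rw [dd_add hS, hperp, (hsing p hp).1, (hsing r hr).1]; ring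
    have e := hno.two_pair (hsing p hp).1 (hsing r hr).1 hsum h0 (hsing p hp).2 (hsing r hr).2
    refine hfix (p + r) (one_add_anti hS hpr ((dd_of_one hp).trans (dd_of_one hr).symm)) ?_
    rw [hf.add]
    calc f p + f r = p + (p + f p) + f r := by rw [← add_assoc p p, Φ.elem, zero_add]
      _ = p + r + (f r + f r) := by rw [e]; abel
      _ = p + r := by rw [Φ.elem, add_zero]
  · have h3 : f ∘ f ∘ f = id := by
      refine acts_id hS hX (X.mul_mem hg (X.mul_mem hg hg)) (hf.mul (hf.mul hf)) hp ?_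
      rw [Function.comp_apply, Function.comp_apply, hqf, hf.add, hqf, add_comm p (f p), ← add_assoc, Φ.elem, zero_add]
    obtain ⟨v, hv, hpv, hqv⟩ := one2 hS hA hp (f p)
    have hqfv : Φ.sg (f p) (f v) = 1 := by rw [hf.sg]; exact hpv
    have hpfv : Φ.sg p (f v) = 1 := by
      have e : p = f (p + f p) := by rw [hf.add, hqf, add_comm p (f p), ← add_assoc, Φ.elem, zero_add]
      rw [e, hf.sg, Φ.sg_add_left, hpv, hqv, one_mul]
    rcases claim v hv with ⟨-, h⟩ | ⟨h, -⟩
    · refine hfix v hv ?_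
      have := congrFun h3 v
      rwa [Function.comp_apply, Function.comp_apply, h] at this
    · have hvp : Φ.sg v p = 1 := by rw [Φ.sg_symm]; exact hpv
      have hvq : Φ.sg v (f p) = 1 := by rw [Φ.sg_symm]; exact hqv
      have hfvq : Φ.sg (f v) (f p) = 1 := by rw [Φ.sg_symm]; exact hqfv
      have hfv := one_map hS hX hg hf hv
      have h1 : dd Φ (v + p) = 1 := by rw [dd_add hS, hvp, dd_of_one hv, dd_of_one hp]; ring
      have h2 : dd Φ (f v + f p) = 1 := by
        rw [dd_add hS, hfvq, dd_of_one hfv, dd_of_one (one_map hS hX hg hf hp)]; ring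
      have h12 : dd Φ (v + p + (f v + f p)) = 1 := by
        rw [dd_add hS, Φ.sg_add_left, Φ.sg_add, Φ.sg_add, h, hvq, hpfv, hc, h1, h2]; ring
      have hne1 : v + p ≠ 0 := Φ.add_ne_zero fun e => Φ.one_ne_neg (hvq.symm.trans (e ▸ hc))
      have hne2 : f v + f p ≠ 0 := fun e => hne1 (hf.injective (by rw [hf.add, e, hf.zero]))
      have e := hno.two_pair h1 h2 h12 h0 hne1 hne2
      have e' : f v = v + p + f p := by rw [e, add_assoc, Φ.elem, add_zero]
      rw [e', Φ.sg_add, Φ.sg_add, Φ.sg_self, hvp, hvq, one_mul, one_mul] at h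
      exact Φ.one_ne_neg h

/-- The normaliser of the frame in the group is the frame. -/
theorem rigid_N {g : PG F V} (hg : g ∈ X) (hgN : g ∈ Φ.N) : g ∈ Φ.E := by
  have hf := Φ.acts_act hgN
  generalize Φ.act ⟨g, hgN⟩ = f at hf
  by_contra hne
  have hfix : ∀ a, One Φ a → f a ≠ a := fun a ha h => hne (hX.cent a ha g hg ((hf.commute_iff a).mpr h))
  have key : ∀ p q, One Φ p → One Φ q →
      ∀ y, One Φ y → Φ.sg p y = 1 → Φ.sg q y = 1 → Φ.sg (f p) y = 1 → Φ.sg (f q) y = 1 →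
      Φ.tau (f p) ∘ Φ.tau (f q) = Φ.tau p ∘ Φ.tau q := fun p q hp hq y hy hpy hqy hfpy hfqy =>
    key_gen hS hX hg hf hp hq hy (by
      rw [Φ.tau_of_one hpy, Φ.tau_of_one hqy, Φ.tau_of_one hfqy, Φ.tau_of_one hfpy])
  have claim : ∀ p, One Φ p →
      (Φ.sg p (f p) = 1 ∧ f (f p) = p) ∨ (Φ.sg p (f p) = -1 ∧ f (f p) = p + f p) := by
    intro p hp
    have hq := one_map hS hX hg hf hp
    have hpq : p ≠ f p := fun e => hfix p hp e.symm
    obtain ⟨y, hy, h1, h2, h3⟩ := one3 hS hA hp (f p) (f (f p))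
    have hd : f (f p) = p → Φ.sg p (f p) = 1 := fun e => (Φ.sign _ _).resolve_right fun h => by
      refine hfix (p + f p) (one_add_anti hS h ((dd_of_one hp).trans (dd_of_one hq).symm)) ?_
      rw [hf.add, e, add_comm]
    rcases tau_pair_mem (one_ne_zero hS hp) hpq (key p (f p) hp hq y hy h1 h2 h2 h3) with e | e | e
    · exact absurd e hpq
    · exact Or.inl ⟨hd e.symm, e.symm⟩
    · have e' : f (f p) = p + f p := by
        calc f (f p) = f p + f (f p) + f p := by rw [add_comm (f p), Φ.add_self_cancel]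
          _ = p + f p := by rw [← e]
      refine Or.inr ⟨?_, e'⟩
      have hdd := dd_of_one (one_map hS hX hg hf hq)
      rw [e', dd_add hS, dd_of_one hp, dd_of_one hq] at hdd
      linear_combination hdd
  obtain ⟨p, -, hp, -, -⟩ := exists_anti_one hS (by omega)
  have hq := one_map hS hX hg hf hp
  have hp0 := one_ne_zero hS hp
  rcases claim p hp with ⟨hc, hqf⟩ | ⟨hc, hqf⟩
  · obtain ⟨w, hpw, hqw⟩ := Φ.exists_neg_two hp0 (one_ne_zero hS hq)
    obtain ⟨r, hr, hpr, hqr, hwr⟩ := one3 hS hA hp (f p) w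
    have hne : ∀ x, Φ.sg x w = -1 → x ≠ r := by
      intro x hx e
      rw [e, Φ.sg_symm w r, hwr] at hx
      exact Φ.one_ne_neg hx
    have hpf : Φ.sg (f r) p = 1 := by
      have e := hf.sg r (f p)
      rw [hqf] at e
      rw [e, Φ.sg_symm (f p) r]; exact hqr
    rcases tau_pair_mem hp0 (hne p hpw) (key p r hp hr p hp (Φ.sg_self p) (by rw [Φ.sg_symm p r]; exact hpr)
        (by rw [Φ.sg_symm p (f p)]; exact hc) hpf) with e | e | e
    · exact hfix p hp e.symm
    · exact hne (f p) hqw (hf.injective (by rw [hqf]; exact e))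
    · have e' : f r = p + f p := by
        calc f r = f p + f r + f p := by rw [add_comm (f p), Φ.add_self_cancel]
          _ = p + f p := by rw [← e]
      have hdd := dd_of_one (one_map hS hX hg hf hr)
      rw [e', dd_add hS, hc, dd_of_one hp, dd_of_one hq, one_mul, neg_one_mul, neg_neg] at hdd
      exact Φ.one_ne_neg hdd
  · obtain ⟨r, hr, hpr, hqr, -⟩ := one3 hS hA hp (f p) p
    have hqs : Φ.sg (f p) (f r) = 1 := by rw [hf.sg]; exact hpr
    have hps : Φ.sg p (f r) = 1 := by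
      have e := hf.sg (f p) r
      rw [hqf, Φ.sg_add_left, hqs, mul_one, hqr] at e
      exact e
    have hrp : p ≠ r := by
      rintro rfl
      rw [Φ.sg_symm, hc] at hqr
      exact Φ.one_ne_neg hqr.symm
    obtain ⟨y, hy, h1, h2, h3, h4⟩ : ∃ y, One Φ y ∧ Φ.sg p y = 1 ∧ Φ.sg (f p) y = 1 ∧ Φ.sg r y = 1 ∧
        Φ.sg (f r) y = 1 := by
      rcases Φ.sign r (f r) with h | h
      · exact ⟨r, hr, hpr, hqr, Φ.sg_self r, by rw [Φ.sg_symm r (f r)]; exact h⟩
      suffices hnd : ∀ y ∈ S4 p (f p) r (f r), y ∈ Φ.perp (S4 p (f p) r (f r)) → y = 0 by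
        obtain ⟨y, hy, hy1⟩ := exists_one_perp hS (S := S4 p (f p) r (f r))
          (Or.inr (Or.inr ⟨hnd, lt_of_le_of_lt (card_S4 (Φ := Φ) _ _ _ _) (by omega)⟩))
        exact ⟨y, hy1, sg_of_perp hy⟩
      intro y hyS hyP
      obtain ⟨z1, hz1, z2, hz2, rfl⟩ := AddSubgroup.mem_sup.mp hyS
      obtain ⟨a, ha, b, hb, rfl⟩ := AddSubgroup.mem_sup.mp hz1
      obtain ⟨a', ha', b', hb', rfl⟩ := AddSubgroup.mem_sup.mp hz2
      obtain ⟨g1, g2, g3, g4⟩ := sg_of_perp hyP
      simp only [Φ.sg_add] at g1 g2 g3 g4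
      have c2 : Φ.sg (f p) p = -1 := by rw [Φ.sg_symm p (f p)]; exact hc
      have c3 : Φ.sg r p = 1 := by rw [Φ.sg_symm p r]; exact hpr
      have c4 : Φ.sg r (f p) = 1 := by rw [Φ.sg_symm (f p) r]; exact hqr
      have c5 : Φ.sg (f r) p = 1 := by rw [Φ.sg_symm p (f r)]; exact hps
      have c6 : Φ.sg (f r) (f p) = 1 := by rw [Φ.sg_symm (f p) (f r)]; exact hqs
      have c7 : Φ.sg (f r) r = -1 := by rw [Φ.sg_symm r (f r)]; exact h
      rcases Φ.mem_zmultiples.mp ha with rfl | rfl <;> rcases Φ.mem_zmultiples.mp hb with rfl | rfl <;>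
        rcases Φ.mem_zmultiples.mp ha' with rfl | rfl <;> rcases Φ.mem_zmultiples.mp hb' with rfl | rfl <;>
        simp only [Φ.sg_zero, Φ.sg_self, hc, c2, hpr, c3, hqr, c4, hps, c5, hqs, c6, h, c7, one_mul,
          mul_one, add_zero] at g1 g2 g3 g4 ⊢ <;>
        first | exact absurd g1.symm Φ.one_ne_neg | exact absurd g2.symm Φ.one_ne_neg |
          exact absurd g3.symm Φ.one_ne_neg | exact absurd g4.symm Φ.one_ne_neg
    rcases tau_pair_mem hp0 hrp (key p r hp hr y hy h1 h3 h2 h4) with e | e | e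
    · exact hfix p hp e.symm
    · rw [← e, Φ.sg_symm, hc] at hqs
      exact Φ.one_ne_neg hqs.symm
    · have e' : f r = p + f p := by
        calc f r = f p + f r + f p := by rw [add_comm (f p), Φ.add_self_cancel]
          _ = p + f p := by rw [← e]
      rw [e', Φ.sg_add, Φ.sg_self, hc, one_mul] at hps
      exact Φ.one_ne_neg hps.symm

omit hA in
/-- The group is the frame. -/
theorem rigid [Finite F] (hA : Mid Φ) : X ≤ Φ.E := by
  haveI : Fact (Nat.Prime 2) := ⟨Nat.prime_two⟩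
  let E' : Subgroup X := Φ.E.subgroupOf X
  have hE2 : IsPGroup 2 E' := fun y => ⟨1, Subtype.ext (Subtype.ext (by
    obtain ⟨a, ha⟩ := Φ.mem_E.mp (Subgroup.mem_subgroupOf.mp y.2)
    simp only [pow_one, pow_two, Subgroup.coe_mul, Subgroup.coe_one, ← ha, Φ.e_sq]))⟩
  have hNE : ∀ k : X, k ∈ Subgroup.normalizer (E' : Set X) → k ∈ E' := fun k hk =>
    Subgroup.mem_subgroupOf.mpr ((fun h => (show ∀ n ∈ Φ.N, n ∈ X → n ∈ Φ.E from fun n hn hnX => by
      rcases hA with h64 | ⟨h16, hno⟩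
      · exact rigid_N hS h64 hX hnX hn
      · exact rigid_N_small hS hX h16 hno hnX hn) _ h k.2) (Φ.mem_N_of fun a => by
      have := ((Subgroup.mem_normalizer_iff.mp hk) ⟨Φ.e a, hX.le (Φ.e_mem a)⟩).mp
        (Subgroup.mem_subgroupOf.mpr (Φ.e_mem a))
      obtain ⟨b, hb⟩ := Φ.mem_E.mp (Subgroup.mem_subgroupOf.mp this)
      exact ⟨b, hb.symm⟩))
  obtain ⟨P, hP⟩ := hE2.exists_le_sylow
  have hPE : (P : Subgroup X) = E' := by
    by_contra hne
    haveI : Group.IsNilpotent P := P.2.isNilpotent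
    have hlt : (E'.subgroupOf P) < ⊤ := lt_top_iff_ne_top.mpr fun e =>
      hne (le_antisymm (Subgroup.subgroupOf_eq_top.mp e) hP)
    obtain ⟨y, hy, hyE⟩ := SetLike.exists_of_lt (Group.normalizerCondition_of_isNilpotent _ hlt)
    refine hyE (Subgroup.mem_subgroupOf.mpr (hNE _ ?_))
    refine Subgroup.mem_normalizer_iff.mpr fun z => ?_
    constructor
    · intro hz
      exact ((Subgroup.mem_normalizer_iff.mp hy) ⟨z, hP hz⟩).mp hz
    · intro hz
      have hzP : z ∈ (P : Subgroup X) := by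
        have h1 := P.1.mul_mem (P.1.mul_mem (P.1.inv_mem y.2) (hP hz)) y.2
        rwa [show (y : X)⁻¹ * ((y : X) * z * (y : X)⁻¹) * (y : X) = z by group] at h1
      exact ((Subgroup.mem_normalizer_iff.mp hy) ⟨z, hzP⟩).mpr hz
  have hNC : Subgroup.normalizer ((P : Subgroup X) : Set X) ≤ Subgroup.centralizer ((P : Subgroup X) : Set X) := by
    rw [hPE]
    intro k hk m hm
    obtain ⟨a, ha⟩ := Φ.mem_E.mp (Subgroup.mem_subgroupOf.mp (hNE k hk))
    obtain ⟨b, hb⟩ := Φ.mem_E.mp (Subgroup.mem_subgroupOf.mp hm)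
    exact Subtype.ext (by rw [Subgroup.coe_mul, Subgroup.coe_mul, ← ha, ← hb, Φ.e_comm])
  have hcomp := MonoidHom.ker_transferSylow_isComplement' P hNC
  have hodd : Odd (Nat.card (MonoidHom.transferSylow P hNC).ker) :=
    Nat.odd_iff.mpr (Nat.two_dvd_ne_zero.mp (MonoidHom.not_dvd_card_ker_transferSylow P hNC))
  obtain ⟨x, y, hx, hy, hxy⟩ := exists_anti_one hS hA.le
  have hxy1 := one_add_anti hS hxy ((dd_of_one hx).trans (dd_of_one hy).symm)
  have hO : (MonoidHom.transferSylow P hNC).ker ≤ E' := by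
    refine le_of_four hodd (a := (⟨Φ.e x, hX.le (Φ.e_mem x)⟩ : X)) (b := ⟨Φ.e y, hX.le (Φ.e_mem y)⟩)
      (Subtype.ext (Φ.e_sq x)) (Subtype.ext (Φ.e_sq y)) (Subtype.ext (Φ.e_comm x y))
      (fun z hz => (MonoidHom.normal_ker _).conj_mem z hz _) (fun z hz => (MonoidHom.normal_ker _).conj_mem z hz _)
      (fun z _ h => ?_) (fun z _ h => ?_) (fun z _ h => ?_)
    · exact Subgroup.mem_subgroupOf.mpr (hX.cent x hx _ z.2 (congrArg Subtype.val h).symm)
    · exact Subgroup.mem_subgroupOf.mpr (hX.cent y hy _ z.2 (congrArg Subtype.val h).symm)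
    · refine Subgroup.mem_subgroupOf.mpr (hX.cent _ hxy1 _ z.2 ?_)
      rw [Φ.e_add]
      exact (congrArg Subtype.val h).symm
  intro g hg
  obtain ⟨⟨o, p⟩, e⟩ := hcomp.2 (⟨g, hg⟩ : X)
  have : (⟨g, hg⟩ : X) ∈ E' := e ▸ E'.mul_mem (hO o.2) (hPE ▸ p.2)
  exact Subgroup.mem_subgroupOf.mp this

end Bil

end Cfsg.Agent.Classical.Frame
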