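/-
Singular vectors not perpendicular to a given vector span the space.
-/
import Cfsg.Agent.Lib.Classical.OrthRoot

set_option autoImplicit false
set_option linter.unusedSectionVars false

namespace Cfsg.Agent.Classical.Frame.Bil

open Module QuadraticMap
open Cfsg.Agent.Classical Cfsg.Agent.Classical.OCount Cfsg.Agent.Classical.ORefl Cfsg.Agent.Classical.OOmega

universe u v

variable {F : Type u} [Field F] {V : Type v} [AddCommGroup V] [Module F V] [FiniteDimensional F V] [Finite F]
  {Q : QuadraticForm F V}

/-- A vector perpendicular to the singular vectors not perpendicular to a nonzero vector is zero. -/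
theorem span_sing (h2 : (2 : F) ≠ 0) (hQ : PND Q) (hn : 4 ≤ finrank F V) {w : V} (hw : w ≠ 0) {x : V}
    (h : ∀ d, Q d = 0 → polar Q w d ≠ 0 → polar Q x d = 0) : x = 0 := by
  obtain ⟨s, hs0, hs⟩ := exists_singular h2 hQ (by omega)
  obtain ⟨f0, hp0⟩ := exists_pair hQ hs0 hs
  obtain ⟨c, hc, hwc⟩ : ∃ c, Q c = 0 ∧ polar Q w c ≠ 0 := by
    by_contra hh
    push Not at hh
    exact hw (hQ w fun y => singular_induction hp0 (motive := fun y => polar Q w y = 0)
      (fun u v hu hv => by rw [polar_add_right, hu, hv, add_zero]) hh y)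
  have hc0 : c ≠ 0 := fun e => hwc (by rw [e, polar_zero_right])
  obtain ⟨f, hp⟩ := exists_pair hQ hc0 hc
  have hres := res_pnd hQ hp
  have hdim := finrank_comp hp
  have hcf : polar Q c f = 1 := hp.2.2
  have hxc : polar Q x c = 0 := h c hc hwc
  obtain ⟨A, hA⟩ : ∃ A : comp Q (c, f) → F, ∀ z, A z = polar Q x f + polar Q x (z : V) := ⟨_, fun _ => rfl⟩
  obtain ⟨L, hL⟩ : ∃ L : comp Q (c, f) → F,
      ∀ z, L z = -Q (z : V) * polar Q w c + polar Q w f + polar Q w (z : V) := ⟨_, fun _ => rfl⟩
  have hLA : ∀ z, A z ≠ 0 → L z = 0 := by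
    intro z hz
    by_contra hne
    obtain ⟨hcz, hfz⟩ := mem_comp.mp z.2
    refine hz ?_
    have := h ((-Q (z : V)) • c + f + z) (by
        rw [map_two, map_two, QuadraticMap.map_smul, polar_smul_left, polar_add_left, polar_smul_left,
          show polar Q c (z : V) = 0 from hcz, show polar Q f (z : V) = 0 from hfz, hc, hp.2.1, hcf]
        simp only [smul_eq_mul]; ring)
      (by rw [polar_add_right, polar_add_right, polar_smul_right, smul_eq_mul, ← hL]; exact hne)
    rw [polar_add_right, polar_add_right, polar_smul_right, hxc, smul_zero, zero_add] at this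
    rw [hA]; exact this
  suffices key : ∀ z, A z = 0 by
    have hxf : polar Q x f = 0 := by
      have := key 0
      rwa [hA, Submodule.coe_zero, polar_zero_right, add_zero] at this
    have hcomp : ∀ z : comp Q (c, f), polar Q x (z : V) = 0 := fun z => by
      have := key z
      rwa [hA, hxf, zero_add] at this
    exact hQ x fun y => by
      obtain ⟨q, hq⟩ : ∃ q, q = y - polar Q f y • c - polar Q c y • f := ⟨_, rfl⟩
      have hmem : q ∈ comp Q (c, f) := hq ▸ exists_split hp y
      rw [show y = q + polar Q f y • c + polar Q c y • f by rw [hq]; abel, polar_add_right, polar_add_right,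
        polar_smul_right, polar_smul_right, hxc, hxf, hcomp ⟨q, hmem⟩, smul_zero, smul_zero, add_zero, add_zero]
  intro z1
  by_contra hz1
  let φ : comp Q (c, f) →ₗ[F] F := (Q.polarBilin x).comp (comp Q (c, f)).subtype
  have hker : ∀ y : comp Q (c, f), polar Q x (y : V) = 0 → y = 0 := by
    intro y hy
    have line : ∀ z, A z ≠ 0 → Q (y : V) = 0 ∧ polar Q w c * polar Q (z : V) (y : V) = polar Q w (y : V) := by
      intro z hz
      have h0 := hLA z hz
      have e1 : ∀ t : F, -Q ((z : V) + t • (y : V)) * polar Q w c + polar Q w f + polar Q w ((z : V) + t • (y : V)) = 0 :=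
        fun t => by
        have := hLA (z + t • y) (by
          rw [hA, Submodule.coe_add, Submodule.coe_smul, polar_add_right, polar_smul_right, hy, smul_zero, add_zero,
            ← hA]
          exact hz)
        rwa [hL, Submodule.coe_add, Submodule.coe_smul] at this
      have p1 := e1 1
      have p2 := e1 (-1)
      rw [hL] at h0
      simp only [map_two, QuadraticMap.map_smul, polar_add_right, polar_smul_right, smul_eq_mul] at p1 p2
      constructor
      · refine (mul_eq_zero.mp ((mul_eq_zero.mp (show (2 : F) * (Q (y : V) * polar Q w c) = 0 by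
          linear_combination 2 * h0 - p1 - p2)).resolve_left h2)).resolve_right hwc
      · refine sub_eq_zero.mp ((mul_eq_zero.mp (show (2 : F) * _ = 0 by
          linear_combination p2 - p1)).resolve_left h2)
    refine hres y fun d => ?_
    have hd : ∃ e : F, (e = 1 ∨ e = -1) ∧ A (z1 + e • d) ≠ 0 := by
      by_contra hh
      push Not at hh
      refine hz1 ((mul_eq_zero.mp (show (2 : F) * A z1 = 0 from ?_)).resolve_left h2)
      have a1 := hh 1 (Or.inl rfl)
      have a2 := hh (-1) (Or.inr rfl)
      simp only [hA, Submodule.coe_add, Submodule.coe_smul, polar_add_right, polar_smul_right, smul_eq_mul] at a1 a2 ⊢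
      linear_combination a1 + a2
    obtain ⟨e, he, hAe⟩ := hd
    have l1 := (line z1 hz1).2
    have l2 := (line _ hAe).2
    rw [Submodule.coe_add, Submodule.coe_smul, polar_add_left, polar_smul_left, smul_eq_mul] at l2
    show polar (res Q (c, f)) y d = 0
    have e0 : polar (res Q (c, f)) y d = polar Q (y : V) (d : V) := rfl
    rw [e0, polar_comm Q (y : V) (d : V)]
    refine (mul_eq_zero.mp (show (e * polar Q w c) * polar Q (d : V) (y : V) = 0 by
      linear_combination l2 - l1)).resolve_left (mul_ne_zero ?_ hwc)
    rcases he with rfl | rfl <;> simp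
  have h1 := LinearMap.finrank_range_add_finrank_ker φ
  have h3 : finrank F (LinearMap.range φ) ≤ 1 := (Submodule.finrank_le _).trans (by rw [Module.finrank_self])
  have h4 : LinearMap.ker φ = ⊥ := (Submodule.eq_bot_iff _).mpr fun y hy => hker y hy
  rw [h4, finrank_bot] at h1
  omega

end Cfsg.Agent.Classical.Frame.Bil
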