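/-
For a skew form, rank two transvections commuting with the frame maps give all symplectic transvections.
-/
import Cfsg.Agent.Lib.Classical.Frame.Bil.Trans
import Cfsg.Agent.Lib.Classical.Frame.Bil.Rigid
import Cfsg.Agent.Lib.Classical.Frame.Bil.Sing

set_option autoImplicit false
set_option linter.unusedSectionVars false

namespace Cfsg.Agent.Classical.Frame

open Module QuadraticMap
open Cfsg.Agent.Classical.OCount

universe u v w

variable {F : Type u} [Field F] {V : Type v} [AddCommGroup V] [Module F V] [FiniteDimensional F V]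
  {A : Type w} [AddCommGroup A] [Finite A]

namespace Bil

variable {β : Bil F V} {Φ : Data F V A} {G : Subgroup (PG F V)}

theorem alt (Φ : Data F V A) (he : β.ε = -1) (a : V) : β.B a a = 0 :=
  (mul_eq_zero.mp (show (2 : F) * β.B a a = 0 by
    have := β.swap a a
    rw [he] at this
    linear_combination this)).resolve_left Φ.two

/-- A symplectic transvection. -/
def tr (a : V) (ha : β.B a a = 0) (c : F) : V ≃ₗ[F] V where
  toFun v := v + (c * β.B v a) • a
  map_add' v w := by rw [β.add_left, mul_add, add_smul]; abel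
  map_smul' r v := by rw [β.smul_left, RingHom.id_apply, smul_add, smul_smul, mul_left_comm]
  invFun v := v + (-c * β.B v a) • a
  left_inv v := by simp only [β.add_left, β.smul_left, ha]; module
  right_inv v := by simp only [β.add_left, β.smul_left, ha]; module

theorem tr_apply (a : V) (ha : β.B a a = 0) (c : F) (v : V) : tr a ha c v = v + (c * β.B v a) • a := rfl

variable (β G) in
/-- All transvections with the given centre are in the group. -/
def TC (a : V) : Prop := ∀ (ha : β.B a a = 0) (c : F), pr F V (tr a ha c) ∈ G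

theorem TC_zero : TC β G 0 := fun ha c => by
  rw [show tr 0 ha c = 1 from LinearEquiv.ext fun v => by rw [tr_apply, smul_zero, add_zero]; rfl, map_one]
  exact G.one_mem

theorem TC_add (Φ : Data F V A) (he : β.ε = -1) {a b : V} (ha : TC β G a) (hb : TC β G b) (s : F) :
    TC β G (a + (s * β.B a b) • b) := by
  intro hab c
  have hb0 := alt Φ he b
  have ha0 := alt Φ he a
  have e : tr b hb0 s * tr a ha0 c * (tr b hb0 s)⁻¹ = tr _ hab c := by
    refine LinearEquiv.ext fun v => ?_
    obtain ⟨w, rfl⟩ := (tr b hb0 s).surjective v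
    rw [LinearEquiv.mul_apply, LinearEquiv.mul_apply,
      show (tr b hb0 s)⁻¹ (tr b hb0 s w) = w from (tr b hb0 s).symm_apply_apply w]
    simp only [tr_apply, β.add_left, β.add_right, β.smul_left, β.smul_right, hb0, β.swap a b, he]
    module
  rw [← e, map_mul, map_mul, map_inv]
  exact G.mul_mem (G.mul_mem (hb hb0 s) (ha ha0 c)) (G.inv_mem (hb hb0 s))

variable (hS : β.Setup Φ)

include hS

theorem u_skew {x : A} (hx : One Φ x) (v w : V) : β.B (Φ.u x v) w = -β.B v (Φ.u x w) := by
  rw [← hS.isom x v (Φ.u x w), hx, β.neg_right, neg_neg]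

variable {α γ : F} {x y : A}

theorem TC_eig (he : β.ε = -1) (ht : ∀ x, β.Trans Φ hS G x) (hx : One Φ x) (hy : One Φ y)
    (hxy : Φ.sg x y = -1) (hαγ : α * α + γ * γ = -1) {a : V} (hea : α • Φ.u x a + γ • Φ.u y a = a)
    (hac : β.B a (γ • Φ.u x a - α • Φ.u y a) = 0) : TC β G a := by
  intro ha0 s
  have hz : One Φ (x + y) := one_add_anti hS hxy ((dd_of_one hx).trans (dd_of_one hy).symm)
  obtain ⟨c, hc⟩ : ∃ c, c = γ • Φ.u x a - α • Φ.u y a := ⟨_, rfl⟩
  rw [← hc] at hac
  have e1 : Φ.u x a = -(α • a + γ • c) := by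
    linear_combination (norm := module) -α • hea + γ • hc + hαγ • Φ.u x a
  have e2 : Φ.u y a = α • c - γ • a := by
    linear_combination (norm := module) -γ • hea - α • hc + hαγ • Φ.u y a
  have e3 : Φ.u x (Φ.u y a) = -c := by
    have hxy' : ∀ v, Φ.u y (Φ.u x v) = (-1 : F) • Φ.u x (Φ.u y v) := fun v => by
      rw [Φ.comm y x, Φ.sg_symm x y, hxy]
    have h1 := congrArg (Φ.u x) hea
    rw [map_add, map_smul, map_smul, hx] at h1
    have h2 : Φ.u y (Φ.u y a) = -a := hy a
    have hc' : Φ.u y c = γ • Φ.u y (Φ.u x a) + α • a := by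
      rw [hc, map_sub, map_smul, map_smul, h2]; module
    have h3 := congrArg (Φ.u y) hea
    rw [map_add, map_smul, map_smul, h2, hxy'] at h3
    linear_combination (norm := module) hc + α • h3 - γ • h1 + hαγ • Φ.u x (Φ.u y a)
  obtain ⟨m, hm⟩ := Φ.mul x y
  have hm2 : m * m = 1 := by rcases mul_const hS hm with e | e <;> simp [e]
  have e4 : Φ.u (x + y) a = -(m • c) := by
    rw [← smul_neg, ← e3, hm, smul_smul, hm2, one_smul]
  have hcc : β.B c c = 0 := alt Φ he c
  have hac' : β.B c a = 0 := by rw [β.swap, hac, mul_zero]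
  have hIx : β.Iso Φ x a := ⟨ha0, by
    rw [e1, β.neg_right, β.add_right, β.smul_right, β.smul_right, ha0, hac, mul_zero, mul_zero, add_zero, neg_zero]⟩
  have hIy : β.Iso Φ y a := ⟨ha0, by
    rw [e2, β.sub_right, β.smul_right, β.smul_right, ha0, hac, mul_zero, mul_zero, sub_zero]⟩
  have hIz : β.Iso Φ (x + y) a := ⟨ha0, by
    rw [e4, β.neg_right, β.smul_right, hac, mul_zero, neg_zero]⟩
  obtain ⟨r, hr⟩ : ∃ r, r = s * (2 : F)⁻¹ := ⟨_, rfl⟩
  have hs : 2 * r = s := by rw [hr, mul_left_comm, mul_inv_cancel₀ Φ.two, mul_one]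
  have key : TE hS hx hIx r * TE hS hy hIy r * TE hS hz hIz r = tr a ha0 s := by
    refine LinearEquiv.ext fun v => ?_
    simp only [LinearEquiv.mul_apply, TE_apply, lop_neg he, tr_apply, e1, e2, e4, β.add_left, β.add_right,
      β.sub_left, β.sub_right, β.neg_left, β.neg_right, β.smul_left, β.smul_right, ha0, hac, hac', hcc]
    subst hs
    linear_combination (norm := module) (r * β.B v a) • hαγ • a + (r * β.B v c) • hαγ • c
      + (r * β.B v c) • hm2 • c
  rw [← key, map_mul, map_mul]
  exact G.mul_mem (G.mul_mem (ht x hx a hIx r) (ht y hy a hIy r)) (ht _ hz a hIz r)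

theorem TC_all [Finite F] (hA : Wide Φ) (he : β.ε = -1)
    (ht : ∀ x, β.Trans Φ hS G x) : ∀ a, TC β G a := by
  classical
  obtain ⟨x, y, hx, hy, hxy⟩ := exists_anti_one hS (by have := hA.le; omega)
  obtain ⟨α, γ, hαγ⟩ : ∃ α γ : F, α * α + γ * γ = -1 := by
    obtain ⟨p, hp⟩ := CharP.exists F
    haveI : NeZero p := ⟨(CharP.char_is_prime F p).ne_zero⟩
    obtain ⟨a, b, hab⟩ := CharP.sq_add_sq F p (-1)
    exact ⟨a, b, by push_cast at hab; linear_combination hab⟩
  obtain ⟨e, he'⟩ : ∃ e : End F V, e = α • Φ.m x + γ • Φ.m y := ⟨_, rfl⟩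
  obtain ⟨f, hf'⟩ : ∃ f : End F V, f = γ • Φ.m x - α • Φ.m y := ⟨_, rfl⟩
  have hev : ∀ v, e v = α • Φ.u x v + γ • Φ.u y v := fun v => by rw [he']; rfl
  have hfv : ∀ v, f v = γ • Φ.u x v - α • Φ.u y v := fun v => by rw [hf']; rfl
  have hyx : ∀ v, Φ.u y (Φ.u x v) = (-1 : F) • Φ.u x (Φ.u y v) := fun v => by
    rw [Φ.comm y x, Φ.sg_symm x y, hxy]
  have hee : ∀ v, e (e v) = v := fun v => by
    simp only [hev, map_add, map_smul, hx _, hy _, hyx]
    linear_combination (norm := module) -hαγ • v
  have hff : ∀ v, f (f v) = v := fun v => by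
    simp only [hfv, map_sub, map_smul, hx _, hy _, hyx]
    linear_combination (norm := module) -hαγ • v
  have hef : ∀ v, e (f v) = -f (e v) := fun v => by
    simp only [hev, hfv, map_add, map_sub, map_smul, hx _, hy _, hyx]
    module
  have heB : ∀ v w, β.B (e v) w = -β.B v (e w) := fun v w => by
    rw [hev, hev, β.add_left, β.add_right, β.smul_left, β.smul_left, β.smul_right, β.smul_right, u_skew hS hx,
      u_skew hS hy]
    ring
  have hfB : ∀ v w, β.B (f v) w = -β.B v (f w) := fun v w => by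
    rw [hfv, hfv, β.sub_left, β.sub_right, β.smul_left, β.smul_left, β.smul_right, β.smul_right, u_skew hS hx,
      u_skew hS hy]
    ring
  let U : Submodule F V := LinearMap.ker (e - 1)
  have hmemU : ∀ v, v ∈ U ↔ e v = v := fun v => by
    rw [LinearMap.mem_ker, LinearMap.sub_apply, sub_eq_zero, Module.End.one_apply]
  have hiso : ∀ a ∈ U, ∀ b ∈ U, β.B a b = 0 := fun a ha b hb => by
    have h := heB a b
    rw [(hmemU a).mp ha, (hmemU b).mp hb] at h
    exact (mul_eq_zero.mp (show (2 : F) * β.B a b = 0 by linear_combination h)).resolve_left Φ.two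
  have hsym : ∀ a b, β.B b (f a) = β.B a (f b) := fun a b => by
    rw [β.swap (f a) b, hfB, he]; ring
  have hdec : ∀ v, ∃ u ∈ U, ∃ w ∈ U, v = u + f w := fun v => by
    have h : (2 : F)⁻¹ * 2 = 1 := inv_mul_cancel₀ Φ.two
    refine ⟨(2 : F)⁻¹ • (v + e v), (hmemU _).mpr (by rw [map_smul, map_add, hee, add_comm]),
      (2 : F)⁻¹ • f (v - e v), (hmemU _).mpr (by rw [map_smul, hef, map_sub, hee, ← map_neg, neg_sub]), ?_⟩
    rw [map_smul, hff]
    linear_combination (norm := module) -h • v
  let Bg : LinearMap.BilinForm F U := LinearMap.mk₂ F (fun a b => β.B (a : V) (f b))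
    (fun a a' b => β.add_left _ _ _) (fun c a b => β.smul_left _ _ _)
    (fun a b b' => by rw [Submodule.coe_add, map_add, β.add_right])
    (fun c a b => by rw [Submodule.coe_smul, map_smul, β.smul_right, smul_eq_mul])
  let Q : QuadraticForm F U := Bg.toQuadraticMap
  have hQ : ∀ a : U, Q a = β.B (a : V) (f a) := fun a => rfl
  have hpol : ∀ a b : U, polar Q a b = 2 * β.B (a : V) (f b) := fun a b => by
    rw [QuadraticMap.polar, hQ, hQ, hQ, Submodule.coe_add, map_add, β.add_left, β.add_right, β.add_right,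
      hsym a b]
    ring
  have hPND : PND Q := fun a ha => Subtype.ext (β.nondeg a fun v => by
    obtain ⟨u, hu, w, hw, rfl⟩ := hdec v
    have := ha ⟨w, hw⟩
    rw [hpol, mul_eq_zero] at this
    rw [β.add_right, hiso a a.2 u hu, this.resolve_left Φ.two, add_zero])
  have hUdim : 4 ≤ finrank F U := by
    have hs : Submodule.map f U ⊔ U = ⊤ := eq_top_iff.mpr fun v _ => by
      obtain ⟨u, hu, w, hw, rfl⟩ := hdec v
      rw [add_comm]
      exact Submodule.add_mem_sup ⟨w, hw, rfl⟩ hu
    have h1 := Submodule.finrank_add_le_finrank_add_finrank (Submodule.map f U) U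
    rw [hs, finrank_top] at h1
    have h2 := Submodule.finrank_map_le f U
    have h3 := Φ.dim
    have := hA.le
    nlinarith
  have hC1 : ∀ d : U, Q d = 0 → TC β G (d : V) := fun d hd =>
    TC_eig hS he ht hx hy hxy hαγ (by rw [← hev]; exact (hmemU _).mp d.2) (by rw [← hfv]; exact hd)
  have hC2 : ∀ d : U, Q d = 0 → TC β G (f (d : V)) := fun d hd => by
    refine TC_eig hS he ht hx hy hxy (α := -α) (γ := -γ) (by linear_combination hαγ) ?_ ?_
    · rw [neg_smul, neg_smul, ← neg_add, ← hev, hef, (hmemU _).mp d.2, neg_neg]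
    · rw [neg_smul, neg_smul, show -(γ • Φ.u x (f d)) - -(α • Φ.u y (f d)) =
        -(γ • Φ.u x (f d) - α • Φ.u y (f d)) by abel, ← hfv, β.neg_right, hfB, hff, neg_neg]
      exact hd
  have hspan : ∀ w : U, w ≠ 0 → ∀ δ : U, δ ∈ Submodule.span F {d : U | Q d = 0 ∧ polar Q w d ≠ 0} := by
    intro w hw δ
    by_contra hδ
    obtain ⟨z, hz1, hz2⟩ := Cfsg.Agent.Classical.ORefl.exists_polar_sep hPND hδ 1
    have := span_sing Φ.two hPND hUdim hw (x := z) fun d hd hwd => hz1 d (Submodule.subset_span ⟨hd, hwd⟩)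
    rw [this, polar_zero_left] at hz2
    exact zero_ne_one hz2
  have hshiftU : ∀ (w : U), w ≠ 0 → ∀ δ : U, ∀ u : U, TC β G ((u : V) + f w) →
      TC β G (((u + δ : U) : V) + f w) := by
    intro w hw δ
    suffices key : ∀ s : F, ∀ u : U, TC β G ((u : V) + f w) → TC β G (((u + s • δ : U) : V) + f w) by
      intro u hu; simpa using key 1 u hu
    refine Submodule.span_induction ?_ ?_ ?_ ?_ (hspan w hw δ)
    · rintro d ⟨hd, hwd⟩ s u hu
      rw [hpol] at hwd
      have hwd' : β.B (f (w : V)) (d : V) ≠ 0 := by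
        rw [hfB, neg_ne_zero]
        exact right_ne_zero_of_mul hwd
      have := TC_add Φ he hu (hC1 d hd) (s * (β.B (f (w : V)) (d : V))⁻¹)
      rw [β.add_left, hiso u u.2 d d.2, zero_add, inv_mul_cancel_right₀ hwd'] at this
      convert this using 1
      simp only [Submodule.coe_add, Submodule.coe_smul]
      abel
    · intro s u hu; simpa using hu
    · intro a b _ _ ha hb s u hu
      rw [smul_add, ← add_assoc]
      exact hb s _ (ha s u hu)
    · intro r a _ ha s u hu
      rw [smul_smul]; exact ha _ u hu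
  have hshiftW : ∀ (u : U), u ≠ 0 → ∀ δ : U, ∀ w : U, TC β G ((u : V) + f w) →
      TC β G ((u : V) + f ((w + δ : U) : V)) := by
    intro u hu δ
    suffices key : ∀ s : F, ∀ w : U, TC β G ((u : V) + f w) → TC β G ((u : V) + f ((w + s • δ : U) : V)) by
      intro w hw; simpa using key 1 w hw
    refine Submodule.span_induction ?_ ?_ ?_ ?_ (hspan u hu δ)
    · rintro d ⟨hd, hud⟩ s w hw
      rw [hpol] at hud
      have hud' : β.B (u : V) (f d) ≠ 0 := right_ne_zero_of_mul hud
      have e0 : β.B (f (w : V)) (f (d : V)) = 0 := by rw [hfB, hff, hiso w w.2 d d.2, neg_zero]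
      have := TC_add Φ he hw (hC2 d hd) (s * (β.B (u : V) (f d))⁻¹)
      rw [β.add_left, e0, add_zero, inv_mul_cancel_right₀ hud'] at this
      convert this using 1
      simp only [Submodule.coe_add, Submodule.coe_smul, map_add, map_smul]
      abel
    · intro s w hw; simpa using hw
    · intro a b _ _ ha hb s w hw
      rw [smul_add, ← add_assoc]
      exact hb s _ (ha s w hw)
    · intro r a _ ha s w hw
      rw [smul_smul]; exact ha _ w hw
  obtain ⟨c, hc0, hc⟩ := Cfsg.Agent.Classical.OOmega.exists_singular Φ.two hPND (by omega)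
  have hcw : ∀ w : U, TC β G ((c : V) + f w) := fun w => by
    have := hshiftW c hc0 w 0 (by simpa using hC1 c hc)
    simpa using this
  have hall : ∀ w : U, w ≠ 0 → ∀ u : U, TC β G ((u : V) + f w) := fun w hw u => by
    have := hshiftU w hw (u - c) c (hcw w)
    rwa [add_sub_cancel] at this
  intro v
  obtain ⟨u, hu, w, hw, rfl⟩ := hdec v
  rcases eq_or_ne (⟨w, hw⟩ : U) 0 with hw0 | hw0
  · have hw' : w = 0 := congrArg Subtype.val hw0
    rcases eq_or_ne (⟨u, hu⟩ : U) 0 with hu0 | hu0
    · rw [hw', map_zero, add_zero, show u = 0 from congrArg Subtype.val hu0]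
      exact TC_zero
    · have := hshiftW ⟨u, hu⟩ hu0 (-c) c (hall c hc0 ⟨u, hu⟩)
      rw [hw']
      simpa using this
  · exact hall ⟨w, hw⟩ hw0 ⟨u, hu⟩

end Bil

end Cfsg.Agent.Classical.Frame
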