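/-
The centraliser of a frame map squaring to minus one normalises the frame when it permutes its part of the frame;
the other possibility passes from one such index to all of them.
-/
import Cfsg.Agent.Lib.Classical.Frame.Bil.Trans
import Cfsg.Agent.Lib.Classical.Frame.Block

set_option autoImplicit false
set_option linter.unusedSectionVars false

namespace Cfsg.Agent.Classical.Frame

open Module

universe u v w

variable {F : Type u} [Field F] {V : Type v} [AddCommGroup V] [Module F V] [FiniteDimensional F V]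
  {A : Type w} [AddCommGroup A] [Finite A]

namespace Bil

variable {β : Bil F V} {Φ : Data F V A} {G : Subgroup (PG F V)}

/-- An element commuting projectively with such a frame map permutes the commuting part of the frame. -/
theorem part (hS : β.Setup Φ) (hG : β.Grp Φ G) {x : A} (hx : One Φ x) (hsp : Split1 Φ G x) {g : PG F V}
    (hg : g ∈ G) (hgx : g * Φ.e x = Φ.e x * g) {p : A} (hp : p ∈ Φ.cen x) :
    ∃ q ∈ Φ.cen x, g * Φ.e p * g⁻¹ = Φ.e q := by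
  obtain ⟨k, rfl⟩ := pr_surjective g
  obtain ⟨c, hc, hk⟩ := Φ.exists_sign hgx
  rcases hc with rfl | rfl
  · exact hsp k hg (fun v => by rw [hk, one_smul]) p hp
  obtain ⟨z, hz⟩ := Φ.nd x (one_ne_zero hS hx)
  obtain ⟨q, hq, e⟩ := hsp (k * Φ.u z) (by rw [map_mul]; exact G.mul_mem hg (hG.le (Φ.e_mem z))) (fun v => by
    rw [LinearEquiv.mul_apply, LinearEquiv.mul_apply, Φ.comm z x, Φ.sg_symm x z, hz, map_smul, hk, smul_smul,
      neg_one_mul, neg_neg, one_smul]) p hp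
  refine ⟨q, hq, ?_⟩
  rw [← e, map_mul]
  calc pr F V k * Φ.e p * (pr F V k)⁻¹ = pr F V k * (Φ.e z * Φ.e p * (Φ.e z)⁻¹) * (pr F V k)⁻¹ := by
        rw [Φ.e_comm z p, mul_inv_cancel_right]
    _ = _ := by rw [Data.e]; group

/-- If every such index is split, its centraliser normalises the frame. -/
theorem cent_one (hS : β.Setup Φ) (hG : β.Grp Φ G) (hA : Wide Φ)
    (hsp : ∀ x, One Φ x → Split1 Φ G x) {x : A} (hx : One Φ x) {g : PG F V} (hg : g ∈ G)
    (hgx : g * Φ.e x = Φ.e x * g) : g ∈ Φ.N := by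
  obtain ⟨z, hz⟩ := Φ.nd x (one_ne_zero hS hx)
  obtain ⟨p0, hp, hxp, hzp, -⟩ := exists_one_two hS hA x z
  have hpx : p0 ≠ x := by
    rintro rfl
    rw [Φ.sg_symm, hzp] at hz
    exact Φ.one_ne_neg hz
  obtain ⟨q0, hq, hgp⟩ := part hS hG hx (hsp x hx) hg hgx (Φ.mem_cen.mpr hxp)
  obtain ⟨l, hl⟩ := pr_surjective g
  have hdd : dd Φ p0 = dd Φ q0 := conj_dd_pr hS (hG.pres l (hl.symm ▸ hg)) (hl.symm ▸ hgp)
  have hq1 : One Φ q0 := one_iff.mpr (hdd.symm.trans (dd_of_one hp))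
  have hqx : q0 ≠ x := by
    rintro rfl
    refine hpx (Φ.e_injective (mul_left_cancel (a := g) (mul_right_cancel (b := g⁻¹) ?_)))
    rw [hgp, hgx, mul_inv_cancel_right]
  have hnot : ∀ y, y ≠ 0 → y ≠ x → y ∉ AddSubgroup.zmultiples x := fun y h0 h1 h => by
    rcases Φ.mem_zmultiples.mp h with h | h
    exacts [h0 h, h1 h]
  obtain ⟨n, hn, f, hf, hfp, hfx⟩ := exists_move hS hG hA hdd hxp (Φ.mem_cen.mp hq)
    (hnot _ (one_ne_zero hS hp) hpx) (hnot _ (one_ne_zero hS hq1) hqx)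
  have hnx : n * Φ.e x = Φ.e x * n := (hf.commute_iff x).mpr hfx
  have hh : n⁻¹ * g ∈ G := G.mul_mem (G.inv_mem hn) hg
  have h1 : n⁻¹ * g * Φ.e x = Φ.e x * (n⁻¹ * g) := by
    calc n⁻¹ * g * Φ.e x = n⁻¹ * (Φ.e x * g) := by rw [mul_assoc, hgx]
      _ = n⁻¹ * (Φ.e x * n) * (n⁻¹ * g) := by group
      _ = _ := by rw [← hnx]; group
  have h2 : n⁻¹ * g * Φ.e p0 = Φ.e p0 * (n⁻¹ * g) := by
    calc n⁻¹ * g * Φ.e p0 = n⁻¹ * (g * Φ.e p0 * g⁻¹) * g := by group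
      _ = n⁻¹ * (n * Φ.e p0 * n⁻¹) * g := by rw [hgp, hf p0, hfp]
      _ = _ := by group
  suffices n⁻¹ * g ∈ Φ.N by simpa using Φ.N.mul_mem hf.mem_N this
  refine Φ.mem_N_of fun a => ?_
  by_cases ha : a ∈ Φ.cen x
  · obtain ⟨b, -, hb⟩ := part hS hG hx (hsp x hx) hh h1 ha
    exact ⟨b, hb⟩
  obtain ⟨c, hc, hcx⟩ : ∃ c ∈ Φ.cen p0, Φ.sg x c = -1 := by
    have := Φ.not_mem_perp_cen (p := x) (x := p0) (one_ne_zero hS hx) hpx.symm
    rw [Φ.mem_perp] at this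
    push Not at this
    obtain ⟨c, hc, h⟩ := this
    exact ⟨c, hc, Φ.sg_cases h⟩
  have hac : a + c ∈ Φ.cen x := Φ.mem_cen.mpr (by
    rw [Φ.sg_add, hcx, Φ.sg_cases (fun e => ha (Φ.mem_cen.mpr e)), neg_one_mul, neg_neg])
  obtain ⟨b1, -, hb1⟩ := part hS hG hx (hsp x hx) hh h1 hac
  obtain ⟨b2, -, hb2⟩ := part hS hG hp (hsp p0 hp) hh h2 hc
  refine ⟨b1 + b2, ?_⟩
  rw [Φ.e_add, ← hb1, ← hb2]
  conv_lhs => rw [← Φ.add_self_cancel a c, Φ.e_add (a + c) c]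
  group

/-- The transvections commuting with one such frame map give those of every other. -/
theorem trans_all (hS : β.Setup Φ) (hG : β.Grp Φ G) (hA : Wide Φ) {x : A} (hx : One Φ x)
    (ht : β.Trans Φ hS G x) (y : A) : β.Trans Φ hS G y := by
  intro hy a ha s
  obtain ⟨n, hn, f, hf, hfx⟩ := exists_move_top hS hG hA (a := x) (b := y)
    ((dd_of_one hx).trans (dd_of_one hy).symm) (one_ne_zero hS hx) (one_ne_zero hS hy)
  obtain ⟨l, rfl⟩ := pr_surjective n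
  obtain ⟨μ, hμ, hsim⟩ := hG.pres l hn
  obtain ⟨c, -, hc⟩ := Φ.exists_smul (show pr F V l * Φ.e x * (pr F V l)⁻¹ = Φ.e y by rw [hf x, hfx])
  have hc2 : c * c = 1 := by rcases (conj_dd hS ⟨μ, hμ, hsim⟩ hc).1 with e | e <;> simp [e]
  have hl : ∀ v, l (l⁻¹ v) = v := l.apply_symm_apply
  have hB : ∀ v w, β.B (l⁻¹ v) w = μ⁻¹ * β.B v (l w) := fun v w => by
    rw [eq_inv_mul_iff_mul_eq₀ hμ, ← hsim, hl]
  have hux : l (Φ.u x (l⁻¹ a)) = c • Φ.u y a := by rw [hc, hl]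
  have ha' : β.Iso Φ x (l⁻¹ a) :=
    ⟨by rw [hB, hl, ha.1, mul_zero], by rw [hB, hux, β.smul_right, ha.2, mul_zero, mul_zero]⟩
  obtain ⟨m, hm, hlop⟩ : ∃ m : F, m ≠ 0 ∧ ∀ v, l (β.lop Φ x (l⁻¹ a) (l⁻¹ v)) = m • β.lop Φ y a v := by
    have hc0 : c ≠ 0 := fun e => by simp [e] at hc2
    rcases β.heps with he | he
    · refine ⟨μ⁻¹ * c, mul_ne_zero (inv_ne_zero hμ) hc0, fun v => ?_⟩
      rw [lop_one he, lop_one he, map_sub, map_smul, map_smul, hux, hB, hB, hl, hux, β.smul_right]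
      module
    · refine ⟨μ⁻¹, inv_ne_zero hμ, fun v => ?_⟩
      rw [lop_neg he, lop_neg he, map_add, map_smul, map_smul, hux, hB, hB, hl, hux, β.smul_right, smul_smul,
        show μ⁻¹ * (c * β.B v (Φ.u y a)) * c = μ⁻¹ * β.B v (Φ.u y a) by linear_combination (μ⁻¹ * β.B v (Φ.u y a)) * hc2]
      module
  have hk : l * TE hS hx ha' (s * m⁻¹) * l⁻¹ = TE hS hy ha s := LinearEquiv.ext fun v => by
    rw [LinearEquiv.mul_apply, LinearEquiv.mul_apply, TE_apply, TE_apply, map_add, map_smul, hl, hlop, smul_smul,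
      inv_mul_cancel_right₀ hm]
  rw [← hk, map_mul, map_mul, map_inv]
  exact G.mul_mem (G.mul_mem hn (ht hx _ ha' _)) (G.inv_mem hn)

end Bil

end Cfsg.Agent.Classical.Frame
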