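/-
The eigenspaces of a frame map squaring to one: restriction of its centraliser, and the elements trivial on one of
the two eigenspaces.
-/
import Cfsg.Agent.Lib.Classical.Frame.Bil.Rigid
import Cfsg.Agent.Lib.Classical.Frame.BigUp

set_option autoImplicit false
set_option linter.unusedSectionVars false

namespace Cfsg.Agent.Classical.Frame

open Module

universe u v w

variable {F : Type u} [Field F] {V : Type v} [AddCommGroup V] [Module F V] [FiniteDimensional F V]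
  {A : Type w} [AddCommGroup A] [Finite A]

namespace Bil

variable {β : Bil F V} {Φ : Data F V A} {G : Subgroup (PG F V)}

theorem pr_smulEquiv {g h : V ≃ₗ[F] V} {c : F} (hc : c ≠ 0) (e : ∀ v, g v = c • h v) : pr F V g = pr F V h :=
  pr_eq_pr.mpr ⟨c⁻¹, fun v => by rw [e, inv_smul_smul₀ hc]⟩

variable (Φ G) in
/-- The linear maps over `G` commuting with a frame map. -/
def Ca (a : A) : Subgroup (V ≃ₗ[F] V) where
  carrier := {k | pr F V k ∈ G ∧ ∀ v, k (Φ.u a v) = Φ.u a (k v)}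
  one_mem' := ⟨by rw [map_one]; exact G.one_mem, fun v => rfl⟩
  mul_mem' := by
    rintro k k' ⟨hk, hkx⟩ ⟨hk', hkx'⟩
    exact ⟨by rw [map_mul]; exact G.mul_mem hk hk', fun v => by rw [LinearEquiv.mul_apply, hkx', hkx]; rfl⟩
  inv_mem' := by
    rintro k ⟨hk, hkx⟩
    refine ⟨by rw [map_inv]; exact G.inv_mem hk, fun v => k.injective ?_⟩
    rw [hkx, show ∀ y, k (k⁻¹ y) = y from k.apply_symm_apply, show ∀ y, k (k⁻¹ y) = y from k.apply_symm_apply]

variable (Φ G) in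
/-- Restriction to an eigenspace. -/
noncomputable def resH (a : A) (s : F) : Ca Φ G a →* PG F (Φ.eig a s) :=
  (pr F _).comp
    { toFun := fun k => Data.restr k.1 (Geom.maps_eig k.2.2)
      map_one' := LinearEquiv.ext fun v => Subtype.ext rfl
      map_mul' := fun k k' => LinearEquiv.ext fun v => Subtype.ext rfl }

theorem resH_apply {a : A} {s : F} (k : Ca Φ G a) :
    resH Φ G a s k = pr F _ (Data.restr k.1 (Geom.maps_eig k.2.2)) := rfl

theorem resH_eq_one {a : A} {s : F} {k : Ca Φ G a} :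
    resH Φ G a s k = 1 ↔ ∃ c : F, ∀ v ∈ Φ.eig a s, k.1 v = c • v := by
  rw [resH_apply, pr_eq_one]
  exact ⟨fun ⟨c, hc⟩ => ⟨c, fun v hv => congrArg Subtype.val (hc ⟨v, hv⟩)⟩,
    fun ⟨c, hc⟩ => ⟨c, fun v => Subtype.ext (hc v v.2)⟩⟩

variable (hS : β.Setup Φ) (hG : β.Grp Φ G) {a z : A} (hd : dd Φ a = 1) (haz : Φ.sg a z = -1) {s t : F}
  (hs : s * s = 1) (ht : t = -s)

include hS in
theorem eig_orth {v w : V} (hv : v ∈ Φ.eig a s) (hw : w ∈ Φ.eig a (-s)) (hs : s * s = 1) : β.B v w = 0 := by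
  rw [Φ.mem_eig] at hv hw
  have h := hS.isom a v w
  rw [hv, hw, β.smul_left, β.smul_right] at h
  exact (mul_eq_zero.mp (show (2 : F) * β.B v w = 0 by linear_combination -h - (β.B v w) * hs)).resolve_left Φ.two

include hS hd

theorem hsa (hs : s * s = 1) (v : V) : Φ.u a (Φ.u a v) = (s * s) • v := by rw [not_one hS hd, hs, one_smul]

/-- The form on an eigenspace. -/
noncomputable def sub (hs : s * s = 1) : Bil F (Φ.eig a s) where
  B v w := β.B v w
  ε := β.ε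
  heps := β.heps
  add_left v v' w := β.add_left v v' w
  smul_left c v w := β.smul_left c v w
  swap v w := β.swap v w
  nondeg v h := Subtype.ext (β.nondeg v fun y => by
    obtain ⟨p, hp, q, hq, rfl⟩ := Geom.decomp (left_ne_zero_of_mul_eq_one hs) (hsa hS hd hs) y
    rw [β.add_right, h ⟨p, hp⟩, eig_orth hS v.2 hq hs, add_zero])

theorem sub_setup (hs : s * s = 1) :
    (sub hS hd hs).Setup (Φ.sub a z haz s (left_ne_zero_of_mul_eq_one hs) (hsa hS hd hs)) :=
  ⟨fun p v w => hS.isom p v w⟩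

omit hd in
theorem ne_of_anti {b y : A} (h : Φ.sg b y = -1) : b ≠ 0 := by
  rintro rfl
  rw [Φ.sg_symm, Φ.sg_zero] at h
  exact Φ.one_ne_neg h

include haz in
theorem exists_eig (hs : s * s = 1) : ∃ v ∈ Φ.eig a s, v ≠ 0 := by
  obtain ⟨v, hv, he⟩ := Φ.exists_eigen (ne_of_anti hS haz) (hsa hS hd hs)
  exact ⟨v, Φ.mem_eig.mpr he, hv⟩

include haz in
theorem sub_one_iff (hs : s * s = 1) {p : Φ.rest a z} :
    One (Φ.sub a z haz s (left_ne_zero_of_mul_eq_one hs) (hsa hS hd hs)) p ↔ One Φ (p : A) := by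
  refine ⟨fun h => one_iff.mpr ?_, fun h v => Subtype.ext (h v)⟩
  obtain ⟨v, hv, hv0⟩ := exists_eig hS hd haz hs
  refine smul_left_injective F hv0 ?_
  show dd Φ p • v = (-1 : F) • v
  rw [← sq_eq hS, neg_one_smul]
  exact congrArg Subtype.val (h ⟨v, hv⟩)

include hG

omit hd in
theorem u_mem_Ca {p : A} (hp : p ∈ Φ.cen a) : Φ.u p ∈ Ca Φ G a :=
  ⟨hG.le (Φ.e_mem p), fun v => by rw [Φ.comm p a, Φ.sg_symm a p, Φ.mem_cen.mp hp, one_smul]⟩

omit hd in
theorem pair_mem_Ca {p q : A} (hp : One Φ p) (hq : One Φ q) (hpa : p ∈ Φ.cen a) (hqa : q ∈ Φ.cen a) :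
    tE hp * tE hq ∈ Ca Φ G a :=
  ⟨hG.pair p q hp hq, fun v => by
    rw [LinearEquiv.mul_apply, LinearEquiv.mul_apply,
      (tE_tz hq).comm (by rw [Φ.sg_symm]; exact Φ.mem_cen.mp hqa),
      (tE_tz hp).comm (by rw [Φ.sg_symm]; exact Φ.mem_cen.mp hpa)]⟩

theorem resH_pair {p q : Φ.rest a z} (hp : One Φ (p : A)) (hq : One Φ (q : A)) :
    (Φ.sub a z haz s (left_ne_zero_of_mul_eq_one hs) (hsa hS hd hs)).Acts
      (resH Φ G a s ⟨_, pair_mem_Ca hS hG hp hq (Data.rest_cen p) (Data.rest_cen q)⟩)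
      ((Φ.sub a z haz s (left_ne_zero_of_mul_eq_one hs) (hsa hS hd hs)).tau p ∘
        (Φ.sub a z haz s (left_ne_zero_of_mul_eq_one hs) (hsa hS hd hs)).tau q) := by
  have hinv : ∀ (r : Φ.rest a z) (hr : One Φ (r : A)), ∀ v ∈ Φ.eig a s, tE hr v ∈ Φ.eig a s := fun r hr =>
    Geom.maps_eig ((tE_tz hr).comm (by rw [Φ.sg_symm]; exact Φ.mem_cen.mp (Data.rest_cen r)))
  have htz : ∀ (r : Φ.rest a z) (hr : One Φ (r : A)),
      (Φ.sub a z haz s (left_ne_zero_of_mul_eq_one hs) (hsa hS hd hs)).Tz r (Data.restr (tE hr) (hinv r hr)) :=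
    fun r hr => ⟨1, fun v => Subtype.ext (by rw [one_smul, one_smul]; exact hr v),
      fun v => Subtype.ext (by rw [one_smul]; rfl)⟩
  have e : resH Φ G a s ⟨_, pair_mem_Ca hS hG hp hq (Data.rest_cen p) (Data.rest_cen q)⟩ =
      pr F _ (Data.restr (tE hp) (hinv p hp) * Data.restr (tE hq) (hinv q hq)) := by
    rw [resH_apply]; exact congrArg _ (LinearEquiv.ext fun v => Subtype.ext rfl)
  rw [e, map_mul]
  exact (htz p hp).acts.mul (htz q hq).acts

variable (hA : Wide Φ)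

include hA hs ht haz

/-- Some element is a frame map on one eigenspace and scalar on the other. -/
theorem kone {c : A} (hc : c ∈ Φ.cen a) : ∃ k : Ca Φ G a, resH Φ G a t k = 1 ∧
    ∃ l : F, l ≠ 0 ∧ ∀ v ∈ Φ.eig a s, k.1 v = l • Φ.u c v := by
  have hone : ∀ c ∈ Φ.cen a, One Φ c → ∃ k : Ca Φ G a, resH Φ G a t k = 1 ∧
      ∃ l : F, l ≠ 0 ∧ ∀ v ∈ Φ.eig a s, k.1 v = l • Φ.u c v := by
    intro c hc hc1
    have hca : One Φ (c + a) :=
      one_add_sgl hS (by rw [Φ.sg_symm]; exact Φ.mem_cen.mp hc) hc1 hd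
    obtain ⟨m, hm⟩ := Φ.mul c a
    have hm0 := Φ.mul_ne hm
    have hm2 : m * m = 1 := by rcases mul_const hS hm with e | e <;> simp [e]
    have hu : ∀ (r : F) (v : V), v ∈ Φ.eig a r → Φ.u (c + a) v = (m * r) • Φ.u c v := fun r v hv => by
      rw [← inv_smul_smul₀ hm0 (Φ.u (c + a) v), ← hm, Φ.mem_eig.mp hv, map_smul, smul_smul,
        inv_eq_of_mul_eq_one_right hm2]
    have hK := pair_mem_Ca hS hG hc1 hca hc ((Φ.cen a).add_mem hc (Φ.self_mem_cen a))
    have hP : ∀ (r : F) (v : V), v ∈ Φ.eig a r → (tE hc1 * tE hca) v =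
        (1 - m * r) • v + (1 + m * r) • Φ.u c v := fun r v hv => by
      rw [LinearEquiv.mul_apply, tE_apply hca, hu r v hv, tE_apply, map_add, map_smul, hc1]
      module
    rcases mul_self_eq_one_iff.mp (show (m * s) * (m * s) = 1 by linear_combination (s * s) * hm2 + hs) with e | e
    · refine ⟨⟨_, hK⟩, resH_eq_one.mpr ⟨2, fun v hv => ?_⟩, 2, Φ.two, fun v hv => ?_⟩
      · show (tE hc1 * tE hca) v = _
        rw [hP t v hv, ht, show m * -s = -1 by linear_combination -e]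
        module
      · show (tE hc1 * tE hca) v = _
        rw [hP s v hv, e]
        module
    · refine ⟨⟨_, (Ca Φ G a).mul_mem (u_mem_Ca hS hG hc) hK⟩, resH_eq_one.mpr ⟨-2, fun v hv => ?_⟩, 2, Φ.two,
        fun v hv => ?_⟩
      · show Φ.u c ((tE hc1 * tE hca) v) = _
        rw [hP t v hv, ht, show m * -s = 1 by linear_combination -e, map_add, map_smul, map_smul, hc1]
        module
      · show Φ.u c ((tE hc1 * tE hca) v) = _
        rw [hP s v hv, e, map_add, map_smul, map_smul, hc1]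
        module
  by_cases hc1 : One Φ c
  · exact hone c hc hc1
  obtain ⟨y, hy, hay, hcy, -⟩ := exists_one_two hS hA a c
  have hya : y ∈ Φ.cen a := Φ.mem_cen.mpr hay
  have hcy1 : One Φ (y + c) :=
    one_add_sgl hS (by rw [Φ.sg_symm c y]; exact hcy) hy ((dd_sign c).resolve_right fun h => hc1 (one_iff.mpr h))
  obtain ⟨k1, e1, l1, hl1, h1⟩ := hone y hya hy
  obtain ⟨k2, e2, l2, hl2, h2⟩ := hone (y + c) ((Φ.cen a).add_mem hya hc) hcy1
  obtain ⟨m, hm⟩ := Φ.mul y (y + c)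
  refine ⟨k1 * k2, by rw [map_mul, e1, e2, one_mul], l1 * l2 * m,
    mul_ne_zero (mul_ne_zero hl1 hl2) (Φ.mul_ne hm), fun v hv => ?_⟩
  show k1.1 (k2.1 v) = _
  rw [h2 v hv, map_smul, h1 _ (Data.u_mem_eig ((Φ.cen a).add_mem hya hc) v hv), smul_smul, hm, smul_smul,
    ← add_assoc, Φ.elem, zero_add]
  ring_nf

theorem resH_kone {p : Φ.rest a z} {k : Ca Φ G a} {l : F} (hl : l ≠ 0)
    (h : ∀ v ∈ Φ.eig a s, k.1 v = l • Φ.u (p : A) v) :
    resH Φ G a s k = (Φ.sub a z haz s (left_ne_zero_of_mul_eq_one hs) (hsa hS hd hs)).e p := by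
  rw [resH_apply]
  exact pr_smulEquiv hl fun v => Subtype.ext (h v v.2)

omit hA in
theorem comm_global {p : A} (hp : p ∈ Φ.cen a) {k : Ca Φ G a} (h1 : resH Φ G a t k = 1)
    (h2 : ∀ v ∈ Φ.eig a s, k.1 (Φ.u p v) = Φ.u p (k.1 v)) (v : V) : k.1 (Φ.u p v) = Φ.u p (k.1 v) := by
  obtain ⟨c, hc⟩ := resH_eq_one.mp h1
  obtain ⟨x, hx, y, hy, rfl⟩ := Geom.decomp (left_ne_zero_of_mul_eq_one hs) (hsa hS hd hs) v
  rw [← ht] at hy
  simp only [map_add]
  rw [h2 x hx, hc y hy, hc _ (Data.u_mem_eig hp y hy), map_smul]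

omit hG ht in
/-- The frame on an eigenspace of an index squaring to one has enough room for rigidity. -/
theorem mid_sub : Mid (Φ.sub a z haz s (left_ne_zero_of_mul_eq_one hs) (hsa hS hd hs)) := by
  have hcard := Φ.card_rest haz
  rcases hA with hA | ⟨hA, hno⟩
  · exact Or.inl (by omega)
  refine Or.inr ⟨by omega, fun S hS1 => ?_⟩
  let m : S × Bool → (S.map (Φ.rest a z).subtype ⊔ AddSubgroup.zmultiples a : AddSubgroup A) := fun xb =>
    ⟨((xb.1 : Φ.rest a z) : A) + cond xb.2 a 0, AddSubgroup.add_mem_sup ⟨_, xb.1.2, rfl⟩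
      (by cases xb.2 <;> simp [AddSubgroup.zero_mem, AddSubgroup.mem_zmultiples])⟩
  have hm : Function.Injective m := by
    rintro ⟨x, b⟩ ⟨x', b'⟩ e
    have e' : ((x : Φ.rest a z) : A) + cond b a 0 = ((x' : Φ.rest a z) : A) + cond b' a 0 :=
      congrArg Subtype.val e
    have hsg := congrArg (fun w => Φ.sg z w) e'
    simp only [Φ.sg_add, (Φ.mem_perp_two.mp (x : Φ.rest a z).2).2, (Φ.mem_perp_two.mp (x' : Φ.rest a z).2).2,
      one_mul] at hsg
    have hza : Φ.sg z a = -1 := by rw [Φ.sg_symm a z]; exact haz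
    have hb : b = b' := by
      cases b <;> cases b' <;> simp [hza, Φ.sg_zero, Φ.one_ne_neg, Φ.one_ne_neg.symm] at hsg ⊢
    subst hb
    exact Prod.ext (Subtype.ext (Subtype.ext (add_right_cancel e'))) rfl
  have h1 := Nat.card_le_card_of_injective m hm
  rw [Nat.card_prod, Nat.card_eq_fintype_card (α := Bool), Fintype.card_bool] at h1
  have h2 := hno (S.map (Φ.rest a z).subtype ⊔ AddSubgroup.zmultiples a) fun w hw => by
    obtain ⟨_, ⟨x, hx, rfl⟩, c, hc, rfl⟩ := AddSubgroup.mem_sup.mp hw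
    have hx1 : dd Φ (x : A) = 1 := (dd_sign _).resolve_right fun h => Φ.one_ne_neg
      ((hS1 x hx).symm.trans (dd_of_one ((sub_one_iff hS hd haz hs).mpr (one_iff.mpr h))))
    rcases Φ.mem_zmultiples.mp hc with e | e <;> rw [e]
    · rw [add_zero]; exact hx1
    · show dd Φ ((x : A) + a) = 1
      rw [dd_add hS, hx1, hd, Φ.sg_symm a, Φ.mem_cen.mp (Data.rest_cen x)]; ring
  omega

/-- An element trivial on one eigenspace is a frame map on the other. -/
theorem transfer_one [Finite F] (hc1 : ∀ x, One Φ x → ∀ g ∈ G, g * Φ.e x = Φ.e x * g → g ∈ Φ.N) (k : Ca Φ G a)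
    (hk : resH Φ G a t k = 1) :
    resH Φ G a s k ∈ (Φ.sub a z haz s (left_ne_zero_of_mul_eq_one hs) (hsa hS hd hs)).E := by
  set Ψ := Φ.sub a z haz s (left_ne_zero_of_mul_eq_one hs) (hsa hS hd hs) with hΨ
  have hmid := mid_sub hS hd haz hs hA
  let X : Subgroup (PG F (Φ.eig a s)) := (resH Φ G a t).ker.map (resH Φ G a s)
  suffices hX : RigidHyp (β := sub hS hd hs) (Φ := Ψ) X from
    rigid (sub_setup hS hd haz hs) hX hmid ⟨k, hk, rfl⟩
  refine ⟨?_, ?_, ?_, ?_⟩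
  · rintro _ ⟨p, rfl⟩
    obtain ⟨k, e, l, hl, h⟩ := kone hS hG hd haz hs ht hA (Data.rest_cen p)
    exact ⟨k, e, resH_kone hS hG hd haz hs ht hA hl h⟩
  · rintro g ⟨k, -, e⟩
    rw [resH_apply] at e
    obtain ⟨c, hc⟩ := pr_eq_pr.mp e
    obtain ⟨μ, hμ, hsim⟩ := hG.pres k.1 k.2.1
    have hc0 : c ≠ 0 := by
      rintro rfl
      obtain ⟨v, hv⟩ := Ψ.exists_ne
      exact hv (g.map_eq_zero_iff.mp (by rw [hc, zero_smul]))
    refine ⟨c * c * μ, mul_ne_zero (mul_ne_zero hc0 hc0) hμ, fun v w => ?_⟩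
    show β.B (g v : V) (g w : V) = _ * β.B (v : V) (w : V)
    rw [hc, hc]
    show β.B (c • k.1 v) (c • k.1 w) = _
    rw [β.smul_left, β.smul_right, hsim]
    ring
  · rintro x hx _ ⟨k, hk, rfl⟩ hkx
    rw [resH_apply] at hkx
    obtain ⟨δ, hδ, hkδ⟩ := Ψ.exists_sign hkx
    have hx1 : One Φ (x : A) := (sub_one_iff hS hd haz hs).mp hx
    have main : ∀ k : Ca Φ G a, resH Φ G a t k = 1 →
        (∀ v ∈ Φ.eig a s, k.1 (Φ.u (x : A) v) = Φ.u (x : A) (k.1 v)) → resH Φ G a s k ∈ Ψ.E := by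
      intro k hk hkc
      have hglob := comm_global hS hG hd haz hs ht (Data.rest_cen x) hk hkc
      have hN : pr F V k.1 ∈ Φ.N :=
        hc1 x hx1 _ k.2.1 (pr_commute.mpr ⟨1, fun v => by rw [one_smul]; exact hglob v⟩)
      refine Ψ.centralizer_E fun p => ?_
      obtain ⟨q, hq⟩ := Φ.conj_of_mem_N hN p
      obtain ⟨c', hc', hcq⟩ := Φ.exists_smul hq
      obtain ⟨κ, hκ⟩ := resH_eq_one.mp hk
      obtain ⟨v0, hv0, hv00⟩ := exists_eig hS hd haz (s := t) (by rw [ht]; linear_combination hs)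
      have hκ0 : κ ≠ 0 := by
        rintro rfl
        exact hv00 (k.1.map_eq_zero_iff.mp (by rw [hκ v0 hv0, zero_smul]))
      have hqp : q + (p : A) ∈ AddSubgroup.zmultiples a :=
        Φ.indep_block (c := c') (fun v => v ∈ Φ.eig a t) hv00 hv0 (fun r hr v hv => Data.u_mem_eig hr v hv)
          fun v hv => smul_right_injective V hκ0 (by
            show κ • c' • Φ.u q v = κ • Φ.u p v
            rw [smul_comm, ← map_smul, ← hκ v hv, ← hcq, hκ _ (Data.u_mem_eig (Data.rest_cen p) v hv)])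
      obtain ⟨d, hd'⟩ : ∃ d : F, ∀ v ∈ Φ.eig a s, Φ.u q v = d • Φ.u p v := by
        rcases Φ.mem_zmultiples.mp hqp with e | e
        · exact ⟨1, fun v _ => by rw [Φ.eq_of_add_eq_zero e, one_smul]⟩
        · obtain ⟨m, hm⟩ := Φ.mul p a
          refine ⟨m⁻¹ * s, fun v hv => ?_⟩
          have e' : q = (p : A) + a := by rw [← Φ.add_self_cancel q p, e, add_comm]
          rw [e', ← inv_smul_smul₀ (Φ.mul_ne hm) (Φ.u ((p : A) + a) v), ← hm, Φ.mem_eig.mp hv, map_smul,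
            smul_smul]
      rw [resH_apply]
      refine pr_commute.mpr ⟨c' * d, fun v => Subtype.ext ?_⟩
      show k.1 (Φ.u p (v : V)) = (c' * d) • Φ.u p (k.1 v)
      rw [hcq, hd' _ (Geom.maps_eig k.2.2 _ v.2), smul_smul]
    rcases hδ with rfl | rfl
    · exact main k hk fun v hv => by
        have := congrArg Subtype.val (hkδ ⟨v, hv⟩); rwa [one_smul] at this
    obtain ⟨c, hc⟩ := Ψ.nd x (fun e => one_ne_zero (sub_setup hS hd haz hs) hx e)
    obtain ⟨k', e', l, hl, hl'⟩ := kone hS hG hd haz hs ht hA (Data.rest_cen c)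
    have hm := main (k * k') (by rw [map_mul, hk, e', one_mul]) fun v hv => by
      show k.1 (k'.1 (Φ.u (x : A) v)) = Φ.u (x : A) (k.1 (k'.1 v))
      have h1 : ∀ w ∈ Φ.eig a s, k.1 (Φ.u (x : A) w) = (-1 : F) • Φ.u (x : A) (k.1 w) := fun w hw =>
        congrArg Subtype.val (hkδ ⟨w, hw⟩)
      have h2 : Φ.u (c : A) (Φ.u (x : A) v) = (-1 : F) • Φ.u (x : A) (Φ.u (c : A) v) := by
        rw [Φ.comm c x, Φ.sg_symm (x : A) c, show Φ.sg (x : A) c = -1 from hc]
      rw [hl' _ (Data.u_mem_eig (Data.rest_cen x) v hv), hl' v hv, h2, map_smul, map_smul,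
        h1 _ (Data.u_mem_eig (Data.rest_cen c) v hv), map_smul, map_smul, smul_smul (-1 : F), neg_one_mul,
        neg_neg, one_smul]
    rw [map_mul, resH_kone hS hG hd haz hs ht hA hl hl'] at hm
    exact (Ψ.E.mul_mem_cancel_right (Ψ.e_mem c)).mp hm
  · intro p q hp hq
    have hp1 := (sub_one_iff hS hd haz hs).mp hp
    have hq1 := (sub_one_iff hS hd haz hs).mp hq
    refine ⟨_, resH_pair hS hG hd haz hs hp1 hq1, ?_⟩
    rintro _ ⟨k, hk, rfl⟩
    refine ⟨_ * k * _⁻¹, (resH Φ G a t).normal_ker.conj_mem k hk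
      ⟨_, pair_mem_Ca hS hG hp1 hq1 (Data.rest_cen p) (Data.rest_cen q)⟩, ?_⟩
    rw [map_mul, map_mul, map_inv]

end Bil

end Cfsg.Agent.Classical.Frame
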