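/-
The centraliser of a frame map squaring to one permutes its part of the frame and normalises the frame.
-/
import Cfsg.Agent.Lib.Classical.Frame.Bil.CentSub
import Cfsg.Agent.Lib.Classical.Frame.Bil.CentOne

set_option autoImplicit false
set_option linter.unusedSectionVars false

namespace Cfsg.Agent.Classical.Frame

open Module

universe u v w

variable {F : Type u} [Field F] {V : Type v} [AddCommGroup V] [Module F V] [FiniteDimensional F V]
  {A : Type w} [AddCommGroup A] [Finite A]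

namespace Bil

variable {β : Bil F V} {Φ : Data F V A} {G : Subgroup (PG F V)}

theorem acts_conj {g n : PG F V} {f : A → A} {p q : A} (hf : Φ.Acts g f)
    (hn : Φ.Acts n (Φ.tau p ∘ Φ.tau q)) : Φ.Acts (g * n * g⁻¹) (Φ.tau (f p) ∘ Φ.tau (f q)) := fun v => by
  obtain ⟨w, rfl⟩ := (Finite.injective_iff_surjective.mp hf.injective) v
  calc g * n * g⁻¹ * Φ.e (f w) * (g * n * g⁻¹)⁻¹ = g * n * g⁻¹ * (g * Φ.e w * g⁻¹) * (g * n * g⁻¹)⁻¹ := by rw [hf w]
    _ = g * (n * Φ.e w * n⁻¹) * g⁻¹ := by group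
    _ = g * Φ.e (Φ.tau p (Φ.tau q w)) * g⁻¹ := by rw [hn w]; rfl
    _ = _ := by rw [hf, tau_map hf, tau_map hf]; rfl

variable (hS : β.Setup Φ) (hG : β.Grp Φ G) {a z : A} (hd : dd Φ a = 1) (haz : Φ.sg a z = -1) {s t : F}
  (hs : s * s = 1) (ht : t = -s) (hA : Wide Φ)
  (hc1 : ∀ x, One Φ x → ∀ g ∈ G, g * Φ.e x = Φ.e x * g → g ∈ Φ.N)

/-- The frame on an eigenspace. -/
noncomputable abbrev SD (hs : s * s = 1) : Data F (Φ.eig a s) (Φ.rest a z) :=
  Φ.sub a z haz s (left_ne_zero_of_mul_eq_one hs) (hsa hS hd hs)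

include hG hs ht hA hc1

theorem res_mem_N [Finite F] (k : Ca Φ G a) : resH Φ G a s k ∈ (SD hS hd haz hs).N := by
  refine Data.mem_N_of _ fun p => ?_
  obtain ⟨h, he, l, hl, hl'⟩ := kone hS hG hd haz hs ht hA (Data.rest_cen p)
  have := transfer_one hS hG hd haz hs ht hA hc1 (k * h * k⁻¹) ((resH Φ G a t).normal_ker.conj_mem h he k)
  rw [map_mul, map_mul, map_inv, resH_kone hS hG hd haz hs ht hA hl hl'] at this
  obtain ⟨b, hb⟩ := this
  exact ⟨b, hb.symm⟩

theorem transfer [Finite F] (hts : s = -t) (ht1 : t * t = 1) (k : Ca Φ G a)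
    (hk : resH Φ G a s k ∈ (SD hS hd haz hs).E) : resH Φ G a t k ∈ (SD hS hd haz ht1).E := by
  obtain ⟨p, hp⟩ := hk
  have hu : ∀ (r : F) (hr : r * r = 1), resH Φ G a r ⟨Φ.u p, u_mem_Ca hS hG (Data.rest_cen p)⟩ =
      (SD hS hd haz hr).e p := fun r hr => by
    rw [resH_apply]
    exact congrArg _ (LinearEquiv.ext fun v => Subtype.ext rfl)
  have h := transfer_one hS hG hd haz ht1 hts hA hc1 (k * ⟨Φ.u p, u_mem_Ca hS hG (Data.rest_cen p)⟩) (by
    rw [map_mul, hu s hs, ← hp, Data.e_sq])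
  rw [map_mul, hu t ht1] at h
  exact ((SD hS hd haz ht1).E.mul_mem_cancel_right ((SD hS hd haz ht1).e_mem p)).mp h

omit ht in
theorem res_one [Finite F] (k : Ca Φ G a) {f : Φ.rest a z → Φ.rest a z}
    (hf : (SD hS hd haz hs).Acts (resH Φ G a s k) f) {p : Φ.rest a z} (hp : One Φ (p : A)) :
    One Φ (f p : A) := by
  have hsim : (sub hS hd hs).Sim (Data.restr k.1 (Geom.maps_eig k.2.2 (t := s))) := by
    obtain ⟨μ, hμ, hsim⟩ := hG.pres k.1 k.2.1
    exact ⟨μ, hμ, fun v w => hsim v w⟩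
  exact (sub_one_iff hS hd haz hs).mp (one_iff.mpr ((conj_dd_pr (sub_setup hS hd haz hs) hsim (hf p)).symm.trans
    (dd_of_one ((sub_one_iff hS hd haz hs).mpr hp))))

theorem agree [Finite F] (ht1 : t * t = 1) (k : Ca Φ G a) {f f' : Φ.rest a z → Φ.rest a z}
    (hf : (SD hS hd haz hs).Acts (resH Φ G a s k) f) (hf' : (SD hS hd haz ht1).Acts (resH Φ G a t k) f')
    {p : Φ.rest a z} (hp : One Φ (p : A)) : f' p = f p := by
  have hts : s = -t := by rw [ht, neg_neg]
  have hb : ∀ q : Φ.rest a z, One Φ (q : A) →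
      (SD hS hd haz hs).tau (f' p) ∘ (SD hS hd haz hs).tau (f' q) =
        (SD hS hd haz hs).tau (f p) ∘ (SD hS hd haz hs).tau (f q) := by
    intro q hq
    have h1 := res_one hS hG hd haz hs hA hc1 k hf hp
    have h2 := res_one hS hG hd haz hs hA hc1 k hf hq
    let n : Ca Φ G a := ⟨_, pair_mem_Ca hS hG hp hq (Data.rest_cen p) (Data.rest_cen q)⟩
    let n2 : Ca Φ G a := ⟨_, pair_mem_Ca hS hG h1 h2 (Data.rest_cen (f p)) (Data.rest_cen (f q))⟩
    have e1 : resH Φ G a s (n2⁻¹ * (k * n * k⁻¹)) ∈ (SD hS hd haz hs).E := by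
      have a1 := acts_conj hf (resH_pair hS hG hd haz hs hp hq)
      have a2 : (SD hS hd haz hs).Acts (resH Φ G a s n2) _ := resH_pair hS hG hd haz hs h1 h2
      refine (SD hS hd haz hs).centralizer_E fun v => ?_
      rw [map_mul, map_mul, map_mul, map_inv, map_inv]
      have e := (a1 v).trans (a2 v).symm
      calc (resH Φ G a s n2)⁻¹ * (resH Φ G a s k * resH Φ G a s n * (resH Φ G a s k)⁻¹) * (SD hS hd haz hs).e v
          = (resH Φ G a s n2)⁻¹ * (resH Φ G a s k * resH Φ G a s n * (resH Φ G a s k)⁻¹ * (SD hS hd haz hs).e v *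
              (resH Φ G a s k * resH Φ G a s n * (resH Φ G a s k)⁻¹)⁻¹) *
              (resH Φ G a s k * resH Φ G a s n * (resH Φ G a s k)⁻¹) := by group
        _ = _ := by rw [e]; group
    obtain ⟨r, hr⟩ := transfer hS hG hd haz hs ht hA hc1 hts ht1 _ e1
    have a1 := acts_conj hf' (resH_pair hS hG hd haz ht1 hp hq)
    have a2 := resH_pair hS hG hd haz ht1 h1 h2
    rw [map_mul, map_mul, map_mul, map_inv, map_inv, eq_inv_mul_iff_mul_eq] at hr
    refine funext fun v => ?_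
    refine (SD hS hd haz ht1).e_injective (Eq.trans (a1 v).symm ?_)
    rw [← hr]
    refine Eq.trans ?_ (a2 v)
    calc resH Φ G a t n2 * (SD hS hd haz ht1).e r * (SD hS hd haz ht1).e v *
          (resH Φ G a t n2 * (SD hS hd haz ht1).e r)⁻¹
        = resH Φ G a t n2 * ((SD hS hd haz ht1).e r * (SD hS hd haz ht1).e v *
            ((SD hS hd haz ht1).e r)⁻¹) * (resH Φ G a t n2)⁻¹ := by group
      _ = _ := by rw [(SD hS hd haz ht1).acts_e r v]; rfl
  have h16 := (mid_sub hS hd haz hs hA).le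
  have hp' := (sub_one_iff hS hd haz hs).mpr hp
  have hS' := sub_setup hS hd haz hs
  have hp0 : p ≠ 0 := one_ne_zero hS' hp'
  obtain ⟨w, hw⟩ := (SD hS hd haz hs).nd p hp0
  obtain ⟨q1, hq1, hpq1, hwq1⟩ := one2 hS' h16 hp' w
  obtain ⟨w', hpw', hqw'⟩ := (SD hS hd haz hs).exists_neg_two hp0 (one_ne_zero hS' hq1)
  obtain ⟨q2, hq2, hpq2, hwq2⟩ := one2 hS' h16 hp' w'
  have hne : ∀ (x y v : Φ.rest a z), (SD hS hd haz hs).sg x v = -1 → (SD hS hd haz hs).sg v y = 1 → x ≠ y := by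
    intro x y v hxv hvy e
    rw [e, (SD hS hd haz hs).sg_symm v y, hvy] at hxv
    exact (SD hS hd haz hs).one_ne_neg hxv
  have hpq : p ≠ q1 := hne p q1 w hw hwq1
  have hpq' : p ≠ q2 := hne p q2 w' hpw' hwq2
  have hinj := hf'.injective
  have hfp0 : f p ≠ 0 := fun e => hp0 (hf.injective (e.trans hf.zero.symm))
  have hdd : ∀ q, One (SD hS hd haz hs) q → (SD hS hd haz hs).sg p q = 1 → ¬ One (SD hS hd haz hs) (p + q) := by
    intro q hq hpq h
    have := dd_add hS' p q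
    rw [dd_of_one h, hpq, dd_of_one hp', dd_of_one hq, one_mul, neg_one_mul, neg_neg] at this
    exact (SD hS hd haz hs).one_ne_neg this.symm
  have hcase : ∀ q, One (SD hS hd haz hs) q → p ≠ q → f p = f' p ∨ f p = f' q ∨ f p = f' (p + q) := by
    intro q hq hne
    rcases tau_pair_mem hfp0 (fun e => hne (hf.injective e)) (hb q ((sub_one_iff hS hd haz hs).mp hq)) with e | e | e
    · exact Or.inl e
    · exact Or.inr (Or.inl e)
    · exact Or.inr (Or.inr (e.trans (hf'.add p q).symm))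
  rcases hcase q1 hq1 hpq with e | e | e
  · exact e.symm
  all_goals rcases hcase q2 hq2 hpq' with e' | e' | e'
  all_goals first
    | exact e'.symm
    | exact absurd (hinj (e.symm.trans e')) (hne q1 q2 w' hqw' hwq2)
    | exact absurd (hinj (e'.symm.trans e)) (fun h => hdd q2 hq2 hpq2 (h ▸ hq1))
    | exact absurd (hinj (e.symm.trans e')) (fun h => hdd q1 hq1 hpq1 (h ▸ hq2))
    | exact absurd (add_left_cancel (hinj (e.symm.trans e'))) (hne q1 q2 w' hqw' hwq2)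

omit hs ht
include hS hd haz

/-- An element commuting with a frame map squaring to one permutes the commuting part of the frame. -/
theorem part_zero [Finite F] (k : Ca Φ G a) {p : A} (hp : p ∈ Φ.cen a) :
    ∃ q ∈ Φ.cen a, pr F V k.1 * Φ.e p * (pr F V k.1)⁻¹ = Φ.e q := by

  have hs1 : (1 : F) * 1 = 1 := one_mul 1
  have hm1 : (-1 : F) * -1 = 1 := by ring
  have hN1 := res_mem_N hS hG hd haz hs1 (t := -1) rfl hA hc1 k
  have hN2 := res_mem_N hS hG hd haz hm1 (t := 1) (neg_neg 1).symm hA hc1 k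
  have hf := (SD hS hd haz hs1).acts_act hN1
  have hf' := (SD hS hd haz hm1).acts_act hN2
  generalize (SD hS hd haz hs1).act ⟨_, hN1⟩ = f at hf
  generalize (SD hS hd haz hm1).act ⟨_, hN2⟩ = f' at hf'
  have hff : ∀ p : Φ.rest a z, f' p = f p := by
    intro p
    by_cases hp1 : One Φ (p : A)
    · exact agree hS hG hd haz hs1 rfl hA hc1 hm1 k hf hf' hp1
    have hS' := sub_setup hS hd haz hs1
    have h16 : 16 ≤ Nat.card (Φ.rest a z) := by have := Φ.card_rest haz; have := hA.le; omega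
    obtain ⟨w, v, hw, -, -⟩ := exists_anti_one hS' h16
    obtain ⟨y, hy, -, hpy⟩ := one2 hS' h16 hw p
    have hd1 : dd (SD hS hd haz hs1) p = 1 := (dd_sign p).resolve_right fun h =>
      hp1 ((sub_one_iff hS hd haz hs1).mp (one_iff.mpr h))
    have hyp := one_add_sgl hS' (by rw [(SD hS hd haz hs1).sg_symm p y]; exact hpy) hy hd1
    have e1 := agree hS hG hd haz hs1 rfl hA hc1 hm1 k hf hf' ((sub_one_iff hS hd haz hs1).mp hy)
    have e2 := agree hS hG hd haz hs1 rfl hA hc1 hm1 k hf hf' ((sub_one_iff hS hd haz hs1).mp hyp)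
    rw [hf'.add, hf.add, e1] at e2
    exact add_left_cancel e2
  have key : ∀ p0 : Φ.rest a z, ∃ q ∈ Φ.cen a, pr F V k.1 * Φ.e p0 * (pr F V k.1)⁻¹ = Φ.e q := by
    intro p0
    obtain ⟨μ, hμ, hsim⟩ := hG.pres k.1 k.2.1
    obtain ⟨l, -, hl⟩ := (SD hS hd haz hs1).exists_smul (hf p0)
    obtain ⟨l', -, hl'⟩ := (SD hS hd haz hm1).exists_smul (hf' p0)
    have hl1 := (conj_dd (sub_setup hS hd haz hs1) (g := Data.restr k.1 (Geom.maps_eig k.2.2))
      ⟨μ, hμ, fun v w => hsim v w⟩ hl).1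
    have hl1' := (conj_dd (sub_setup hS hd haz hm1) (g := Data.restr k.1 (Geom.maps_eig k.2.2))
      ⟨μ, hμ, fun v w => hsim v w⟩ hl').1
    have h1 : ∀ v ∈ Φ.eig a (1 : F), k.1 (Φ.u p0 v) = l • Φ.u (f p0 : A) (k.1 v) := fun v hv =>
      congrArg Subtype.val (hl ⟨v, hv⟩)
    have h2 : ∀ v ∈ Φ.eig a (-1 : F), k.1 (Φ.u p0 v) = l' • Φ.u (f p0 : A) (k.1 v) := fun v hv => by
      rw [← hff p0]
      exact congrArg Subtype.val (hl' ⟨v, hv⟩)
    by_cases hll : l' = l
    · refine ⟨f p0, Data.rest_cen _, pr_conj.mpr ⟨l, fun v => ?_⟩⟩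
      obtain ⟨x, hx, y, hy, rfl⟩ := Geom.decomp _root_.one_ne_zero (hsa hS hd hs1) v
      simp only [map_add, smul_add]
      rw [h1 x hx, h2 y hy, hll]
    · have hl2 : l' = -l := by
        rcases hl1 with rfl | rfl <;> rcases hl1' with rfl | rfl <;> simp_all
      obtain ⟨m, hm⟩ := Φ.mul (f p0 : A) a
      refine ⟨f p0 + a, (Φ.cen a).add_mem (Data.rest_cen _) (Φ.self_mem_cen a), pr_conj.mpr ⟨l * m, fun v => ?_⟩⟩
      obtain ⟨x, hx, y, hy, rfl⟩ := Geom.decomp _root_.one_ne_zero (hsa hS hd hs1) v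
      simp only [map_add, smul_add]
      rw [← smul_smul, ← smul_smul, ← hm, ← hm, Φ.mem_eig.mp (Geom.maps_eig k.2.2 _ hx),
        Φ.mem_eig.mp (Geom.maps_eig k.2.2 _ hy), h1 x hx, h2 y hy, hl2, one_smul, map_smul, smul_smul,
        mul_neg_one]
  obtain ⟨p0, hp0, hpp⟩ := Data.exists_rest haz hp
  obtain ⟨q, hq, hqe⟩ := key ⟨p0, hp0⟩
  rcases hpp with rfl | rfl
  · exact ⟨q, hq, hqe⟩
  · have hka : pr F V k.1 * Φ.e a = Φ.e a * pr F V k.1 := pr_commute.mpr ⟨1, fun v => by rw [one_smul]; exact k.2.2 v⟩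
    refine ⟨q + a, (Φ.cen a).add_mem hq (Φ.self_mem_cen a), ?_⟩
    rw [Φ.e_add, Φ.e_add, ← hqe]
    calc pr F V k.1 * (Φ.e p0 * Φ.e a) * (pr F V k.1)⁻¹
        = pr F V k.1 * Φ.e p0 * (pr F V k.1)⁻¹ * (pr F V k.1 * Φ.e a * (pr F V k.1)⁻¹) := by group
      _ = _ := by rw [hka, mul_inv_cancel_right]

end Bil

end Cfsg.Agent.Classical.Frame
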