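/-
When the centralisers of the indices squaring to minus one permute their parts of the frame, the centraliser of
every frame element normalises the frame.
-/
import Cfsg.Agent.Lib.Classical.Frame.Bil.CentZero

set_option autoImplicit false
set_option linter.unusedSectionVars false

namespace Cfsg.Agent.Classical.Frame

open Module

universe u v w

variable {F : Type u} [Field F] {V : Type v} [AddCommGroup V] [Module F V] [FiniteDimensional F V]
  {A : Type w} [AddCommGroup A] [Finite A]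

namespace Bil

variable {β : Bil F V} {Φ : Data F V A} {G : Subgroup (PG F V)}

/-- The centraliser of each nontrivial frame element normalises the frame. -/
theorem cent_le [Finite F] (hS : β.Setup Φ) (hG : β.Grp Φ G) (hA : Wide Φ)
    (hsp : ∀ x, One Φ x → Split1 Φ G x) : Φ.CentLe G := by
  intro a ha g hg hga
  have hc1 : ∀ x, One Φ x → ∀ g ∈ G, g * Φ.e x = Φ.e x * g → g ∈ Φ.N :=
    fun x hx g hg h => cent_one hS hG hA hsp hx hg h
  by_cases ha1 : One Φ a
  · exact hc1 a ha1 g hg hga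
  have hd : dd Φ a = 1 := (dd_sign a).resolve_right fun h => ha1 (one_iff.mpr h)
  obtain ⟨z, haz⟩ := Φ.nd a ha
  have hpart : ∀ p ∈ Φ.cen a, ∃ q ∈ Φ.cen a, g * Φ.e p * g⁻¹ = Φ.e q := by
    intro p hp
    obtain ⟨k, rfl⟩ := pr_surjective g
    obtain ⟨c, hc, hk⟩ := Φ.exists_sign hga
    rcases hc with rfl | rfl
    · exact part_zero hS hG hd haz hA hc1 ⟨k, hg, fun v => by rw [hk, one_smul]⟩ hp
    obtain ⟨q, hq, e⟩ := part_zero hS hG hd haz hA hc1
      ⟨k * Φ.u z, by rw [map_mul]; exact G.mul_mem hg (hG.le (Φ.e_mem z)), fun v => by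
        rw [LinearEquiv.mul_apply, LinearEquiv.mul_apply, Φ.comm z a, Φ.sg_symm a z, haz, map_smul, hk, smul_smul,
          neg_one_mul, neg_neg, one_smul]⟩ hp
    refine ⟨q, hq, ?_⟩
    rw [← e]
    show _ = pr F V (k * Φ.u z) * _ * (pr F V (k * Φ.u z))⁻¹
    rw [map_mul]
    calc pr F V k * Φ.e p * (pr F V k)⁻¹ = pr F V k * (Φ.e z * Φ.e p * (Φ.e z)⁻¹) * (pr F V k)⁻¹ := by
          rw [Φ.e_comm z p, mul_inv_cancel_right]
      _ = _ := by rw [Data.e]; group
  obtain ⟨p0, hp, hap, -, -⟩ := exists_one_two hS hA a a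
  obtain ⟨q0, hq, hgp⟩ := hpart p0 (Φ.mem_cen.mpr hap)
  obtain ⟨l, hl⟩ := pr_surjective g
  have hdd : dd Φ p0 = dd Φ q0 := conj_dd_pr hS (hG.pres l (hl.symm ▸ hg)) (hl.symm ▸ hgp)
  have hq1 : One Φ q0 := one_iff.mpr (hdd.symm.trans (dd_of_one hp))
  have hnot : ∀ y, One Φ y → y ∉ AddSubgroup.zmultiples a := fun y hy h => by
    rcases Φ.mem_zmultiples.mp h with rfl | rfl
    exacts [one_ne_zero hS hy rfl, ha1 hy]
  obtain ⟨n, hn, f, hf, hfp, -⟩ := exists_move hS hG hA hdd hap (Φ.mem_cen.mp hq) (hnot _ hp) (hnot _ hq1)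
  have h2 : n⁻¹ * g * Φ.e p0 = Φ.e p0 * (n⁻¹ * g) := by
    calc n⁻¹ * g * Φ.e p0 = n⁻¹ * (g * Φ.e p0 * g⁻¹) * g := by group
      _ = n⁻¹ * (n * Φ.e p0 * n⁻¹) * g := by rw [hgp, hf p0, hfp]
      _ = _ := by group
  simpa using Φ.N.mul_mem hf.mem_N (hc1 p0 hp _ (G.mul_mem (G.inv_mem hn) hg) h2)

end Bil

end Cfsg.Agent.Classical.Frame
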