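/-
Elements of the group in the span of two commuting frame maps.
-/
import Cfsg.Agent.Lib.Classical.Frame.Bil.Moves

set_option autoImplicit false
set_option linter.unusedSectionVars false

namespace Cfsg.Agent.Classical.Frame

open Module

universe u v w

variable {F : Type u} [Field F] {V : Type v} [AddCommGroup V] [Module F V] [FiniteDimensional F V]
  {A : Type w} [AddCommGroup A] [Finite A]

namespace Bil

variable {β : Bil F V} {Φ : Data F V A} {G : Subgroup (PG F V)}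

variable (Φ G) in
/-- An element of the group that is a combination of the frame maps of two indices and of their product. -/
def Ctrl (y z : A) : Prop :=
  ∃ n : V ≃ₗ[F] V, pr F V n ∈ G ∧ pr F V n ∈ Φ.N ∧ ∃ c0 c1 c2 c3 : F, c0 ≠ 0 ∧ c2 ≠ 0 ∧
    ∀ v, n v = c0 • (v + c1 • Φ.u y v + c2 • Φ.u z v + c3 • Φ.u z (Φ.u y v))

variable (hS : β.Setup Φ) (hG : β.Grp Φ G)

include hS hG

theorem ctrl_one {y z : A} (hz : One Φ z) (hy : dd Φ y = 1) (hzy : Φ.sg z y = 1) : Ctrl Φ G y z := by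
  have hq : One Φ (z + y) := one_add_sgl hS hzy hz hy
  obtain ⟨m, hm⟩ := Φ.mul z y
  have hm0 := Φ.mul_ne hm
  refine ⟨_, hG.pair z (z + y) hz hq, (pair_acts hS hz hq).mem_N, 1, -m⁻¹, 1, m⁻¹, _root_.one_ne_zero,
    _root_.one_ne_zero, fun v => ?_⟩
  rw [LinearEquiv.mul_apply, tE_apply hq, ← inv_smul_smul₀ hm0 (Φ.u (z + y) v), ← hm, tE_apply hz, map_add,
    map_smul, hz]
  module

theorem ctrl_sgl (hA : Wide Φ) {y z : A} (hy : dd Φ y = 1) (hz : dd Φ z = 1) (hzy : Φ.sg z y = 1) :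
    Ctrl Φ G y z := by
  obtain ⟨w, hw, hwy, hwz, -⟩ := exists_one_two hS hA y z
  have hwy' : Φ.sg w y = 1 := by rw [Φ.sg_symm]; exact hwy
  have hwz' : Φ.sg w z = 1 := by rw [Φ.sg_symm]; exact hwz
  have hx : One Φ (w + z) := one_add_sgl hS hwz' hw hz
  have hxy : Φ.sg (w + z) y = 1 := by rw [Φ.sg_add_left, hwy', hzy, one_mul]
  have hwy1 : One Φ (w + y) := one_add_sgl hS hwy' hw hy
  have hxy1 : One Φ (w + z + y) := one_add_sgl hS hxy hx hy
  obtain ⟨κ, hκ⟩ := Φ.mul w z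
  obtain ⟨μ, hμ⟩ := Φ.mul w y
  obtain ⟨ν, hν⟩ := Φ.mul (w + z) y
  have hκ2 : κ * κ = 1 := by rcases mul_const hS hκ with e | e <;> simp [e]
  have hμ2 : μ * μ = 1 := by rcases mul_const hS hμ with e | e <;> simp [e]
  have hν2 : ν * ν = 1 := by rcases mul_const hS hν with e | e <;> simp [e]
  have ex : ∀ v, Φ.u (w + z) v = κ • Φ.u w (Φ.u z v) := fun v => by rw [hκ, smul_smul, hκ2, one_smul]
  have ewy : ∀ v, Φ.u (w + y) v = μ • Φ.u w (Φ.u y v) := fun v => by rw [hμ, smul_smul, hμ2, one_smul]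
  have exy : ∀ v, Φ.u (w + z + y) v = (ν * κ) • Φ.u w (Φ.u z (Φ.u y v)) := fun v => by
    rw [← smul_smul, ← ex, hν, smul_smul, hν2, one_smul]
  have c1 : ∀ v, Φ.u y (Φ.u w v) = Φ.u w (Φ.u y v) := fun v => by rw [Φ.comm w y, hwy', one_smul]
  have c2 : ∀ v, Φ.u z (Φ.u w v) = Φ.u w (Φ.u z v) := fun v => by rw [Φ.comm w z, hwz', one_smul]
  have c3 : ∀ v, Φ.u y (Φ.u z v) = Φ.u z (Φ.u y v) := fun v => by rw [Φ.comm z y, hzy, one_smul]
  have hN1 := pair_acts hS hw hwy1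
  have hN2 := pair_acts hS hx hxy1
  have hP1 := hG.pair _ _ hw hwy1
  have hP2 := hG.pair _ _ hx hxy1
  rcases mul_self_eq_mul_self_iff.mp (hν2.trans hμ2.symm) with e | e
  · refine ⟨(tE hw * tE hwy1) * (tE hx * tE hxy1), by rw [map_mul]; exact G.mul_mem hP1 hP2,
      by rw [map_mul]; exact Φ.N.mul_mem hN1.mem_N hN2.mem_N, 2, -μ, -κ, -(κ * μ), Φ.two,
      neg_ne_zero.mpr (left_ne_zero_of_mul_eq_one hκ2), fun v => ?_⟩
    subst e
    simp only [LinearEquiv.mul_apply, tE_apply, ex, ewy, exy, map_add, map_smul, c1, c2, c3, hw _, not_one hS hy,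
      not_one hS hz, smul_add, smul_neg, smul_smul, map_neg]
    rcases mul_self_eq_one_iff.mp hκ2 with h | h <;> rcases mul_self_eq_one_iff.mp hν2 with h' | h' <;>
      subst h <;> subst h' <;> module
  · refine ⟨(tE hw * tE hwy1) * (Φ.u (w + z) * (tE hx * tE hxy1)),
      by rw [map_mul, map_mul _ (Φ.u (w + z))]; exact G.mul_mem hP1 (G.mul_mem (hG.le (Φ.e_mem _)) hP2),
      by rw [map_mul, map_mul _ (Φ.u (w + z))]; exact Φ.N.mul_mem hN1.mem_N (Φ.N.mul_mem (Φ.E_le_N (Φ.e_mem _)) hN2.mem_N),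
      -2, -μ, κ, κ * μ, neg_ne_zero.mpr Φ.two,
      left_ne_zero_of_mul_eq_one hκ2, fun v => ?_⟩
    subst e
    simp only [LinearEquiv.mul_apply, tE_apply, ex, ewy, exy, map_add, map_smul, c1, c2, c3, hw _, not_one hS hy,
      not_one hS hz, smul_add, smul_neg, smul_smul, map_neg]
    rcases mul_self_eq_one_iff.mp hκ2 with h | h <;> rcases mul_self_eq_one_iff.mp hμ2 with h' | h' <;>
      subst h <;> subst h' <;> module

end Bil

end Cfsg.Agent.Classical.Frame
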