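/-
The commutators of a group with the pairs of lifted transvections again give all pairs; small displacements do not
normalise the frame.
-/
import Cfsg.Agent.Lib.Classical.Frame.Bil.Moves
import Cfsg.Agent.Lib.Classical.Frame.BigAll

set_option autoImplicit false
set_option linter.unusedSectionVars false

namespace Cfsg.Agent.Classical.Frame

open Module
open scoped commutatorElement

universe u v w

variable {F : Type u} [Field F] {V : Type v} [AddCommGroup V] [Module F V] [FiniteDimensional F V]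
  {A : Type w} [AddCommGroup A] [Finite A]

namespace Bil

variable {β : Bil F V} {Φ : Data F V A} {G G0 : Subgroup (PG F V)}

/-- The square of a lifted transvection is its frame element. -/
theorem tE_sq {p : A} (hp : One Φ p) : pr F V (tE hp) * pr F V (tE hp) = Φ.e p := by
  rw [← map_mul, Data.e, pr_eq_pr]
  refine ⟨(2 : F)⁻¹, fun v => ?_⟩
  rw [LinearEquiv.mul_apply, tE_apply, tE_apply, map_add, hp]
  rw [show v + Φ.u p v + (Φ.u p v + -v) = (2 : F) • Φ.u p v by module, inv_smul_smul₀ Φ.two]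

theorem tE_e_comm {p a : A} (hp : One Φ p) (h : Φ.sg p a = 1) :
    pr F V (tE hp) * Φ.e a = Φ.e a * pr F V (tE hp) :=
  pr_commute.mpr ⟨1, fun v => by rw [one_smul]; exact (tE_tz hp).comm h v⟩

/-- A conjugate of a lifted transvection is one, up to its frame element. -/
theorem conj_tE (hS : β.Setup Φ) {l : V ≃ₗ[F] V} (hl : β.Sim l) {p q : A} (hp : One Φ p) (hq : One Φ q)
    (h : pr F V l * Φ.e p * (pr F V l)⁻¹ = Φ.e q) :
    ∃ ε, (ε = 1 ∨ ε = Φ.e q) ∧ pr F V l * pr F V (tE hp) * (pr F V l)⁻¹ = pr F V (tE hq) * ε := by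
  obtain ⟨c, -, hc⟩ := Φ.exists_smul h
  have hcase := (conj_dd hS hl hc).1
  rcases hcase with rfl | rfl
  · refine ⟨1, Or.inl rfl, ?_⟩
    rw [mul_one, pr_conj]
    exact ⟨1, fun v => by rw [one_smul, tE_apply, tE_apply, map_add, hc, one_smul]⟩
  · refine ⟨Φ.e q, Or.inr rfl, ?_⟩
    rw [Data.e, ← map_mul _ _ (Φ.u q), pr_conj]
    refine ⟨-1, fun v => ?_⟩
    rw [LinearEquiv.mul_apply, tE_apply, tE_apply, map_add, hc, hq]
    module

theorem one3' (hS : β.Setup Φ) (hA : Wide Φ) {a : A} (ha : One Φ a) (b c : A) :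
    ∃ y, One Φ y ∧ Φ.sg a y = 1 ∧ Φ.sg b y = 1 ∧ Φ.sg c y = 1 ∧ Φ.sg c y = 1 := by
  have h8 : Nat.card (S4 a b c 0) ≤ 8 :=
    (card_sup_le _ _).trans (Nat.mul_le_mul ((card_sup_le _ _).trans (Nat.mul_le_mul (Φ.card_zmultiples_le a)
      (Φ.card_zmultiples_le b))) ((card_sup_le _ _).trans (Nat.mul_le_mul (m₂ := 1) (Φ.card_zmultiples_le c)
      (le_of_eq (by rw [AddSubgroup.zmultiples_zero_eq_bot, AddSubgroup.card_bot])))))
  obtain ⟨y, h0, hy⟩ := exists_one_eight hS hA.le h8 (mem_S4 a b c 0).1 ha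
  obtain ⟨ha', hb', hc', -⟩ := mem_S4 a b c 0
  exact ⟨y, h0, hy a ha', hy b hb', hy c hc', hy c hc'⟩

/-- The commutators give all pairs. -/
theorem Grp.derive (hS : β.Setup Φ) (hG0 : β.Grp Φ G0) (hA : Wide Φ)
    (hcom : ∀ g ∈ G0, ∀ h ∈ G0, ⁅g, h⁆ ∈ G) (hpres : ∀ g : V ≃ₗ[F] V, pr F V g ∈ G → β.Sim g) :
    β.Grp Φ G := by
  have hne : ∀ x p, Φ.sg x p = 1 → ∀ w, Φ.sg p w = -1 → Φ.sg w x = 1 → p ≠ x := by
    intro x p _ w hpw hwx e
    rw [e, Φ.sg_symm w x, hwx] at hpw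
    exact Φ.one_ne_neg hpw
  have hone : ∀ p, One Φ p → Φ.e p ∈ G := by
    intro p hp
    obtain ⟨w, hpw⟩ := Φ.nd p (one_ne_zero hS hp)
    obtain ⟨x, hx, hpx, hwx, -⟩ := exists_one_two hS hA p w
    have hnx := hne x p (by rw [Φ.sg_symm]; exact hpx) w hpw hwx
    have h0 := Φ.not_mem_perp_cen (p := p) (x := x) (one_ne_zero hS hp) hnx
    rw [Φ.mem_perp] at h0
    push Not at h0
    obtain ⟨a, hax, hap⟩ := h0
    have hap := Φ.sg_cases hap
    rw [Φ.mem_cen] at hax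
    have h1 := hG0.pair p x hp hx
    have h2 := hG0.le (Φ.e_mem a)
    have hX : pr F V (tE hx) * Φ.e a = Φ.e a * pr F V (tE hx) := tE_e_comm hx hax
    have hP : Φ.e a * pr F V (tE hp) * (Φ.e a)⁻¹ = pr F V (tE hp) * Φ.e p := by
      rw [Data.e, Data.e, ← map_mul _ _ (Φ.u p), pr_conj]
      refine ⟨-1, fun v => ?_⟩
      rw [LinearEquiv.mul_apply, tE_apply, tE_apply, map_add, Φ.comm a p, Φ.sg_symm p a, hap, hp]
      module
    have hPe : pr F V (tE hp) * Φ.e p = Φ.e p * pr F V (tE hp) := tE_e_comm hp (Φ.sg_self p)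
    have key : ⁅pr F V (tE hp * tE hx), Φ.e a⁆ = Φ.e p := by
      rw [commutatorElement_def, map_mul]
      calc pr F V (tE hp) * pr F V (tE hx) * Φ.e a * (pr F V (tE hp) * pr F V (tE hx))⁻¹ * (Φ.e a)⁻¹
          = pr F V (tE hp) * pr F V (tE hx) * (Φ.e a * (pr F V (tE hx))⁻¹ * (Φ.e a)⁻¹) *
              (Φ.e a * pr F V (tE hp) * (Φ.e a)⁻¹)⁻¹ := by group
        _ = pr F V (tE hp) * pr F V (tE hx) * (pr F V (tE hx))⁻¹ * (pr F V (tE hp) * Φ.e p)⁻¹ := by
            rw [hP, show Φ.e a * (pr F V (tE hx))⁻¹ * (Φ.e a)⁻¹ = (pr F V (tE hx))⁻¹ by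
              rw [(Commute.inv_right (show Commute (Φ.e a) (pr F V (tE hx)) from hX.symm)).eq, mul_inv_cancel_right]]
        _ = Φ.e p := by rw [hPe, mul_inv_rev, Φ.e_inv]; group
    rw [← key]
    exact hcom _ h1 _ h2
  have hall : ∀ a, Φ.e a ∈ G := by
    intro a
    by_cases ha : One Φ a
    · exact hone a ha
    obtain ⟨y, hy, hay, -, -⟩ := exists_one_two hS hA a a
    have hya : One Φ (y + a) :=
      one_add_sgl hS (by rw [Φ.sg_symm]; exact hay) hy ((dd_sign a).resolve_right fun h => ha (one_iff.mpr h))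
    have h1 := G.mul_mem (hone _ hy) (hone _ hya)
    rwa [← Φ.e_add, ← add_assoc, Φ.elem, zero_add] at h1
  refine ⟨fun g hg => ?_, hpres, fun p q hp hq => ?_⟩
  · obtain ⟨a, rfl⟩ := Φ.mem_E.mp hg
    exact hall a
  rcases eq_or_ne p q with rfl | hpq
  · rw [map_mul, tE_sq hp]
    exact hall p
  obtain ⟨w, hpw, hqw⟩ := Φ.exists_neg_two (one_ne_zero hS hp) (one_ne_zero hS hq)
  obtain ⟨x, hx, hpx, hqx, hwx, -⟩ := one3' hS hA hp q w
  have hxp : Φ.sg x p = 1 := by rw [Φ.sg_symm]; exact hpx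
  have hxq : Φ.sg x q = 1 := by rw [Φ.sg_symm]; exact hqx
  have hn : ∀ r, One Φ r → r ≠ x → r ∉ AddSubgroup.zmultiples x := fun r hr hne h => by
    rcases Φ.mem_zmultiples.mp h with e | e
    exacts [one_ne_zero hS hr e, hne e]
  obtain ⟨g, hg, f, hf, hfp, hfx⟩ := exists_move hS hG0 hA ((dd_of_one hp).trans (dd_of_one hq).symm) hxp hxq
    (hn p hp (hne x p hxp w hpw hwx)) (hn q hq (hne x q hxq w hqw hwx))
  obtain ⟨l, rfl⟩ := pr_surjective g
  obtain ⟨εq, hεq, e1⟩ := conj_tE hS (hG0.pres l hg) hp hq (by rw [hf p, hfp])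
  obtain ⟨εx, hεx, e2⟩ := conj_tE hS (hG0.pres l hg) hx hx (by rw [hf x, hfx])
  have key : ⁅pr F V (tE hp * tE hx), pr F V l⁆ =
      pr F V (tE hp) * (pr F V (tE hx) * εx⁻¹ * (pr F V (tE hx))⁻¹) * εq⁻¹ * (pr F V (tE hq))⁻¹ := by
    rw [commutatorElement_def, map_mul]
    calc pr F V (tE hp) * pr F V (tE hx) * pr F V l * (pr F V (tE hp) * pr F V (tE hx))⁻¹ * (pr F V l)⁻¹
        = pr F V (tE hp) * pr F V (tE hx) * (pr F V l * pr F V (tE hx) * (pr F V l)⁻¹)⁻¹ *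
            (pr F V l * pr F V (tE hp) * (pr F V l)⁻¹)⁻¹ := by group
      _ = _ := by rw [e1, e2]; group
  have hmem := hcom _ (hG0.pair p x hp hx) _ hg
  rw [key] at hmem
  have hεx' : εx ∈ G ∧ pr F V (tE hx) * εx = εx * pr F V (tE hx) ∧ pr F V (tE hp) * εx = εx * pr F V (tE hp) := by
    rcases hεx with rfl | rfl
    · exact ⟨G.one_mem, by rw [mul_one, one_mul], by rw [mul_one, one_mul]⟩
    · exact ⟨hall x, tE_e_comm hx (Φ.sg_self x), tE_e_comm hp hpx⟩
  have hεq' : εq ∈ G ∧ pr F V (tE hq) * εq = εq * pr F V (tE hq) := by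
    rcases hεq with rfl | rfl
    · exact ⟨G.one_mem, by rw [mul_one, one_mul]⟩
    · exact ⟨hall q, tE_e_comm hq (Φ.sg_self q)⟩
  have a1 : Commute (pr F V (tE hx)) εx⁻¹ := Commute.inv_right hεx'.2.1
  have a2 : Commute (pr F V (tE hp)) εx⁻¹ := Commute.inv_right hεx'.2.2
  have a3 : Commute (pr F V (tE hq))⁻¹ εq⁻¹ := Commute.inv_inv hεq'.2
  rw [a1.eq, mul_inv_cancel_right, a2.eq, mul_assoc _ εq⁻¹, ← a3.eq] at hmem
  have h3 : pr F V (tE hp) * (pr F V (tE hq))⁻¹ ∈ G := by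
    have := G.mul_mem (G.mul_mem hεx'.1 hmem) hεq'.1
    rwa [show εx * (εx⁻¹ * pr F V (tE hp) * ((pr F V (tE hq))⁻¹ * εq⁻¹)) * εq =
      pr F V (tE hp) * (pr F V (tE hq))⁻¹ by group] at this
  rw [map_mul, show pr F V (tE hp) * pr F V (tE hq) = pr F V (tE hp) * (pr F V (tE hq))⁻¹ * Φ.e q by
    rw [← tE_sq hq]; group]
  exact G.mul_mem h3 (hall q)

/-- An element with small displacement normalises the frame only trivially. -/
theorem eq_one_of_small {g : V ≃ₗ[F] V}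
    (hr : 3 * finrank F V < 4 * finrank F (LinearMap.ker (g.toLinearMap - LinearMap.id))) (hg : pr F V g ∈ Φ.N) :
    g = 1 := by
  obtain ⟨K0, hK0⟩ : ∃ K0, K0 = LinearMap.ker (g.toLinearMap - LinearMap.id) := ⟨_, rfl⟩
  rw [← hK0] at hr
  have hfix : ∀ v ∈ K0, g v = v := fun v hv => by
    rw [hK0, LinearMap.mem_ker, LinearMap.sub_apply, sub_eq_zero] at hv
    exact hv
  have hcomm : ∀ a v, g (Φ.u a v) = Φ.u a (g v) := by
    intro a
    obtain ⟨b, hb⟩ := Φ.conj_of_mem_N hg a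
    obtain ⟨c, hc0, hc⟩ := Φ.exists_smul hb
    let K : Submodule F V := K0 ⊓ Submodule.map (Φ.u a).symm.toLinearMap K0
    have hK : 2 * finrank F K0 ≤ finrank F K + finrank F V := by
      have h1 := Submodule.finrank_sup_add_finrank_inf_eq K0 (Submodule.map (Φ.u a).symm.toLinearMap K0)
      have h2 := Submodule.finrank_le (K0 ⊔ Submodule.map (Φ.u a).symm.toLinearMap K0)
      have h3 : finrank F (Submodule.map (Φ.u a).symm.toLinearMap K0) = finrank F K0 :=
        LinearEquiv.finrank_map_eq (Φ.u a).symm K0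
      show _ ≤ finrank F (K0 ⊓ Submodule.map (Φ.u a).symm.toLinearMap K0 : Submodule F V) + _
      omega
    have hP : ∀ v ∈ K, Φ.u a v = c • Φ.u b v := by
      rintro v ⟨hv, w, hw, rfl⟩
      have e := hc ((Φ.u a).symm w)
      rw [LinearEquiv.apply_symm_apply, hfix w hw, hfix ((Φ.u a).symm w) hv] at e
      show Φ.u a ((Φ.u a).symm w) = c • Φ.u b ((Φ.u a).symm w)
      rw [LinearEquiv.apply_symm_apply, ← e]
    obtain ⟨w, hw, hw0⟩ := Submodule.exists_mem_ne_zero_of_ne_bot (p := K) fun e => by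
      rw [e, finrank_bot] at hK; omega
    rcases eq_or_ne a b with e | hne
    · subst e
      have hc1 : c = 1 := smul_left_injective F (fun e => hw0 ((Φ.u a).map_eq_zero_iff.mp e))
        (show c • Φ.u a w = (1 : F) • Φ.u a w by rw [← hP w hw, one_smul])
      intro v
      rw [hc, hc1, one_smul]
    exfalso
    obtain ⟨m, hm⟩ := Φ.mul a b
    obtain ⟨d, hd0, hd⟩ := Φ.sq a
    have hm0 := Φ.mul_ne hm
    have hle : K ≤ Φ.eig (a + b) (d / (c * m)) := fun v hv => by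
      rw [Φ.mem_eig]
      have e := congrArg (Φ.u a) (hP v hv)
      rw [hd, map_smul, hm, smul_smul] at e
      rw [div_eq_inv_mul, mul_smul, e, inv_smul_smul₀ (mul_ne_zero hc0 hm0)]
    obtain ⟨hs0, hs⟩ := Geom.root_of_mem (hle hw) hw0
    obtain ⟨y, hy⟩ := Φ.nd (a + b) (Φ.add_ne_zero hne)
    have h2 := Data.finrank_eig hy hs0 hs
    have h3 := Submodule.finrank_mono hle
    omega
  obtain ⟨k, hk⟩ := Φ.commutant g.toLinearMap hcomm
  obtain ⟨w, hw, hw0⟩ := Submodule.exists_mem_ne_zero_of_ne_bot (p := K0) fun e => by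
    rw [e, finrank_bot] at hr; omega
  have hk1 : k = 1 := smul_left_injective F hw0 (show k • w = (1 : F) • w by
    rw [one_smul, ← hk]; exact hfix w hw)
  exact LinearEquiv.ext fun v => (hk v).trans (by rw [hk1, one_smul]; rfl)

end Bil

end Cfsg.Agent.Classical.Frame
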