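/-
A frame map squaring to minus one when minus one is not a square: it is a complex structure, and its centraliser
permutes the frame or contains every rank two transvection commuting with it.
-/
import Cfsg.Agent.Lib.Classical.Frame.Bil.Trans
import Cfsg.Agent.Lib.Classical.Frame.Dich
import Mathlib.Algebra.QuadraticAlgebra.Basic

set_option autoImplicit false
set_option linter.unusedSectionVars false

namespace Cfsg.Agent.Classical.Frame

open Module

universe u v w

variable {F : Type u} [Field F] {V : Type v} [AddCommGroup V] [Module F V] [FiniteDimensional F V]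
  {A : Type w} [AddCommGroup A] [Finite A]

namespace Bil

variable {β : Bil F V} {Φ : Data F V A} {G : Subgroup (PG F V)} {x z : A}

/-- The field with an adjoined square root of minus one. -/
abbrev QK (F : Type u) [Field F] := QuadraticAlgebra F (-1 : F) 0

section Struct

variable [Module (QK F) V]

/-- The module structure is the complex structure of the frame map. -/
def KS (Φ : Data F V A) (x : A) : Prop := ∀ (c : QK F) (v : V), c • v = c.re • v + c.im • Φ.u x v

theorem alg_smul (hKS : KS Φ x) (r : F) (v : V) : algebraMap F (QK F) r • v = r • v := by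
  rw [hKS]
  simp only [QuadraticAlgebra.algebraMap_re, QuadraticAlgebra.algebraMap_im, zero_smul, add_zero]

theorem tower (hKS : KS Φ x) : IsScalarTower F (QK F) V := ⟨fun r c v => by
  rw [hKS, hKS, QuadraticAlgebra.re_smul, QuadraticAlgebra.im_smul, smul_eq_mul, smul_eq_mul, mul_smul, mul_smul,
    smul_add]⟩

theorem finiteK (hKS : KS Φ x) : Module.Finite (QK F) V := by
  haveI := tower hKS
  exact Module.Finite.of_restrictScalars_finite F _ _

theorem map_smul_vk (hKS : KS Φ x) {k : V ≃ₗ[F] V} (hk : ∀ v, k (Φ.u x v) = Φ.u x (k v)) (c : QK F) (v : V) :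
    k (c • v) = c • k v := by
  rw [hKS, hKS, map_add, map_smul, map_smul, hk]

/-- A map commuting with the frame map, as a map of the complex structure. -/
def linK (hKS : KS Φ x) (k : V ≃ₗ[F] V) (hk : ∀ v, k (Φ.u x v) = Φ.u x (k v)) : V ≃ₗ[QK F] V where
  toFun := k
  invFun := k.symm
  map_add' := k.map_add
  map_smul' c v := map_smul_vk hKS hk c v
  left_inv := k.symm_apply_apply
  right_inv := k.apply_symm_apply

theorem linK_apply (hKS : KS Φ x) (k : V ≃ₗ[F] V) (hk : ∀ v, k (Φ.u x v) = Φ.u x (k v)) (v : V) :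
    linK hKS k hk v = k v := rfl
variable (Φ) in
theorem rest_nd (hxz : Φ.sg x z = -1) {p : Φ.rest x z} (h : ∀ q : Φ.rest x z, Φ.sg p q = 1) : p = 0 := by
  have h1 : (p : A) ∈ Φ.perp (Φ.rest x z) := fun q hq => h ⟨q, hq⟩
  rw [show Φ.perp (Φ.rest x z) = _ from Φ.perp_perp _] at h1
  obtain ⟨y, hy, y', hy', e⟩ := AddSubgroup.mem_sup.mp h1
  obtain ⟨hp1, hp2⟩ := Φ.mem_perp_two.mp p.2
  apply Subtype.ext
  show (p : A) = 0
  rcases Φ.mem_zmultiples.mp hy with h | h <;> rcases Φ.mem_zmultiples.mp hy' with h' | h' <;>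
    rw [h, h'] at e <;> rw [← e] at hp1 hp2 ⊢
  · exact zero_add 0
  · rw [zero_add, hxz] at hp1; exact absurd hp1.symm Φ.one_ne_neg
  · rw [add_zero, Φ.sg_symm, hxz] at hp2; exact absurd hp2.symm Φ.one_ne_neg
  · rw [Φ.sg_add, Φ.sg_self, one_mul, hxz] at hp1; exact absurd hp1.symm Φ.one_ne_neg

theorem u_comm_x {p : Φ.rest x z} (v : V) : Φ.u p (Φ.u x v) = Φ.u x (Φ.u p v) := by
  rw [Φ.comm p x, Φ.sg_symm x p, Φ.mem_cen.mp (Data.rest_cen p), one_smul]

variable [hq : Fact (∀ r : F, r ^ 2 ≠ -1 + 0 * r)] [FiniteDimensional (QK F) V]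

/-- The frame on the complex structure. -/
noncomputable def DK (hKS : KS Φ x) (hxz : Φ.sg x z = -1) : Data (QK F) (V) (Φ.rest x z) where
  u p := linK hKS (Φ.u p) u_comm_x
  sg p q := algebraMap F (QK F) (Φ.sg p q)
  two := fun e => Φ.two ((algebraMap F (QK F)).injective (by rw [map_ofNat, map_zero, e]))
  elem p := Subtype.ext (Φ.elem p)
  mul p q := by
    obtain ⟨c, hc⟩ := Φ.mul p q
    exact ⟨algebraMap F _ c, fun v => (hc v).trans (alg_smul hKS c _).symm⟩
  sign p q := by
    rcases Φ.sign p q with h | h <;> rw [h]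
    · exact Or.inl (map_one _)
    · exact Or.inr (by rw [map_neg, map_one])
  comm p q v := (Φ.comm p q v).trans (alg_smul hKS _ _).symm
  nd p hp := by
    by_contra hh
    push Not at hh
    exact hp (rest_nd Φ hxz fun q => (Φ.sign p q).resolve_right fun e => hh q (by rw [e, map_neg, map_one]))
  dim := by
    haveI := tower hKS
    have h1 := Module.finrank_mul_finrank F (QK F) (V)
    rw [QuadraticAlgebra.finrank_eq_two] at h1
    have h2 := Φ.card_rest hxz
    have h3 : finrank F (V) ^ 2 = Nat.card A := Φ.dim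
    rw [← h1, mul_pow] at h3
    omega

/-- The group induced on the complex structure. -/
noncomputable def GK (hKS : KS Φ x) (G : Subgroup (PG F V)) : Subgroup (PG (QK F) (V)) where
  carrier := {g | ∃ (k : V ≃ₗ[F] V) (hk : ∀ v, k (Φ.u x v) = Φ.u x (k v)), pr F V k ∈ G ∧
    pr (QK F) _ (linK hKS k hk) = g}
  one_mem' := ⟨1, fun _ => rfl, by rw [map_one]; exact G.one_mem, map_one _⟩
  mul_mem' := by
    rintro _ _ ⟨k, hkx, hk, rfl⟩ ⟨k', hkx', hk', rfl⟩
    refine ⟨k * k', fun v => ?_, by rw [map_mul]; exact G.mul_mem hk hk', ?_⟩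
    · rw [LinearEquiv.mul_apply, hkx', hkx]; rfl
    · rw [← map_mul]; exact congrArg _ (LinearEquiv.ext fun v => rfl)
  inv_mem' := by
    rintro _ ⟨k, hkx, hk, rfl⟩
    refine ⟨k⁻¹, fun v => k.injective ?_, by rw [map_inv]; exact G.inv_mem hk, ?_⟩
    · rw [hkx, show ∀ y, k (k⁻¹ y) = y from k.apply_symm_apply, show ∀ y, k (k⁻¹ y) = y from k.apply_symm_apply]
    · rw [← map_inv]; exact congrArg _ (LinearEquiv.ext fun v => rfl)

theorem eigenH_full (hKS : KS Φ x) (hx : One Φ x) (hS : β.Setup Φ) (hG : β.Grp Φ G) (hxz : Φ.sg x z = -1) :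
    (DK hKS hxz).Full (GK hKS G) := by
  refine ⟨?_, fun p hp => ?_⟩
  · rintro _ ⟨p, rfl⟩
    exact ⟨Φ.u p, u_comm_x, hG.le (Φ.e_mem p), rfl⟩
  · have hxp : Φ.sg x p = 1 := Φ.mem_cen.mp (Data.rest_cen p)
    obtain ⟨r, hr, hxr, hcase⟩ := exists_rep hS hx hxp
    have hcom : ∀ v, tE hr (Φ.u x v) = Φ.u x (tE hr v) :=
      (tE_tz hr).comm (by rw [Φ.sg_symm]; exact hxr)
    have hcomx : ∀ v, tE hx (Φ.u x v) = Φ.u x (tE hx v) := (tE_tz hx).comm (Φ.sg_self x)
    have hkx : ∀ v, (tE hr * tE hx) (Φ.u x v) = Φ.u x ((tE hr * tE hx) v) := fun v => by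
      rw [LinearEquiv.mul_apply, hcomx, hcom]; rfl
    obtain ⟨ζ, hζ1, hζ2⟩ : ∃ ζ : QK F, (∀ v : V, ζ • (DK hKS hxz).u p (ζ • (DK hKS hxz).u p v) = -v) ∧
        ∀ v : V, ((Φ.u r v)) = ζ • (DK hKS hxz).u p v := by
      rcases hcase with ⟨rfl, hp1⟩ | ⟨m, hm, hsq, hru⟩
      · exact ⟨1, fun v => by rw [one_smul, one_smul]; exact hp1 v, fun v => by rw [one_smul]; rfl⟩
      · refine ⟨⟨0, m⟩, fun v => ?_, fun v => ?_⟩
        · rw [map_smul, smul_smul]
          show (_ : QK F) • ((Φ.u p (Φ.u p v))) = -v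
          rw [hsq, show (⟨0, m⟩ : QK F) * ⟨0, m⟩ = -1 by
            refine QuadraticAlgebra.ext ?_ ?_
            · simp [hm, QuadraticAlgebra.re_one]
            · simp [QuadraticAlgebra.im_one], neg_one_smul]
        · rw [hKS]
          show Φ.u r v = (0 : F) • Φ.u p v + m • Φ.u x (Φ.u p v)
          rw [zero_smul, zero_add, hru, ← u_comm_x]
    refine ⟨linK hKS (tE hr) hcom, ⟨ζ, hζ1, fun v => ?_⟩, tE hr * tE hx, hkx, hG.pair r x hr hx, ?_⟩
    · show ((tE hr v)) = v + ζ • (DK hKS hxz).u p v
      rw [← hζ2]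
      rfl
    · have hne : (⟨1, 1⟩ : QK F) ≠ 0 := fun e => by simpa using congrArg QuadraticAlgebra.re e
      refine pr_eq_pr.mpr ⟨(⟨1, 1⟩ : QK F)⁻¹, fun v => ?_⟩
      have e : (((tE hr * tE hx) v)) = (⟨1, 1⟩ : QK F) • linK hKS (tE hr) hcom v := by
        rw [← map_smul]
        show tE hr (tE hx v) = tE hr _
        congr 1
        rw [tE_apply, hKS, one_smul, one_smul]
      show linK hKS (tE hr) hcom v = _ • (((tE hr * tE hx) v))
      rw [e, inv_smul_smul₀ hne]

end Struct

/-- The hermitian form. -/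
noncomputable def hForm (Φ : Data F V A) (x : A) (β : Bil F V) (α : QK F) (v w : V) : QK F :=
  α * ⟨β.B v w, -β.B (Φ.u x v) w⟩

theorem dichotomy_H [Fact (∀ r : F, r ^ 2 ≠ -1 + 0 * r)] [Fintype F] (hS : β.Setup Φ) (hG : β.Grp Φ G) (hA : Wide Φ)
    (hprime : ∀ c : F, ∃ n : ℕ, (n : F) = c) (hx : One Φ x) : Split1 Φ G x ∨ β.Trans Φ hS G x := by
  classical
  obtain ⟨z, hxz⟩ := Φ.nd x (one_ne_zero hS hx)
  haveI : Finite (QK F) := Module.finite_of_finite F
  haveI : Fintype (QK F) := Fintype.ofFinite _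
  let qh : QK F →ₐ[F] Module.End F V :=
    QuadraticAlgebra.lift ⟨(Φ.u x).toLinearMap, LinearMap.ext fun v => by
      show Φ.u x (Φ.u x v) = (-1 : F) • v + (0 : F) • Φ.u x v
      rw [hx, zero_smul, add_zero, neg_one_smul]⟩
  letI : Module (QK F) V := Module.compHom V qh.toRingHom
  have hKS : KS Φ x := fun c v => rfl
  haveI : FiniteDimensional (QK F) V := finiteK hKS
  let σ : QK F ≃+* QK F :=
    { toFun := star
      invFun := star
      left_inv := star_star
      right_inv := star_star
      map_mul' := fun a b => by rw [star_mul, mul_comm]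
      map_add' := star_add }
  obtain ⟨α, hα0, hα⟩ : ∃ α : QK F, α ≠ 0 ∧ σ α = algebraMap F (QK F) β.ε * α := by
    rcases β.heps with he | he
    · exact ⟨1, _root_.one_ne_zero, by rw [he, map_one, map_one, one_mul]⟩
    · refine ⟨⟨0, 1⟩, fun e => by simpa using congrArg QuadraticAlgebra.im e, ?_⟩
      rw [he]
      refine QuadraticAlgebra.ext ?_ ?_ <;> simp [σ]
  have hux : ∀ v w, β.B (Φ.u x w) v = -(β.ε * β.B (Φ.u x v) w) := fun v w => by
    rw [β.swap, ← hS.isom x v (Φ.u x w), hx, β.neg_right, mul_neg]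
  have hcore : ∀ v, (∀ w, hForm Φ x β α v w = 0) → v = 0 := fun v hv => β.nondeg _ fun w => by
    have := congrArg QuadraticAlgebra.re ((mul_eq_zero.mp (hv w)).resolve_left hα0)
    simpa using this
  let B0 : Geom (QK F) (V) :=
    { σ := σ
      f := hForm Φ x β α
      add_left := fun v v' w => by
        unfold hForm
        rw [← mul_add]
        congr 1
        refine QuadraticAlgebra.ext ?_ ?_
        · simp only [QuadraticAlgebra.re_add]
          exact β.add_left v v' w
        · simp only [QuadraticAlgebra.im_add]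
          show -β.B (Φ.u x (v + v')) w = _
          rw [map_add, β.add_left, neg_add]
      smul_left := fun c v w => by
        unfold hForm
        rw [mul_left_comm]
        congr 1
        have e1 : β.B (c • v : V) w = c.re * β.B v w + c.im * β.B (Φ.u x v) w := by
          rw [hKS]
          exact (β.add_left _ _ _).trans (by rw [β.smul_left, β.smul_left])
        have e2 : β.B (Φ.u x (((c • v : V)))) w =
            c.re * β.B (Φ.u x v) w - c.im * β.B v w := by
          show β.B (Φ.u x (c.re • v + c.im • Φ.u x v)) w = _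
          rw [map_add, map_smul, map_smul, hx, β.add_left, β.smul_left, β.smul_left, β.neg_left]
          ring
        refine QuadraticAlgebra.ext ?_ ?_
        · simp only [QuadraticAlgebra.re_mul]
          rw [e1]; ring
        · simp only [QuadraticAlgebra.im_mul]
          rw [e2]; ring
      herm := fun v w => by
        unfold hForm
        rw [map_mul, hα, mul_assoc, mul_left_comm]
        congr 1
        rw [hux v w]
        refine QuadraticAlgebra.ext ?_ ?_
        · simp [σ, β.swap v w]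
        · simp [σ]
      invol := star_star
      kind := Or.inr ⟨hcore, ⟨⟨0, 1⟩, fun e => by
          have := congrArg QuadraticAlgebra.im e
          simp [σ] at this
          exact Φ.one_ne_neg this.symm⟩,
        fun c hc => by
          have h1 := congrArg QuadraticAlgebra.im hc
          simp [σ] at h1
          have h2 : c.im = 0 := (mul_eq_zero.mp (show (2 : F) * c.im = 0 by linear_combination -h1)).resolve_left Φ.two
          obtain ⟨n, hn⟩ := hprime c.re
          refine ⟨n, ?_⟩
          rw [← map_natCast (algebraMap F (QK F)), hn]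
          exact QuadraticAlgebra.ext rfl h2.symm,
        fun t ht => by
          have h1 := congrArg QuadraticAlgebra.im ht
          simp [σ] at h1
          have h2 : t.im = 0 := (mul_eq_zero.mp (show (2 : F) * t.im = 0 by linear_combination -h1)).resolve_left Φ.two
          obtain ⟨n, hn⟩ := hprime t.re
          obtain ⟨p, hp⟩ := CharP.exists F
          haveI : NeZero p := ⟨(CharP.char_is_prime F p).ne_zero⟩
          obtain ⟨a, b, hab⟩ := CharP.sq_add_sq F p (n : ℤ)
          refine ⟨⟨a, b⟩, QuadraticAlgebra.ext ?_ ?_⟩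
          · simp [σ]
            rw [← hn]
            push_cast at hab
            linear_combination hab
          · simp [σ, h2]
            ring⟩ }
  have hB0 : B0.IsHerm := B0.cases.resolve_left fun hz => by
    obtain ⟨v, hv⟩ := Φ.exists_ne
    exact hv (hcore v fun w => hz.1 _ _)
  have hisom : ∀ (k : V ≃ₗ[F] V) (hk : ∀ v, k (Φ.u x v) = Φ.u x (k v)) (μ : F),
      (∀ v w, β.B (k v) (k w) = μ * β.B v w) →
      ∀ v w : V, B0.f (linK hKS k hk v) (linK hKS k hk w) = algebraMap F _ μ * B0.f v w := by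
    intro k hk μ hμ v w
    show α * _ = _ * (α * _)
    rw [mul_left_comm]
    congr 1
    refine QuadraticAlgebra.ext ?_ ?_
    · simp only [QuadraticAlgebra.re_mul, QuadraticAlgebra.algebraMap_re, QuadraticAlgebra.algebraMap_im]
      show β.B (k v) (k w) = _
      rw [hμ]; ring
    · simp only [QuadraticAlgebra.im_mul, QuadraticAlgebra.algebraMap_re, QuadraticAlgebra.algebraMap_im]
      show -β.B (Φ.u x (k v)) (k w) = _
      rw [← hk, hμ]; ring
  have hnorm : ∀ s : QK F, (∃ d : F, (d = 1 ∨ d = -1) ∧ s * s = algebraMap F _ d) → s * σ s = 1 := by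
    rintro s ⟨d, hd, e⟩
    have e1 := congrArg QuadraticAlgebra.re e
    have e2 := congrArg QuadraticAlgebra.im e
    simp at e1 e2
    have e3 : s.re * s.im = 0 :=
      (mul_eq_zero.mp (show (2 : F) * (s.re * s.im) = 0 by linear_combination e2)).resolve_left Φ.two
    refine QuadraticAlgebra.ext ?_ ?_
    · simp [σ]
      rw [show QuadraticAlgebra.re (1 : QK F) = 1 from rfl] at *
      have hno := Fact.out (p := ∀ r : F, r ^ 2 ≠ -1 + 0 * r)
      rcases mul_eq_zero.mp e3 with h | h <;> rw [h] at e1 ⊢ <;> rcases hd with rfl | rfl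
      · exact absurd (show s.im ^ 2 = -1 + 0 * s.im by linear_combination -e1) (hno _)
      · linear_combination -e1
      · linear_combination e1
      · exact absurd (show s.re ^ 2 = -1 + 0 * s.re by linear_combination e1) (hno _)
    · simp [σ, QuadraticAlgebra.im_one]
      ring
  have hC : B0.Compat (DK hKS hxz) := fun p => ⟨fun v w => by
      have := hisom (Φ.u p) u_comm_x 1 (fun v w => by rw [one_mul]; exact hS.isom p v w) v w
      rwa [map_one, one_mul] at this,
    fun _ s hs => hnorm s ⟨dd Φ p, dd_sign _, by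
      obtain ⟨v, hv⟩ := Φ.exists_ne
      refine smul_left_injective (QK F) (M := V) (m := v) hv ?_
      show (s * s) • (v) = algebraMap F (QK F) (dd Φ p) • (v)
      rw [← hs, alg_smul hKS]
      exact sq_eq hS p v⟩⟩
  have hP : B0.Pres (GK hKS G) := by
    rintro g ⟨k, hkx, hk, e⟩
    obtain ⟨c, hc⟩ := pr_eq_pr.mp e
    obtain ⟨μ, hμ, hsim⟩ := hG.pres k hk
    have hc0 : c ≠ 0 := by
      rintro rfl
      obtain ⟨v, hv⟩ := Φ.exists_ne
      exact hv (g.map_eq_zero_iff.mp (show g (v) = 0 by rw [hc, zero_smul]))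
    refine ⟨c * σ c * algebraMap F _ μ, mul_ne_zero (mul_ne_zero hc0 ((map_ne_zero σ).mpr hc0))
      ((map_ne_zero _).mpr hμ), fun v w => ?_⟩
    rw [hc, hc, B0.smul_left, B0.smul_right, hisom k hkx μ hsim v w]
    show c * (σ c * _) = _
    ring
  have h4 : 4 ≤ Nat.card (Φ.rest x z) := by have := Φ.card_rest hxz; have := hA.le; omega
  rcases Geom.dichotomy (eigenH_full hKS hx hS hG hxz) hC hP h4
      (i := (⟨0, 1⟩ : QK F)) (QuadraticAlgebra.ext (by simp; exact (show QuadraticAlgebra.re (1 : QK F) = 1 from rfl).symm) (by simp; exact (show QuadraticAlgebra.im (1 : QK F) = 0 from rfl).symm))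
      (fun _ => QuadraticAlgebra.ext (by simp [B0, σ]; first | rfl | exact (show QuadraticAlgebra.re (1 : QK F) = 1 from rfl).symm) (by simp [B0, σ]; first | rfl | exact (show QuadraticAlgebra.im (1 : QK F) = 0 from rfl).symm)) with hN | hB
  · left
    intro k hk hkx
    have hmem : pr (QK F) _ (linK hKS k hkx) ∈ (DK hKS hxz).N := hN ⟨k, hkx, hk, rfl⟩
    have hrest : ∀ p0 ∈ Φ.rest x z, ∃ q ∈ Φ.cen x, pr F V k * Φ.e p0 * (pr F V k)⁻¹ = Φ.e q := by
      intro p0 hp0
      obtain ⟨q0, hq0⟩ := (DK hKS hxz).conj_of_mem_N hmem ⟨p0, hp0⟩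
      obtain ⟨c, hc⟩ := pr_conj.mp hq0
      have hc' : ∀ v : V, k (Φ.u p0 v) = c.re • Φ.u q0 (k v) + c.im • Φ.u x (Φ.u q0 (k v)) :=
        fun v => hc (v)
      obtain ⟨v, hv⟩ := Φ.exists_ne
      have hcc : (c * c) * algebraMap F _ (dd Φ q0) = algebraMap F _ (dd Φ p0) := by
        have e1 := hc ((DK hKS hxz).u ⟨p0, hp0⟩ (v))
        rw [hc (v), map_smul, smul_smul] at e1
        refine smul_left_injective (QK F) (M := V) (m := ((k v)))
          (fun e => hv (k.map_eq_zero_iff.mp e)) ?_
        show _ • ((k v)) = _ • ((k v))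
        rw [mul_smul, alg_smul hKS, alg_smul hKS]
        have e1' : k (Φ.u p0 (Φ.u p0 v)) = (c * c) • ((Φ.u q0 (Φ.u q0 (k v)))) := e1
        rw [sq_eq hS, sq_eq hS, map_smul] at e1'
        exact e1'.symm
      have e2 := congrArg QuadraticAlgebra.im hcc
      simp at e2
      have e3 : c.re * c.im = 0 :=
        (mul_eq_zero.mp (show (2 : F) * (c.re * c.im) = 0 by
          linear_combination e2.resolve_right fun h => (by simpa [h] using dd_sq (Φ := Φ) (q0 : A) : False))).resolve_left Φ.two
      rcases mul_eq_zero.mp e3 with h | h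
      · obtain ⟨m, hm⟩ := Φ.mul x q0
        refine ⟨x + q0, (Φ.cen x).add_mem (Φ.self_mem_cen x) (Data.rest_cen q0),
          pr_conj.mpr ⟨c.im * m, fun w => ?_⟩⟩
        rw [← smul_smul, ← hm, hc', h, zero_smul, zero_add]
      · exact ⟨q0, Data.rest_cen q0, pr_conj.mpr ⟨c.re, fun w => by rw [hc', h, zero_smul, add_zero]⟩⟩
    intro p hp
    obtain ⟨p0, hp0, hpp⟩ := Data.exists_rest hxz hp
    obtain ⟨q, hq, hqe⟩ := hrest p0 hp0
    rcases hpp with rfl | rfl
    · exact ⟨q, hq, hqe⟩
    · have hkxe : pr F V k * Φ.e x = Φ.e x * pr F V k := pr_commute.mpr ⟨1, fun v => by rw [one_smul]; exact hkx v⟩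
      refine ⟨q + x, (Φ.cen x).add_mem hq (Φ.self_mem_cen x), ?_⟩
      rw [Φ.e_add, Φ.e_add, ← hqe]
      calc pr F V k * (Φ.e p0 * Φ.e x) * (pr F V k)⁻¹
          = pr F V k * Φ.e p0 * (pr F V k)⁻¹ * (pr F V k * Φ.e x * (pr F V k)⁻¹) := by group
        _ = _ := by rw [hkxe, mul_inv_cancel_right]
  · right
    intro hx' a ha s
    suffices key : ∀ t : F, pr F V (TE hS hx ha (-t)) ∈ G by simpa using key (-s)
    intro t
    obtain ⟨ψ, hψ⟩ : ∃ ψ : V → QK F, ∀ v, ψ v • (a) = ((β.lop Φ x a v)) ∧
        ψ v = algebraMap F (QK F) 1 * (if β.ε = 1 then ⟨-β.B v (Φ.u x a), β.B v a⟩ else ⟨β.B v a, β.B v (Φ.u x a)⟩) := by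
      refine ⟨fun v => algebraMap F (QK F) 1 *
        (if β.ε = 1 then ⟨-β.B v (Φ.u x a), β.B v a⟩ else ⟨β.B v a, β.B v (Φ.u x a)⟩), fun v => ⟨?_, rfl⟩⟩
      show (_ * _) • a = _
      rw [map_one, one_mul, hKS]
      rcases β.heps with he | he
      · rw [if_pos he, lop_one he]
        show -β.B v (Φ.u x a) • a + β.B v a • Φ.u x a = _
        module
      · rw [if_neg (by rw [he]; exact fun h => Φ.one_ne_neg h.symm), lop_neg he]
    rcases eq_or_ne a 0 with rfl | ha0
    · rw [show TE hS hx ha (-t) = 1 from LinearEquiv.ext fun v => by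
        rw [TE_apply]
        rcases β.heps with he | he
        · simp [lop_one he, β.zero_right]
        · simp [lop_neg he, β.zero_right]]
      rw [map_one]; exact G.one_mem
    have hinj : Function.Injective fun c : QK F => c • (a) := smul_left_injective (QK F) ha0
    let φ : V →ₗ[QK F] QK F :=
      { toFun := fun v => algebraMap F (QK F) t * ψ v
        map_add' := fun v w => hinj (by
          show (algebraMap F (QK F) t * ψ (v + w)) • (a) = _
          simp only [mul_smul, add_smul, (hψ _).1, alg_smul hKS]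
          show t • β.lop Φ x a _ = t • β.lop Φ x a _ + t • β.lop Φ x a _
          rw [← smul_add, lop_add])
        map_smul' := fun c v => hinj (by
          have e := map_smul_vk hKS (k := TE hS hx ha 1) (TE_comm hS hx ha 1) c v
          change TE hS hx ha 1 (((c • v : V))) = _ at e
          simp only [TE_apply, one_smul] at e
          show (algebraMap F (QK F) t * ψ (((c • v : V)))) • (a) =
            (c • (algebraMap F (QK F) t * ψ v)) • (a)
          rw [smul_eq_mul, mul_smul, mul_smul, mul_smul, (hψ _).1, (hψ _).1, smul_comm c]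
          congr 1
          rw [← sub_eq_zero] at e ⊢
          rw [← e, smul_add]
          show _ = ((((c • v : V))) + _) - (_ + _)
          abel) }
    have hφa : φ (a) = 0 := hinj (by
      show (algebraMap F (QK F) t * ψ a) • (a) = (0 : QK F) • (a)
      rw [mul_smul, (hψ _).1, (lop_a hS hx ha).1, zero_smul]
      exact smul_zero _)
    have hT := TE_comm hS hx ha t
    have hg0 : ∀ v : V, linK hKS (TE hS hx ha t) hT v = v + φ v • (a) := fun v => by
      show ((TE hS hx ha t v)) = v + (algebraMap F (QK F) t * ψ v) • _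
      rw [mul_smul, (hψ _).1, alg_smul hKS]
      rfl
    obtain ⟨k, hkx, hk, hkl⟩ := hB _ _ φ hg0 hφa (fun v w => by
      have := hisom (TE hS hx ha t) hT 1 (fun v w => by rw [one_mul]; exact TE_isom hS hx ha t v w) v w
      rwa [map_one, one_mul] at this)
    obtain ⟨c, hc⟩ := pr_eq_pr.mp hkl
    have hc0 : c ≠ 0 := by
      rintro rfl
      obtain ⟨v0, hv0⟩ := Φ.exists_ne
      exact hv0 ((linK hKS (TE hS hx ha t) hT).map_eq_zero_iff.mp (show linK hKS (TE hS hx ha t) hT
        (v0) = 0 by rw [hc, zero_smul]))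
    have hpow : ∀ n : ℕ, ∀ v : V, c ^ n • (linK hKS k hkx ^ n) v = v + (n * φ v) • (a) ∧
        (linK hKS k hkx ^ n) v = (((k ^ n) v)) := by
      intro n
      induction n with
      | zero => exact fun v => ⟨by simp, rfl⟩
      | succ n ih =>
        intro v
        refine ⟨?_, ?_⟩
        · rw [pow_succ c, mul_smul, pow_succ (linK hKS k hkx), LinearEquiv.mul_apply, ← map_smul (linK hKS k hkx ^ n),
            ← hc v, hg0 v, (ih _).1, map_add, map_smul, hφa, smul_zero, add_zero]
          push_cast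
          rw [add_mul, one_mul, add_smul]
          abel
        · rw [pow_succ (linK hKS k hkx), LinearEquiv.mul_apply, (ih _).2, pow_succ k]
          rfl
    have h0 := Fintype.card_pos (α := QK F)
    have e : k ^ (Fintype.card (QK F) - 1) = TE hS hx ha (-t) := LinearEquiv.ext fun v => by
      obtain ⟨h1, h2⟩ := hpow (Fintype.card (QK F) - 1) (v)
      rw [FiniteField.pow_card_sub_one_eq_one c hc0, one_smul, h2, Nat.cast_sub (by omega),
        FiniteField.cast_card_eq_zero, Nat.cast_one, zero_sub] at h1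
      refine h1.trans ?_
      show (v) + (-1 * (algebraMap F (QK F) t * ψ v)) • _ = _
      rw [neg_one_mul, ← neg_mul, ← map_neg, mul_smul, (hψ _).1, alg_smul hKS]
      rfl
    rw [← e, map_pow]
    exact G.pow_mem hk _

end Bil

end Cfsg.Agent.Classical.Frame
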