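/-
A frame map squaring to minus one when minus one is a square: its centraliser permutes the frame or contains
every rank two transvection commuting with it.
-/
import Cfsg.Agent.Lib.Classical.Frame.Bil.Trans
import Cfsg.Agent.Lib.Classical.Frame.Dich

set_option autoImplicit false
set_option linter.unusedSectionVars false

namespace Cfsg.Agent.Classical.Frame

open Module

universe u v w

variable {F : Type u} [Field F] {V : Type v} [AddCommGroup V] [Module F V] [FiniteDimensional F V]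
  {A : Type w} [AddCommGroup A] [Finite A]

namespace Bil

variable {β : Bil F V} {Φ : Data F V A} {G : Subgroup (PG F V)}

theorem eig_iso (hS : β.Setup Φ) {x : A} {i : F} (hi : i * i = -1) {v w : V} (hv : Φ.u x v = i • v)
    (hw : Φ.u x w = i • w) : β.B v w = 0 := by
  have h := hS.isom x v w
  rw [hv, hw, β.smul_left, β.smul_right, ← mul_assoc, hi] at h
  exact (mul_eq_zero.mp (show (2 : F) * β.B v w = 0 by linear_combination -h)).resolve_left Φ.two

theorem eq_of_agree (hS : β.Setup Φ) {x : A} {i : F} (hi : i * i = -1) (hx : One Φ x) {g h : V ≃ₗ[F] V}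
    (hg : β.Isom g) (hh : β.Isom h) (hgx : ∀ v, g (Φ.u x v) = Φ.u x (g v))
    (hhx : ∀ v, h (Φ.u x v) = Φ.u x (h v)) (he : ∀ v, Φ.u x v = i • v → g v = h v) : g = h := by
  have hs : ∀ v, Φ.u x (Φ.u x v) = (i * i) • v := fun v => by rw [hx, hi, neg_one_smul]
  have hi0 : i ≠ 0 := fun e => by simp [e] at hi
  have hi' : (-i) * (-i) = -1 := by rw [neg_mul_neg, hi]
  refine LinearEquiv.toLinearMap_injective (Φ.ext_eigen hi0 hs he fun v hv => ?_)
  refine β.ext fun y => ?_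
  obtain ⟨y', rfl⟩ := h.surjective y
  obtain ⟨a, ha, b, hb, rfl⟩ := Geom.decomp hi0 hs y'
  rw [Φ.mem_eig] at ha hb
  have hgv : Φ.u x (g v) = -i • g v := by rw [← hgx, hv, map_smul]
  have hhv : Φ.u x (h v) = -i • h v := by rw [← hhx, hv, map_smul]
  have hhb : Φ.u x (h b) = -i • h b := by rw [← hhx, hb, map_smul]
  show β.B (g v) (h (a + b)) = β.B (h v) (h (a + b))
  rw [map_add, β.add_right, β.add_right, eig_iso hS hi' hgv hhb, eig_iso hS hi' hhv hhb, hh, ← he a ha, hg]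

theorem eigenS_full (hS : β.Setup Φ) (hG : β.Grp Φ G) {x z : A} (hx : One Φ x) (hxz : Φ.sg x z = -1) {i : F}
    (hi : i * i = -1) (hi0 : i ≠ 0) (hs : ∀ v, Φ.u x (Φ.u x v) = (i * i) • v) :
    (Φ.sub x z hxz i hi0 hs).Full (Φ.induced G x i) := by
  refine ⟨?_, fun p hp => ?_⟩
  · rintro _ ⟨p, rfl⟩
    refine ⟨Φ.u p, (Φ.sub x z hxz i hi0 hs).u p, hG.le (Φ.e_mem p), fun v => ?_, fun v => rfl, rfl⟩
    rw [Φ.comm p x, Φ.sg_symm x p, Φ.mem_cen.mp (Data.rest_cen p), one_smul]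
  · have hxp : Φ.sg x p = 1 := Φ.mem_cen.mp (Data.rest_cen p)
    obtain ⟨r, hr, hxr, hcase⟩ := exists_rep hS hx hxp
    have hcom : ∀ v, tE hr (Φ.u x v) = Φ.u x (tE hr v) :=
      (tE_tz hr).comm (by rw [Φ.sg_symm]; exact hxr)
    have hcomx : ∀ v, tE hx (Φ.u x v) = Φ.u x (tE hx v) := (tE_tz hx).comm (Φ.sg_self x)
    have hinv : ∀ v ∈ Φ.eig x i, tE hr v ∈ Φ.eig x i := fun v hv => by
      rw [Φ.mem_eig] at hv ⊢
      rw [← hcom, hv, map_smul]
    obtain ⟨ζ, hζ1, hζ2⟩ : ∃ ζ : F, (∀ v, ζ • Φ.u p (ζ • Φ.u p v) = -v) ∧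
        ∀ v ∈ Φ.eig x i, Φ.u r v = ζ • Φ.u p v := by
      rcases hcase with ⟨rfl, hp1⟩ | ⟨m, hm, hsq, hru⟩
      · exact ⟨1, fun v => by rw [one_smul, one_smul]; exact hp1 v, fun v _ => by rw [one_smul]⟩
      · refine ⟨m * i, fun v => ?_, fun v hv => by rw [hru, Φ.mem_eig.mp hv, map_smul, smul_smul]⟩
        rw [map_smul, smul_smul, hsq, show m * i * (m * i) = -1 by linear_combination hi + (i * i) * hm,
          neg_one_smul]
    have hkx : ∀ v, (tE hr * tE hx) (Φ.u x v) = Φ.u x ((tE hr * tE hx) v) := fun v => by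
      rw [LinearEquiv.mul_apply, hcomx, hcom]; rfl
    have hkinv : ∀ v ∈ Φ.eig x i, (tE hr * tE hx) v ∈ Φ.eig x i := fun v hv => by
      rw [Φ.mem_eig] at hv ⊢
      rw [← hkx, hv, map_smul]
    refine ⟨Data.restr (tE hr) hinv, ⟨ζ, fun v => Subtype.ext (hζ1 v), fun v => Subtype.ext ?_⟩,
      tE hr * tE hx, Data.restr _ hkinv, hG.pair r x hr hx, hkx, fun v => rfl, ?_⟩
    · show tE hr (v : V) = (v : V) + ζ • Φ.u p (v : V)
      rw [tE_apply, hζ2 v v.2]
    · have hi1 : (1 : F) + i ≠ 0 := fun e => Φ.two (by linear_combination (1 - i) * e + hi)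
      refine pr_eq_pr.mpr ⟨(1 + i)⁻¹, fun v => Subtype.ext ?_⟩
      show tE hr (v : V) = (1 + i)⁻¹ • tE hr (tE hx (v : V))
      rw [tE_apply hx, Φ.mem_eig.mp v.2, show (v : V) + i • (v : V) = (1 + i) • (v : V) by module, map_smul,
        inv_smul_smul₀ hi1]

theorem dichotomy_S [Fintype F] (hS : β.Setup Φ) (hG : β.Grp Φ G) (hA : Wide Φ)
    (hprime : ∀ c : F, ∃ n : ℕ, (n : F) = c) {x : A} (hx : One Φ x) {i : F} (hi : i * i = -1) :
    Split1 Φ G x ∨ β.Trans Φ hS G x := by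
  obtain ⟨z, hxz⟩ := Φ.nd x (one_ne_zero hS hx)
  have hi0 : i ≠ 0 := fun e => by simp [e] at hi
  have hi' : (-i) * (-i) = -1 := by rw [neg_mul_neg, hi]
  have hs : ∀ v, Φ.u x (Φ.u x v) = (i * i) • v := fun v => by rw [hx, hi, neg_one_smul]
  let B0 : Geom F (Φ.eig x i) :=
    { σ := RingEquiv.refl F
      f := fun _ _ => 0
      add_left := fun _ _ _ => (add_zero 0).symm
      smul_left := fun _ _ _ => (mul_zero _).symm
      herm := fun _ _ => rfl
      invol := fun _ => rfl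
      kind := Or.inl ⟨fun _ _ => rfl, hprime⟩ }
  have hnH : ¬ B0.IsHerm := fun hH => by
    obtain ⟨c, hc⟩ := hH.2.1
    exact hc rfl
  have hZ : B0.IsZero := B0.cases.resolve_right hnH
  have h4 : 4 ≤ Nat.card (Φ.rest x z) := by have := Φ.card_rest hxz; have := hA.le; omega
  rcases Geom.dichotomy (eigenS_full hS hG hx hxz hi hi0 hs)
      (fun a => ⟨B0.isom_of_zero hZ _, fun hH => absurd hH hnH⟩)
      (fun g _ => ⟨1, _root_.one_ne_zero, fun v w => (mul_zero _).symm⟩) h4 hi (fun hH => absurd hH hnH) with hN | hB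
  · left
    intro k hk hkx
    have hinv : ∀ v ∈ Φ.eig x i, k v ∈ Φ.eig x i := fun v hv => by
      rw [Φ.mem_eig] at hv ⊢
      rw [← hkx, hv, map_smul]
    have hmem : pr F _ (Data.restr k hinv) ∈ (Φ.sub x z hxz i hi0 hs).N :=
      hN ⟨k, Data.restr k hinv, hk, hkx, fun v => rfl, rfl⟩
    have hrest : ∀ p0 ∈ Φ.rest x z, ∃ q ∈ Φ.cen x, pr F V k * Φ.e p0 * (pr F V k)⁻¹ = Φ.e q := by
      intro p0 hp0
      obtain ⟨q0, hq0⟩ := (Φ.sub x z hxz i hi0 hs).conj_of_mem_N hmem ⟨p0, hp0⟩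
      obtain ⟨c, hc⟩ := pr_conj.mp hq0
      have hc' : ∀ v, Φ.u x v = i • v → k (Φ.u p0 v) = c • Φ.u q0 (k v) := fun v hv =>
        congrArg Subtype.val (hc ⟨v, Φ.mem_eig.mpr hv⟩)
      have hxp0 : Φ.sg x p0 = 1 := (Φ.mem_perp_two.mp hp0).1
      have hxq0 : Φ.sg x q0 = 1 := (Φ.mem_perp_two.mp q0.2).1
      obtain ⟨μ, hμ, hsim⟩ := hG.pres k hk
      obtain ⟨v0, hv0, hv0x⟩ := Φ.exists_eigen (one_ne_zero hS hx) hs
      have hc2 : c * c = dd Φ p0 * dd Φ q0 := by
        have e1 : (dd Φ p0) • k v0 = (c * c * dd Φ q0) • k v0 := by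
          rw [← map_smul, ← sq_eq hS, hc' _ (Φ.mem_eigen_u hxp0 hv0x), hc' _ hv0x, map_smul, smul_smul, sq_eq hS,
            smul_smul]
        have e2 := smul_left_injective F (fun e => hv0 (k.map_eq_zero_iff.mp e)) e1
        linear_combination -dd Φ q0 * e2 - (c * c) * dd_sq (Φ := Φ) (q0 : A)
      have hc0 : c ≠ 0 := by
        rintro rfl
        rw [zero_mul] at hc2
        rcases dd_sign (Φ := Φ) p0 with e | e <;> rcases dd_sign (Φ := Φ) (q0 : A) with e' | e' <;>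
          simp [e, e'] at hc2
      have hminus : ∀ w, Φ.u x w = -i • w → k (Φ.u p0 w) = c⁻¹ • Φ.u q0 (k w) := by
        intro w hw
        refine β.ext fun y => ?_
        obtain ⟨y', rfl⟩ := k.surjective y
        obtain ⟨a, ha, b, hb, rfl⟩ := Geom.decomp hi0 hs y'
        rw [Φ.mem_eig] at ha hb
        have h1 : Φ.u x (k (Φ.u p0 w)) = -i • k (Φ.u p0 w) := by
          rw [← hkx, Φ.mem_eigen_u hxp0 hw, map_smul]
        have h2 : Φ.u x (c⁻¹ • Φ.u q0 (k w)) = -i • (c⁻¹ • Φ.u q0 (k w)) := by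
          rw [map_smul, Φ.mem_eigen_u hxq0 (show Φ.u x (k w) = -i • k w by rw [← hkx, hw, map_smul]), smul_comm]
        have hkb : Φ.u x (k b) = -i • k b := by rw [← hkx, hb, map_smul]
        rw [map_add, β.add_right, β.add_right, eig_iso hS hi' h1 hkb, eig_iso hS hi' h2 hkb, β.smul_left]
        congr 1
        have e1 : β.B (Φ.u p0 w) a = dd Φ p0 * β.B w (Φ.u p0 a) := by
          rw [← hS.isom p0 (Φ.u p0 w) a, sq_eq hS, β.smul_left]
        have e2 : β.B (Φ.u q0 (k w)) (k a) = dd Φ q0 * β.B (k w) (Φ.u q0 (k a)) := by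
          rw [← hS.isom q0 (Φ.u q0 (k w)) (k a), sq_eq hS, β.smul_left]
        have e3 : Φ.u q0 (k a) = c⁻¹ • k (Φ.u p0 a) := by rw [hc' a ha, inv_smul_smul₀ hc0]
        rw [hsim, e1, e2, e3, β.smul_right, hsim]
        field_simp
        linear_combination (β.B w (Φ.u p0 a)) * (dd Φ p0 * hc2 + dd Φ q0 * dd_sq (Φ := Φ) p0)
      rcases mul_self_eq_mul_self_iff.mp (show (c * c) * (c * c) = 1 * 1 by
          rw [hc2]; linear_combination (dd Φ q0 * dd Φ q0) * dd_sq (Φ := Φ) p0 + dd_sq (Φ := Φ) (q0 : A)) with e | e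
      · refine ⟨q0, Data.rest_cen q0, pr_conj.mpr ⟨c, fun v => ?_⟩⟩
        exact LinearMap.congr_fun (Φ.ext_eigen hi0 hs (f := k.toLinearMap ∘ₗ Φ.m p0)
          (g := c • Φ.m q0 ∘ₗ k.toLinearMap) (fun w hw => hc' w hw) fun w hw => by
            show k (Φ.u p0 w) = c • Φ.u q0 (k w)
            rw [hminus w hw, inv_eq_of_mul_eq_one_right e]) v
      · obtain ⟨m, hm⟩ := Φ.mul x q0
        refine ⟨x + q0, (Φ.cen x).add_mem (Φ.self_mem_cen x) (Data.rest_cen q0),
          pr_conj.mpr ⟨c / i * m, fun v => ?_⟩⟩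
        have e' : c⁻¹ = -c := inv_eq_of_mul_eq_one_right (by linear_combination -e)
        rw [← smul_smul, ← hm]
        exact LinearMap.congr_fun (Φ.ext_eigen hi0 hs (f := k.toLinearMap ∘ₗ Φ.m p0)
          (g := (c / i) • (Φ.m x ∘ₗ Φ.m q0) ∘ₗ k.toLinearMap) (fun w hw => by
            show k (Φ.u p0 w) = (c / i) • Φ.u x (Φ.u q0 (k w))
            rw [hc' w hw, Φ.mem_eigen_u hxq0 (show Φ.u x (k w) = i • k w by rw [← hkx, hw, map_smul]), smul_smul,
              div_mul_cancel₀ _ hi0]) fun w hw => by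
            show k (Φ.u p0 w) = (c / i) • Φ.u x (Φ.u q0 (k w))
            rw [hminus w hw, Φ.mem_eigen_u hxq0 (show Φ.u x (k w) = -i • k w by rw [← hkx, hw, map_smul]), smul_smul,
              mul_neg, div_mul_cancel₀ _ hi0, e']) v
    intro p hp
    obtain ⟨p0, hp0, hpp⟩ := Data.exists_rest hxz hp
    obtain ⟨q, hq, hqe⟩ := hrest p0 hp0
    rcases hpp with rfl | rfl
    · exact ⟨q, hq, hqe⟩
    · have hkxe : pr F V k * Φ.e x = Φ.e x * pr F V k := pr_commute.mpr ⟨1, fun v => by rw [one_smul]; exact hkx v⟩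
      refine ⟨q + x, (Φ.cen x).add_mem hq (Φ.self_mem_cen x), ?_⟩
      rw [Φ.e_add, Φ.e_add, ← hqe]
      calc pr F V k * (Φ.e p0 * Φ.e x) * (pr F V k)⁻¹
          = pr F V k * Φ.e p0 * (pr F V k)⁻¹ * (pr F V k * Φ.e x * (pr F V k)⁻¹) := by group
        _ = _ := by rw [hkxe, mul_inv_cancel_right]
  · right
    intro hx' a ha s
    suffices key : ∀ t : F, pr F V (TE hS hx ha (-t)) ∈ G by simpa using key (-s)
    intro t
    have hT := TE_comm hS hx ha t
    have hinv : ∀ v ∈ Φ.eig x i, TE hS hx ha t v ∈ Φ.eig x i := fun v hv => by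
      rw [Φ.mem_eig] at hv ⊢
      rw [← hT, hv, map_smul]
    obtain ⟨κ, hκ⟩ : ∃ κ : F, ∀ v, Φ.u x v = i • v → β.lop Φ x a v = (κ * β.B v a) • (a - i • Φ.u x a) := by
      have e : ∀ v, Φ.u x v = i • v → β.B v (Φ.u x a) = -(i * β.B v a) := fun v hv => by
        rw [← hS.isom x v (Φ.u x a), hv, hx, β.smul_left, β.neg_right, mul_neg]
      rcases β.heps with he | he
      · refine ⟨i, fun v hv => ?_⟩
        rw [lop_one he, e v hv]
        match_scalars <;> first | ring1 | linear_combination (β.B v a) * hi | linear_combination -(β.B v a) * hi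
      · refine ⟨1, fun v hv => ?_⟩
        rw [lop_neg he, e v hv]
        module
    have ha' : a - i • Φ.u x a ∈ Φ.eig x i := by
      rw [Φ.mem_eig, map_sub, map_smul, hx, smul_sub, smul_smul, hi]
      module
    let φ : Φ.eig x i →ₗ[F] F :=
      { toFun := fun v => t * (κ * β.B v a)
        map_add' := fun v w => by rw [Submodule.coe_add, β.add_left]; ring
        map_smul' := fun c v => by rw [Submodule.coe_smul, β.smul_left, RingHom.id_apply, smul_eq_mul]; ring }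
    have hφ : φ ⟨_, ha'⟩ = 0 := by
      show t * (κ * β.B (a - i • Φ.u x a) a) = 0
      rw [β.sub_left, β.smul_left, ha.1, (iso_ua hS hx ha).2]
      ring
    have hg0 : ∀ v : Φ.eig x i, Data.restr (TE hS hx ha t) hinv v = v + φ v • ⟨_, ha'⟩ := fun v => Subtype.ext (by
      show TE hS hx ha t v = (v : V) + (t * (κ * β.B v a)) • (a - i • Φ.u x a)
      rw [TE_apply, hκ v (Φ.mem_eig.mp v.2), smul_smul])
    obtain ⟨k, l, hk, hkx, hl, hkl⟩ := hB _ ⟨_, ha'⟩ φ hg0 hφ (B0.isom_of_zero hZ _)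
    obtain ⟨c, hc⟩ := pr_eq_pr.mp hkl
    obtain ⟨μ, hμ, hsim⟩ := hG.pres k hk
    have hc0 : c ≠ 0 := by
      rintro rfl
      obtain ⟨v0, hv0, hv0x⟩ := Φ.exists_eigen (one_ne_zero hS hx) hs
      have := (Data.restr (TE hS hx ha t) hinv).map_eq_zero_iff.mp
        (show _ = (0 : Φ.eig x i) by rw [hc ⟨v0, Φ.mem_eig.mpr hv0x⟩, zero_smul])
      exact hv0 (congrArg Subtype.val this)
    have hpow : ∀ n : ℕ, (∀ v, (k ^ n) (Φ.u x v) = Φ.u x ((k ^ n) v)) ∧
        (∀ v w, β.B ((k ^ n) v) ((k ^ n) w) = μ ^ n * β.B v w) ∧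
        ∀ v : Φ.eig x i, c ^ n • (k ^ n) (v : V) = (v : V) + (n * φ v) • (a - i • Φ.u x a) := by
      intro n
      induction n with
      | zero => exact ⟨fun v => rfl, fun v w => by simp, fun v => by simp⟩
      | succ n ih =>
        obtain ⟨h1, h2, h3⟩ := ih
        refine ⟨fun v => ?_, fun v w => ?_, fun v => ?_⟩
        · rw [pow_succ, LinearEquiv.mul_apply, hkx, h1]; rfl
        · rw [pow_succ, LinearEquiv.mul_apply, LinearEquiv.mul_apply, h2, hsim, pow_succ, mul_assoc]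
        · rw [pow_succ c, mul_smul, pow_succ k, LinearEquiv.mul_apply, ← map_smul (k ^ n),
            ← hl v, ← Submodule.coe_smul, ← hc v, hg0 v, h3, map_add, map_smul, hφ, smul_zero, add_zero]
          simp only [Submodule.coe_add, Submodule.coe_smul, Nat.cast_succ, add_mul, one_mul, add_smul]
          abel
    obtain ⟨h1, h2, h3⟩ := hpow (Fintype.card F - 1)
    have h0 := Fintype.card_pos (α := F)
    have e : k ^ (Fintype.card F - 1) = TE hS hx ha (-t) := by
      refine eq_of_agree hS hi hx (fun v w => ?_) (TE_isom hS hx ha _) h1 (TE_comm hS hx ha _) fun v hv => ?_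
      · rw [h2, FiniteField.pow_card_sub_one_eq_one μ hμ, one_mul]
      · have := h3 ⟨v, Φ.mem_eig.mpr hv⟩
        rw [FiniteField.pow_card_sub_one_eq_one c hc0, one_smul, Nat.cast_sub (by omega), FiniteField.cast_card_eq_zero,
          Nat.cast_one, zero_sub] at this
        rw [this, TE_apply, hκ v hv, smul_smul]
        show v + (-1 * (t * (κ * β.B v a))) • _ = v + (-t * (κ * β.B v a)) • _
        rw [neg_one_mul, neg_mul]
    rw [← e, map_pow]
    exact G.pow_mem hk _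

end Bil

end Cfsg.Agent.Classical.Frame
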