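/-
The two possibilities for the centraliser of a frame map squaring to minus one.
-/
import Cfsg.Agent.Lib.Classical.Frame.Bil.EigenS
import Cfsg.Agent.Lib.Classical.Frame.Bil.EigenH

set_option autoImplicit false
set_option linter.unusedSectionVars false

namespace Cfsg.Agent.Classical.Frame

open Module

universe u v w

variable {F : Type u} [Field F] {V : Type v} [AddCommGroup V] [Module F V] [FiniteDimensional F V]
  {A : Type w} [AddCommGroup A] [Finite A]

namespace Bil

variable {β : Bil F V} {Φ : Data F V A} {G : Subgroup (PG F V)}

/-- The centraliser of a frame map squaring to minus one permutes its part of the frame or contains every rank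
two transvection commuting with it. -/
theorem dichotomy_at [Finite F] (hS : β.Setup Φ) (hG : β.Grp Φ G) (hA : Wide Φ)
    (hprime : ∀ c : F, ∃ n : ℕ, (n : F) = c) {x : A} (hx : One Φ x) : Split1 Φ G x ∨ β.Trans Φ hS G x := by
  haveI := Fintype.ofFinite F
  by_cases h : ∃ i : F, i * i = -1
  · obtain ⟨i, hi⟩ := h
    exact dichotomy_S hS hG hA hprime hx hi
  · haveI : Fact (∀ r : F, r ^ 2 ≠ -1 + 0 * r) := ⟨fun r hr => h ⟨r, by linear_combination hr⟩⟩
    exact dichotomy_H hS hG hA hprime hx

end Bil

end Cfsg.Agent.Classical.Frame
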