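/-
Conjugates of frame elements normalising the frame lie in it.
-/
import Cfsg.Agent.Lib.Classical.Frame.Bil.Ctrl
import Cfsg.Agent.Lib.Classical.Frame.Cross

set_option autoImplicit false
set_option linter.unusedSectionVars false
set_option linter.style.haveILetI false

namespace Cfsg.Agent.Classical.Frame

open Module

universe u v w

variable {F : Type u} [Field F] {V : Type v} [AddCommGroup V] [Module F V] [FiniteDimensional F V]
  {A : Type w} [AddCommGroup A] [Finite A]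

namespace Bil

variable {β : Bil F V} {Φ : Data F V A} {G : Subgroup (PG F V)}

/-- An element combining two commuting indices of one part forces commutation. -/
theorem sign_of_ctrl {g : PG F V} (hsk : Φ.Skew G g) (hlag : Φ.perp (Φ.inside g⁻¹) = Φ.inside g⁻¹) {a b : A}
    (hy : a ∈ Φ.inside g) (ha : a ≠ 0) (hb : b ∈ Φ.inside g) {k l : V ≃ₗ[F] V}
    (hk : pr F V k = g * Φ.e a * g⁻¹) (hl : pr F V l = g * Φ.e b * g⁻¹) {y z : A} (hyL : y ∈ Φ.inside g⁻¹)
    (hzL : z ∈ Φ.inside g⁻¹) (hy0 : y ≠ 0) (hz0 : z ≠ 0) (hyz : y ≠ z) (hn : Ctrl Φ G y z)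
    (hky : ∀ v, k (Φ.u y v) = Φ.u y (k v)) (hkz : ∀ v, k (Φ.u z v) = Φ.u z (k v)) :
    ∀ v, l (Φ.u z v) = Φ.u z (l v) := by
  classical
  haveI := Fintype.ofFinite A
  obtain ⟨n, hnG, hnN, c0, c1, c2, c3, hc0, hc2, hn⟩ := hn
  have hLsg : ∀ p ∈ Φ.inside g⁻¹, ∀ q ∈ Φ.inside g⁻¹, Φ.sg p q = 1 := fun p hp q hq =>
    (show p ∈ Φ.perp (Φ.inside g⁻¹) by rw [hlag]; exact hp) q hq
  have hf := Φ.acts_act hnN
  generalize Φ.act ⟨_, hnN⟩ = f at hf
  have hfix : ∀ c ∈ Φ.inside g⁻¹, f c = c := fun c hc => (hf.commute_iff c).mp (pr_commute.mpr ⟨1, fun v => by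
    have e1 : ∀ v, Φ.u y (Φ.u c v) = Φ.u c (Φ.u y v) := fun v => by
      rw [Φ.comm y c, hLsg y hyL c hc, one_smul]
    have e2 : ∀ v, Φ.u z (Φ.u c v) = Φ.u c (Φ.u z v) := fun v => by
      rw [Φ.comm z c, hLsg z hzL c hc, one_smul]
    rw [one_smul, hn, hn, map_smul, map_add, map_add, map_add, map_smul, map_smul, map_smul, e1, e2, e2]⟩)
  have hfs : ∀ x, f x + x ∈ Φ.inside g⁻¹ := fun x => by
    rw [← hlag]
    intro c hc
    have h1 := hf.sg x c
    rw [hfix c hc] at h1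
    rw [Φ.sg_add_left, h1, Φ.sg_sq]
  have hcall := hsk.commute_all ha hb hnG hf hfix hfs (by
    rw [← hk, eq_comm, pr_commute]
    exact ⟨1, fun v => by
      rw [one_smul, hn, hn, map_smul, map_add, map_add, map_add, map_smul, map_smul, map_smul, hky, hkz, hkz, hky]⟩)
  rw [← hl, eq_comm, pr_commute] at hcall
  obtain ⟨d, hd⟩ := hcall
  obtain ⟨εy, -, hey⟩ := Φ.exists_sign (k := l) (a := y) (by rw [hl]; exact hsk.commute hb hyL)
  obtain ⟨εz, -, hez⟩ := Φ.exists_sign (k := l) (a := z) (by rw [hl]; exact hsk.commute hb hzL)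
  obtain ⟨u0, hu00, hu0⟩ := Φ.u_zero
  obtain ⟨m, hm⟩ := Φ.mul z y
  have key : ∀ w, ((1 - d) * u0⁻¹) • Φ.u 0 w + (c1 * (εy - d)) • Φ.u y w + (c2 * (εz - d)) • Φ.u z w +
      (c3 * (εz * εy - d) * m) • Φ.u (z + y) w = 0 := by
    intro w
    obtain ⟨v, rfl⟩ := l.surjective w
    have h1 := hd v
    rw [hn, hn, map_smul, map_add, map_add, map_add, map_smul, map_smul, map_smul, hey, hez, hez, hey, map_smul,
      smul_smul εz εy] at h1
    simp only [smul_smul, mul_comm d c0] at h1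
    rw [← smul_smul c0 d] at h1
    have h2 := smul_right_injective V hc0 h1
    rw [hu0, smul_smul, inv_mul_cancel_right₀ hu00, ← smul_smul _ m, ← hm]
    linear_combination (norm := module) h2
  have hzy : z + y ≠ 0 := Φ.add_ne_zero hyz.symm
  have hne1 : z + y ≠ y := fun e => hz0 (add_eq_right.mp e)
  have hne2 : z + y ≠ z := fun e => hy0 (add_eq_left.mp e)
  have hinj : Function.Injective ![(0 : A), y, z, z + y] := by
    intro i j e
    fin_cases i <;> fin_cases j <;>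
      simp only [Matrix.cons_val, Matrix.cons_val_zero, Matrix.cons_val_one] at e <;>
      first | rfl | exact absurd e hy0 | exact absurd e hy0.symm | exact absurd e hz0 | exact absurd e hz0.symm |
        exact absurd e hyz | exact absurd e hyz.symm | exact absurd e hzy | exact absurd e hzy.symm |
        exact absurd e hne1 | exact absurd e hne1.symm | exact absurd e hne2 | exact absurd e hne2.symm
  have hli := Fintype.linearIndependent_iff.mp (Φ.indep.comp _ hinj)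
    ![(1 - d) * u0⁻¹, c1 * (εy - d), c2 * (εz - d), c3 * (εz * εy - d) * m] (LinearMap.ext fun w => by
      rw [LinearMap.sum_apply, Fin.sum_univ_four]
      exact key w)
  have h0 := hli 0
  have h2 := hli 2
  simp only [Matrix.cons_val_zero] at h0
  simp only [Matrix.cons_val] at h2
  have hd1 : d = 1 := (sub_eq_zero.mp ((mul_eq_zero.mp h0).resolve_right (inv_ne_zero hu00))).symm
  have hez1 : εz = 1 := by rw [← hd1]; exact sub_eq_zero.mp ((mul_eq_zero.mp h2).resolve_left hc2)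
  exact fun v => by rw [hez, hez1, one_smul]

/-- Indices commuting linearly with one element of a part commute linearly with all. -/
theorem hker_all (hS : β.Setup Φ) (hG : β.Grp Φ G) (hA : Wide Φ) {g : PG F V} (hsk : Φ.Skew G g)
    (hlag : Φ.perp (Φ.inside g⁻¹) = Φ.inside g⁻¹) (hcard : Nat.card (Φ.inside g) = Nat.card (Φ.inside g⁻¹))
    {a b : A} (hy : a ∈ Φ.inside g) (ha : a ≠ 0) (hb : b ∈ Φ.inside g) {k l : V ≃ₗ[F] V}
    (hk : pr F V k = g * Φ.e a * g⁻¹) (hl : pr F V l = g * Φ.e b * g⁻¹) {z : A} (hz : z ∈ Φ.inside g⁻¹)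
    (hkz : ∀ v, k (Φ.u z v) = Φ.u z (k v)) : ∀ v, l (Φ.u z v) = Φ.u z (l v) := by
  classical
  rcases eq_or_ne z 0 with rfl | hz0
  · obtain ⟨c, -, hc⟩ := Φ.u_zero
    exact fun v => by rw [hc, hc, map_smul]
  obtain ⟨L, hL⟩ : ∃ L, L = Φ.inside g⁻¹ := ⟨_, rfl⟩
  rw [← hL] at hlag hz
  have hLsg : ∀ p ∈ L, ∀ q ∈ L, Φ.sg p q = 1 := fun p hp q hq =>
    (show p ∈ Φ.perp L by rw [hlag]; exact hp) q hq
  subst hL
  haveI := Fintype.ofFinite (Φ.inside g⁻¹)
  have h8 : 8 ≤ Fintype.card (Φ.inside g⁻¹) := by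
    rw [← Nat.card_eq_fintype_card]
    have h1 := Φ.card_perp (Φ.inside g⁻¹)
    rw [hlag] at h1
    have := hA.le
    nlinarith
  have hsign : ∀ x : Φ.inside g⁻¹, ∃ δ : F, (δ = 1 ∨ δ = -1) ∧
      ∀ v, k (Φ.u (x : A) v) = δ • Φ.u (x : A) (k v) := fun x =>
    Φ.exists_sign (by rw [hk]; exact hsk.commute hy x.2)
  choose δ hδ hkδ using hsign
  have hsum : ∀ x x' : Φ.inside g⁻¹, δ x = δ x' →
      ∀ v, k (Φ.u ((x : A) + x') v) = Φ.u ((x : A) + x') (k v) := by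
    intro x x' eδ v
    obtain ⟨m, hm⟩ := Φ.mul (x : A) x'
    rw [← inv_smul_smul₀ (Φ.mul_ne hm) (Φ.u ((x : A) + x') v), ← hm, map_smul, hkδ, hkδ, map_smul, eδ, hm,
      smul_smul, smul_smul, smul_smul]
    refine Eq.trans ?_ (one_smul F _)
    congr 1
    rcases hδ x' with h | h <;> rw [h] <;> field_simp [Φ.mul_ne hm]
  have hctrl : ∀ y, dd Φ y = 1 → Φ.sg z y = 1 → Ctrl Φ G y z := fun y hyd hzy => by
    by_cases hz1 : One Φ z
    · exact ctrl_one hS hG hz1 hyd hzy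
    · exact ctrl_sgl hS hG hA hyd ((dd_sign z).resolve_right fun h => hz1 (one_iff.mpr h)) hzy
  obtain ⟨⟨p1, p2⟩, hp⟩ := Fintype.exists_lt_card_fiber_of_mul_lt_card
    (fun x : Φ.inside g⁻¹ => (decide (δ x = 1), decide (dd Φ (x : A) = 1))) (n := 1) (by simp; omega)
  obtain ⟨x, hx, x', hx', hxx⟩ := Finset.one_lt_card.mp hp
  simp only [Finset.mem_filter, Finset.mem_univ, true_and, Prod.mk.injEq] at hx hx'
  have eq2 : ∀ {r r' : F}, (r = 1 ∨ r = -1) → (r' = 1 ∨ r' = -1) → decide (r = 1) = decide (r' = 1) → r = r' := by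
    intro r r' hr hr' e
    rcases hr with h | h <;> rcases hr' with h' | h' <;> simp [h, h', Φ.one_ne_neg.symm] at e ⊢
  have eδ : δ x = δ x' := eq2 (hδ x) (hδ x') (hx.1.trans hx'.1.symm)
  have hwd : dd Φ ((x : A) + x') = 1 := by
    rw [dd_add hS, hLsg _ x.2 _ x'.2, eq2 (dd_sign _) (dd_sign _) (hx.2.trans hx'.2.symm), one_mul, dd_sq]
  have hw0 : (x : A) + x' ≠ 0 := Φ.add_ne_zero fun e => hxx (Subtype.ext e)
  have hwL := (Φ.inside g⁻¹).add_mem x.2 x'.2
  by_cases hwz : (x : A) + x' = z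
  swap
  · exact sign_of_ctrl hsk hlag hy ha hb hk hl hwL hz hw0 hz0 hwz (hctrl _ hwd (hLsg z hz _ hwL))
      (hsum x x' eδ) hkz
  rw [hwz] at hwd
  obtain ⟨p3, hp3⟩ := Fintype.exists_lt_card_fiber_of_mul_lt_card
    (fun x : Φ.inside g⁻¹ => decide (δ x = 1)) (n := 3) (by simp; omega)
  obtain ⟨x0, hx0⟩ := Finset.card_pos.mp (show 0 < _ from lt_trans (by norm_num : 0 < 3) hp3)
  obtain ⟨x1, hx1, hne0, hne1⟩ : ∃ x1 ∈ (Finset.univ.filter fun x : Φ.inside g⁻¹ => decide (δ x = 1) = p3),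
      (x1 : A) ≠ x0 ∧ (x1 : A) ≠ x0 + z := by
    by_contra hh
    push Not at hh
    have hsub : (Finset.univ.filter fun x : Φ.inside g⁻¹ => decide (δ x = 1) = p3).image Subtype.val ⊆
        {(x0 : A), (x0 : A) + z} := by
      intro w hw
      obtain ⟨x, hx, rfl⟩ := Finset.mem_image.mp hw
      rcases eq_or_ne (x : A) x0 with e | e
      · simp [e]
      · simp [hh x hx e]
    have h1 := Finset.card_le_card hsub
    rw [Finset.card_image_of_injective _ Subtype.val_injective] at h1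
    have h2 := (Finset.card_insert_le (x0 : A) {(x0 : A) + z}).trans_eq (by rw [Finset.card_singleton])
    omega
  simp only [Finset.mem_filter, Finset.mem_univ, true_and] at hx1 hx0
  obtain ⟨y, hydef⟩ : ∃ y, y = (x1 : A) + x0 := ⟨_, rfl⟩
  have hyL : y ∈ Φ.inside g⁻¹ := hydef ▸ (Φ.inside g⁻¹).add_mem x1.2 x0.2
  have hy0 : y ≠ 0 := hydef ▸ Φ.add_ne_zero hne0
  have hyz : y ≠ z := fun e => hne1 (by
    rw [← e, hydef, add_comm (x1 : A), ← add_assoc, Φ.elem, zero_add])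
  have hky : ∀ v, k (Φ.u y v) = Φ.u y (k v) :=
    hydef ▸ hsum x1 x0 (eq2 (hδ x1) (hδ x0) (hx1.trans hx0.symm))
  rcases dd_sign (Φ := Φ) y with hyd | hyd
  · exact sign_of_ctrl hsk hlag hy ha hb hk hl hyL hz hy0 hz0 hyz (hctrl y hyd (hLsg z hz _ hyL)) hky hkz
  -- both `y` and `y + z` square to minus one and pair with `z`
  have main : ∀ t ∈ Φ.inside g⁻¹, t ≠ 0 → z ≠ t → One Φ t → (∀ v, k (Φ.u t v) = Φ.u t (k v)) →
      ∀ v, l (Φ.u t v) = Φ.u t (l v) := fun t htL ht0 hzt ht1 hkt =>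
    sign_of_ctrl hsk hlag hy ha hb hk hl hz htL hz0 ht0 hzt (ctrl_one hS hG ht1 hwd (hLsg t htL z hz)) hkz hkt
  obtain ⟨m, hm⟩ := Φ.mul y z
  have hm0 := Φ.mul_ne hm
  have hyz1 : One Φ (y + z) := one_add_sgl hS (hLsg y hyL z hz) (one_iff.mpr hyd) hwd
  have h1 := main y hyL hy0 (Ne.symm hyz) (one_iff.mpr hyd) hky
  have h2 := main (y + z) ((Φ.inside g⁻¹).add_mem hyL hz) (Φ.add_ne_zero hyz)
    (fun e => hy0 (right_eq_add.mp e)) hyz1 (fun v => by
      rw [← inv_smul_smul₀ hm0 (Φ.u (y + z) v), ← hm, map_smul, hky, hkz, hm, smul_smul, inv_mul_cancel₀ hm0,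
        one_smul])
  intro v
  refine (Φ.u y).injective ?_
  rw [← h1, hm, hm, map_smul, h2]

/-- A conjugate of a frame element normalising the frame lies in it. -/
theorem fusion [Finite F] (hS : β.Setup Φ) (hG : β.Grp Φ G) (hA : Wide Φ) (hc : Φ.CentLe G) {a : A}
    {g : PG F V} (hg : g ∈ G) (hy : g * Φ.e a * g⁻¹ ∈ Φ.N) : g * Φ.e a * g⁻¹ ∈ Φ.E := by
  by_contra hE
  have ha : a ≠ 0 := by
    rintro rfl
    exact hE (by rw [Φ.e_zero, mul_one, mul_inv_cancel]; exact Φ.E.one_mem)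
  have hgN : g ∉ Φ.N := fun hgN => hE (by
    obtain ⟨b, hb⟩ := Φ.conj_of_mem_N hgN a
    exact ⟨b, hb.symm⟩)
  have hsk : Φ.Skew G g :=
    ⟨hg, hG.le, hc, fun b c e => by by_contra hb; exact hgN (mem_N_of_conj hS hG hA hc hb hg e)⟩
  obtain ⟨hlag, hcard⟩ := hsk.lagrangian (b := a) hy ha
  obtain ⟨k, hk⟩ := pr_surjective (g * Φ.e a * g⁻¹)
  obtain ⟨c1, hc1, hac1⟩ := hsk.exists_anti (b := a) hy ha hk
  obtain ⟨b, hb, hb0, hba⟩ : ∃ b ∈ Φ.inside g, b ≠ 0 ∧ b ≠ a := by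
    by_contra hh
    push Not at hh
    have h2 : Nat.card (Φ.inside g) ≤ 2 := by
      haveI := Fintype.ofFinite (Φ.inside g)
      classical
      rw [Nat.card_eq_fintype_card]
      refine (Fintype.card_le_of_injective (fun x : Φ.inside g => decide ((x : A) = 0)) fun p q e => Subtype.ext ?_)
      simp only [decide_eq_decide] at e
      rcases eq_or_ne (p : A) 0 with h0 | h0
      · rw [h0, e.mp h0]
      · rw [hh p p.2 h0, hh q q.2 fun h1 => h0 (e.mpr h1)]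
    have h4 := Φ.card_perp (Φ.inside g⁻¹)
    rw [hlag, ← hcard] at h4
    have := hA.le
    nlinarith
  obtain ⟨l, hl⟩ := pr_surjective (g * Φ.e b * g⁻¹)
  have hker : ∀ z ∈ Φ.inside g⁻¹, (∀ v, k (Φ.u z v) = Φ.u z (k v)) → ∀ v, l (Φ.u z v) = Φ.u z (l v) :=
    fun z hz hkz => hker_all hS hG hA hsk hlag hcard hy ha hb hk hl hz hkz
  obtain ⟨ε, hε, hl1⟩ := Φ.exists_sign (k := l) (a := c1) (by rw [hl]; exact hsk.commute hb hc1)
  have hlz : ∀ z ∈ Φ.inside g⁻¹, (∀ v, l (Φ.u z v) = Φ.u z (l v)) ∨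
      (∀ v, k (Φ.u z v) = -Φ.u z (k v)) ∧ ∀ v, l (Φ.u z v) = ε • Φ.u z (l v) := by
    intro z hz
    obtain ⟨δ, hδ, hkz⟩ := Φ.exists_sign (k := k) (a := z) (by rw [hk]; exact hsk.commute hy hz)
    rcases hδ with rfl | rfl
    · exact Or.inl (hker z hz fun v => by rw [hkz, one_smul])
    refine Or.inr ⟨fun v => by rw [hkz, neg_one_smul], ?_⟩
    obtain ⟨m, hm⟩ := Φ.mul z c1
    have hm0 := Φ.mul_ne hm
    have hu : ∀ w, Φ.u (z + c1) w = m⁻¹ • Φ.u z (Φ.u c1 w) := fun w => by rw [hm, inv_smul_smul₀ hm0]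
    have h1 := hker (z + c1) ((Φ.inside g⁻¹).add_mem hz hc1) fun v => by
      rw [hu, hu, map_smul, hkz, hac1, map_neg, smul_neg (-1 : F), neg_one_smul, neg_neg]
    intro v
    obtain ⟨w, rfl⟩ := (Φ.u c1).surjective v
    have h2 := h1 w
    rw [hu, hu, map_smul] at h2
    rw [smul_right_injective V (inv_ne_zero hm0) h2, hl1, map_smul, smul_smul]
    rcases hε with rfl | rfl <;> simp
  rcases hε with rfl | rfl
  · obtain ⟨c, hc, hca⟩ := hsk.exists_anti hb hb0 hl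
    obtain ⟨v, hv⟩ := Φ.exists_ne
    have h1 : l (Φ.u c v) = Φ.u c (l v) := by
      rcases hlz c hc with h | ⟨-, h⟩
      · exact h v
      · rw [h, one_smul]
    have h2 : (2 : F) • Φ.u c (l v) = 0 := by rw [two_smul, ← eq_neg_iff_add_eq_zero, ← hca, h1]
    exact hv (l.map_eq_zero_iff.mp ((Φ.u c).map_eq_zero_iff.mp ((smul_eq_zero.mp h2).resolve_left Φ.two)))
  · have hab : pr F V (k * l) = g * Φ.e (a + b) * g⁻¹ := by rw [map_mul, hk, hl, Φ.e_add]; group
    obtain ⟨c, hc, hca⟩ :=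
      hsk.exists_anti ((Φ.inside g).add_mem hy hb) (Φ.add_ne_zero (Ne.symm hba)) hab
    obtain ⟨v, hv⟩ := Φ.exists_ne
    have h1 : (k * l) (Φ.u c v) = Φ.u c ((k * l) v) := by
      rcases hlz c hc with h | ⟨hk', h⟩
      · obtain ⟨δ, hδ, hkc⟩ := Φ.exists_sign (k := k) (a := c) (by rw [hk]; exact hsk.commute hy hc)
        rcases hδ with rfl | rfl
        · rw [LinearEquiv.mul_apply, h, hkc, one_smul]; rfl
        · exfalso
          have e := hker (c + c1) ((Φ.inside g⁻¹).add_mem hc hc1) fun w => by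
            obtain ⟨m, hm⟩ := Φ.mul c c1
            have hu : Φ.u (c + c1) w = m⁻¹ • Φ.u c (Φ.u c1 w) := by rw [hm, inv_smul_smul₀ (Φ.mul_ne hm)]
            have hu' : Φ.u (c + c1) (k w) = m⁻¹ • Φ.u c (Φ.u c1 (k w)) := by
              rw [hm, inv_smul_smul₀ (Φ.mul_ne hm)]
            rw [hu, hu', map_smul, hkc, hac1, map_neg, smul_neg (-1 : F), neg_one_smul, neg_neg]
          obtain ⟨m, hm⟩ := Φ.mul c c1
          have h2 := e v
          rw [show Φ.u (c + c1) v = m⁻¹ • Φ.u c (Φ.u c1 v) by rw [hm, inv_smul_smul₀ (Φ.mul_ne hm)],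
            show Φ.u (c + c1) (l v) = m⁻¹ • Φ.u c (Φ.u c1 (l v)) by rw [hm, inv_smul_smul₀ (Φ.mul_ne hm)],
            map_smul, h, hl1, neg_one_smul, map_neg] at h2
          have h3 : (2 : F) • Φ.u c (Φ.u c1 (l v)) = 0 := by
            rw [two_smul, ← eq_neg_iff_add_eq_zero]
            exact (smul_right_injective V (inv_ne_zero (Φ.mul_ne hm)) h2).symm
          exact hv (l.map_eq_zero_iff.mp ((Φ.u c1).map_eq_zero_iff.mp ((Φ.u c).map_eq_zero_iff.mp
            ((smul_eq_zero.mp h3).resolve_left Φ.two))))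
      · rw [LinearEquiv.mul_apply, h, neg_one_smul, map_neg, hk', neg_neg]; rfl
    have h2 : (2 : F) • Φ.u c ((k * l) v) = 0 := by rw [two_smul, ← eq_neg_iff_add_eq_zero, ← hca, h1]
    exact hv ((k * l).map_eq_zero_iff.mp ((Φ.u c).map_eq_zero_iff.mp ((smul_eq_zero.mp h2).resolve_left Φ.two)))

end Bil

end Cfsg.Agent.Classical.Frame
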