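/-
A group with pairs of lifted transvections normalises the frame of isometries or contains all rank two
transvections commuting with its maps squaring to minus one.
-/
import Cfsg.Agent.Lib.Classical.Frame.Bil.CentLe
import Cfsg.Agent.Lib.Classical.Frame.Bil.Fusion
import Cfsg.Agent.Lib.Classical.Frame.Bil.Eigen

set_option autoImplicit false
set_option linter.unusedSectionVars false
set_option linter.style.haveILetI false

namespace Cfsg.Agent.Classical.Frame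

open Module

universe u v w

variable {F : Type u} [Field F] {V : Type v} [AddCommGroup V] [Module F V] [FiniteDimensional F V]
  {A : Type w} [AddCommGroup A] [Finite A]

namespace Bil

variable {β : Bil F V} {Φ : Data F V A} {G : Subgroup (PG F V)}

/-- When the centralisers of frame elements normalise the frame, so does the group. -/
theorem le_N [Finite F] (hS : β.Setup Φ) (hG : β.Grp Φ G) (hA : Wide Φ) (hc : Φ.CentLe G) :
    G ≤ Φ.N := by
  haveI : Finite (PG F V) := Quotient.finite _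
  intro g hg
  obtain ⟨x, -, hx⟩ := exists_one_perp hS (S := (⊥ : AddSubgroup A))
    (Or.inl (by rw [AddSubgroup.card_bot]; have := hA.le; omega))
  obtain ⟨z, hxz⟩ := Φ.nd x (one_ne_zero hS hx)
  obtain ⟨w, hw, hxw, hzw, -⟩ := exists_one_two hS hA x z
  have hxw' : x ≠ w := by
    rintro rfl
    rw [Φ.sg_symm x z, hxz] at hzw
    exact Φ.one_ne_neg hzw.symm
  have hb : dd Φ (x + w) = 1 := by
    rw [dd_add hS, hxw, dd_of_one hx, dd_of_one hw, one_mul, neg_one_mul, neg_neg]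
  have hb0 : x + w ≠ 0 := Φ.add_ne_zero hxw'
  let y : G := ⟨g * Φ.e x * g⁻¹, G.mul_mem (G.mul_mem hg (hG.le (Φ.e_mem x))) (G.inv_mem hg)⟩
  let eb : G := ⟨Φ.e (x + w), hG.le (Φ.e_mem _)⟩
  have hne : ¬ IsConj eb y := by
    intro h
    obtain ⟨⟨h', hh'⟩, e⟩ := isConj_iff.mp h.symm
    obtain ⟨l, hl⟩ := pr_surjective (h' * g)
    have e1 : (h' * g) * Φ.e x * (h' * g)⁻¹ = Φ.e (x + w) := by
      have e2 : h' * (g * Φ.e x * g⁻¹) * h'⁻¹ = Φ.e (x + w) := congrArg Subtype.val e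
      rw [← e2]; group
    have := conj_dd_pr hS (hG.pres l (hl.symm ▸ G.mul_mem hh' hg)) (hl.symm ▸ e1)
    rw [dd_of_one hx, hb] at this
    exact Φ.one_ne_neg this.symm
  obtain ⟨⟨c, hcG⟩, -, hc1, hbc, hyc, hcases⟩ := exists_central (a := eb) (b := y) (Subtype.ext (Φ.e_sq _))
    (Subtype.ext (show g * Φ.e x * g⁻¹ * (g * Φ.e x * g⁻¹) = 1 by
      rw [show g * Φ.e x * g⁻¹ * (g * Φ.e x * g⁻¹) = g * (Φ.e x * Φ.e x) * g⁻¹ by group, Φ.e_sq]; group)) hne
  have hcN : c ∈ Φ.N := hc _ hb0 c hcG (congrArg Subtype.val hbc).symm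
  have hyc' : g * Φ.e x * g⁻¹ * c = c * (g * Φ.e x * g⁻¹) := congrArg Subtype.val hyc
  have hcgN : g⁻¹ * c * g ∈ Φ.N := hc x (one_ne_zero hS hx) _ (G.mul_mem (G.mul_mem (G.inv_mem hg) hcG) hg) (by
    calc g⁻¹ * c * g * Φ.e x = g⁻¹ * (c * (g * Φ.e x * g⁻¹)) * g := by group
      _ = Φ.e x * (g⁻¹ * c * g) := by rw [← hyc']; group)
  obtain ⟨d, h, hh, hd⟩ : ∃ d : A, ∃ h ∈ G, g * Φ.e x * g⁻¹ * c = h * Φ.e d * h⁻¹ := by
    rcases hcases with e | e
    · obtain ⟨⟨t, ht⟩, e'⟩ := isConj_iff.mp e.symm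
      exact ⟨x + w, t, ht, (congrArg Subtype.val e').symm⟩
    · obtain ⟨⟨t, ht⟩, e'⟩ := isConj_iff.mp e.symm
      have e2 : t * (g * Φ.e x * g⁻¹) * t⁻¹ = g * Φ.e x * g⁻¹ * c := congrArg Subtype.val e'
      exact ⟨x, t * g, G.mul_mem ht hg, by rw [← e2]; group⟩
  have hconj : g⁻¹ * h * Φ.e d * (g⁻¹ * h)⁻¹ = Φ.e x * (g⁻¹ * c * g) := by
    rw [show g⁻¹ * h * Φ.e d * (g⁻¹ * h)⁻¹ = g⁻¹ * (h * Φ.e d * h⁻¹) * g by group, ← hd]; group
  have hEq := fusion hS hG hA hc (a := d) (G.mul_mem (G.inv_mem hg) hh) (by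
    rw [hconj]; exact Φ.N.mul_mem (Φ.E_le_N (Φ.e_mem x)) hcgN)
  rw [hconj, Φ.E.mul_mem_cancel_left (Φ.e_mem x)] at hEq
  obtain ⟨r, hr⟩ := hEq
  have hcr : c = g * Φ.e r * g⁻¹ := by rw [hr]; group
  have hr0 : r ≠ 0 := by
    rintro rfl
    refine hc1 (Subtype.ext ?_)
    show c = 1
    rw [hcr, Φ.e_zero]; group
  obtain ⟨q, hq⟩ := fusion hS hG hA hc (a := r) hg (hcr ▸ hcN)
  exact mem_N_of_conj hS hG hA hc hr0 hg hq.symm

/-- **Dichotomy**: the group normalises the frame or contains all the rank two transvections. -/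
theorem normal_or_trans [Finite F] (hS : β.Setup Φ) (hG : β.Grp Φ G) (hA : Wide Φ)
    (hprime : ∀ c : F, ∃ n : ℕ, (n : F) = c) : G ≤ Φ.N ∨ ∀ x, β.Trans Φ hS G x := by
  by_cases h : ∀ x, One Φ x → Split1 Φ G x
  · exact Or.inl (le_N hS hG hA (cent_le hS hG hA h))
  · push Not at h
    obtain ⟨x, hx, hns⟩ := h
    exact Or.inr fun y =>
      trans_all hS hG hA hx ((dichotomy_at hS hG hA hprime hx).resolve_left hns) y

end Bil

end Cfsg.Agent.Classical.Frame
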