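/-
From a 2-group of symplectic type in an isometry group to the dichotomy.
-/
import Cfsg.Agent.Lib.Classical.Frame.Glue
import Cfsg.Agent.Lib.Classical.Frame.Bil.Finish
import Cfsg.Agent.Lib.Classical.Frame.Bil.Derived

set_option autoImplicit false
set_option linter.unusedSectionVars false

namespace Cfsg.Agent.Classical.Frame

open Module Matrix Cfsg.Geo

universe u

namespace Bil

variable {ι : Type} [Fintype ι] [DecidableEq ι] {F : Type u} [Field F] [Fintype F]

/-- The isometries of a form among the invertible matrices. -/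
def isoGL (β : Bil F (ι → F)) : Subgroup (GL ι F) where
  carrier := {g | β.Isom (toV ι F g)}
  one_mem' := by
    show β.Isom (toV ι F 1)
    rw [map_one]; exact fun v w => rfl
  mul_mem' := by
    intro g h hg hh
    show β.Isom (toV ι F (g * h))
    rw [map_mul]; exact hg.mul' hh
  inv_mem' := by
    intro g hg
    show β.Isom (toV ι F g⁻¹)
    intro v w
    rw [← hg, map_inv, show ∀ y, toV ι F g ((toV ι F g)⁻¹ y) = y from (toV ι F g).apply_symm_apply,
      show ∀ y, toV ι F g ((toV ι F g)⁻¹ y) = y from (toV ι F g).apply_symm_apply]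

theorem mem_isoGL {β : Bil F (ι → F)} {g : GL ι F} : g ∈ isoGL β ↔ β.Isom (toV ι F g) := Iff.rfl

variable {A : Type u} [AddCommGroup A] [Finite A]

/-- The group with its frame. -/
structure OfR (β : Bil F (ι → F)) (R : Subgroup (GL ι F)) (Φ : Data F (ι → F) A) (r : A → R) : Prop where
  eq : ∀ a, Φ.u a = toV ι F (r a : GL ι F)
  cover : ∀ g ∈ R, ∃ (a : A) (c : F), ∀ v, toV ι F g v = c • Φ.u a v
  neg : scalarGL ι F (-1) ∈ R
  iso : R ≤ isoGL β
  card : Wide Φ

variable {β : Bil F (ι → F)} {R : Subgroup (GL ι F)}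

/-- The frame of a group of symplectic type with centre of order two consisting of isometries. -/
theorem exists_ofR [Nonempty ι] (h2 : (2 : F) ≠ 0) (hR : IsSymplecticTypeGroup 2 R)
    (hirr : ActsAbsolutelyIrreducibly (matrixSet R)) (hRD : R ≤ isoGL β) {k : ℕ}
    (hcard : Nat.card R = 2 ^ (1 + 2 * k)) (hZ : Nat.card (Subgroup.center R) = 2) (hι : 13 ≤ Fintype.card ι ∨ 7 ≤ Fintype.card ι ∧ IsOfMinusType 3 R) :
    ∃ (A : Type u) (_ : AddCommGroup A) (_ : Finite A) (Φ : Data F (ι → F) A) (r : A → R),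
      OfR β R Φ r := by
  classical
  have hexp : ∀ x : R, x ^ 4 = 1 := fun x => by
    have := Monoid.exponent_dvd_iff_forall_pow_eq_one.mp (dvd_of_eq hR.exponent_eq) x
    simpa using this
  have hcomm := symplecticTypeGroup_comm hR hirr
  haveI : Nontrivial (Subgroup.center R) := Finite.one_lt_card_iff_nontrivial.mp (by omega)
  obtain ⟨z, hz1⟩ := exists_ne (1 : Subgroup.center R)
  obtain ⟨c, hc⟩ := mem_scalars_of_absIrr hirr (g := ((z : R) : GL ι F))
    fun w hw => (congrArg Subtype.val (Subgroup.mem_center_iff.mp z.2 ⟨w, hw⟩)).symm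
  have hc' : scalarGL ι F c = ((z : R) : GL ι F) := hc
  have hz2 : z * z = 1 := by
    have := pow_card_eq_one' (x := z)
    rw [hZ, pow_two] at this
    exact this
  have hcc : c * c = 1 := scalarGL_injective (ι := ι) (by
    rw [map_mul, map_one, hc']
    exact congrArg (fun y : Subgroup.center R => ((y : R) : GL ι F)) hz2)
  have hcm : c = -1 := by
    rcases mul_self_eq_one_iff.mp (congrArg Units.val hcc) with e | e
    · exfalso
      refine hz1 (Subtype.ext (Subtype.ext ?_))
      rw [← hc', show c = 1 from Units.ext e, map_one]; rfl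
    · exact Units.ext (by simpa using e)
  have hm1 : scalarGL ι F (-1) ∈ R := by rw [← hcm, hc']; exact (z : R).2
  have hsq := (LocalEven.SymConj.sq_small (T := R) ⟨hR.pGroup, hR.cyclic_of_characteristic⟩ hexp
    (ζ := ⟨_, hm1⟩) (fun q => Subtype.ext (scalars_commute (scalarGL_mem _) (q : GL ι F)).symm)
    (Subtype.ext (by
      show scalarGL ι F (-1) * scalarGL ι F (-1) = 1
      rw [← map_mul, show (-1 : Fˣ) * -1 = 1 from Units.ext (by simp), map_one]))
    (fun e => by
      have e' : scalarGL ι F (-1) = scalarGL ι F 1 := (congrArg Subtype.val e).trans (map_one _).symm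
      have := congrArg Units.val (scalarGL_injective (ι := ι) e')
      rw [Units.val_neg, Units.val_one] at this
      exact h2 (by linear_combination -this))).1
  obtain ⟨A, i1, i2, Φ, r, heq, hcov⟩ := exists_data_of h2 hirr hcomm (fun g hg => by
    rcases hsq ⟨g, hg⟩ with e | e
    · refine ⟨1, Or.inl rfl, fun v => ?_⟩
      rw [show g * g = 1 from congrArg Subtype.val e, map_one, one_smul]; rfl
    · refine ⟨-1, Or.inr rfl, fun v => ?_⟩
      rw [show g * g = scalarGL ι F (-1) from congrArg Subtype.val e, scalarGL_apply]; simp)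
  refine ⟨A, i1, i2, Φ, r, heq, hcov, hm1, hRD, ?_⟩
  have h1 := card_sq_of_scalar_commutators hirr hcomm
  rw [hcard, hZ, pow_add, pow_one, pow_mul'] at h1
  have h3 : Fintype.card ι ^ 2 = (2 ^ k) ^ 2 := by linarith
  have h4 := Nat.pow_left_injective two_ne_zero h3
  have hA : Nat.card A = 2 ^ (k * 2) := by
    rw [← Φ.dim, Module.finrank_fintype_fun_eq_card, h4, ← pow_mul]
  have big : 4 ≤ k → Wide Φ := fun hk => Or.inl (hA ▸ le_trans (le_of_eq (by norm_num))
    (Nat.pow_le_pow_right two_pos (show 8 ≤ k * 2 by omega)))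
  rcases hι with hι | ⟨hι, hminus⟩
  · refine big ?_
    by_contra hk
    have : 2 ^ k ≤ 2 ^ 3 := Nat.pow_le_pow_right two_pos (by omega)
    omega
  by_cases hk4 : 4 ≤ k
  · exact big hk4
  have hk3 : k = 3 := by
    by_contra hne
    have : 2 ^ k ≤ 2 ^ 2 := Nat.pow_le_pow_right two_pos (by omega)
    omega
  subst hk3
  refine Or.inr ⟨by rw [hA]; norm_num, fun T hT => ?_⟩
  have hS : β.Setup Φ := ⟨fun a => by rw [heq]; exact hRD (r a).2⟩
  -- the preimage of a singular subgroup is elementary abelian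
  let P : Subgroup R :=
    { carrier := {g | ∃ a ∈ T, ∃ c : F, (c = 1 ∨ c = -1) ∧ ∀ v, toV ι F (g : GL ι F) v = c • Φ.u a v}
      one_mem' := by
        obtain ⟨u0, hu00, hu0⟩ := Φ.u_zero
        have hu : u0 = 1 ∨ u0 = -1 := sq_of_isom Φ.exists_ne (hS.isom 0) (h := 1) (fun v w => rfl)
          fun v => hu0 v
        refine ⟨0, T.zero_mem, u0, hu, fun v => ?_⟩
        rw [hu0, smul_smul, show u0 * u0 = 1 by rcases hu with h | h <;> simp [h], one_smul, OneMemClass.coe_one,
          map_one]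
        rfl
      mul_mem' := by
        rintro g g' ⟨a, ha, c, hc, hg⟩ ⟨a', ha', c', hc', hg'⟩
        obtain ⟨m, hm⟩ := Φ.mul a a'
        refine ⟨a + a', T.add_mem ha ha', c * c' * m, ?_, fun v => ?_⟩
        · rcases hc with rfl | rfl <;> rcases hc' with rfl | rfl <;> rcases mul_const hS hm with rfl | rfl <;> simp
        · rw [Subgroup.coe_mul, map_mul, LinearEquiv.mul_apply, hg', map_smul, hg, hm, smul_smul, smul_smul]
          ring_nf
      inv_mem' := by
        rintro g ⟨a, ha, c, hc, hg⟩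
        refine ⟨a, ha, c, hc, fun v => ?_⟩
        have e : g * g = 1 := Subtype.ext (toV_injective (LinearEquiv.ext fun v => by
          rw [Subgroup.coe_mul, map_mul, LinearEquiv.mul_apply, hg, hg, map_smul, sq_eq hS, hT a ha, smul_smul,
            smul_smul, OneMemClass.coe_one, map_one]
          rcases hc with rfl | rfl <;> simp))
        rw [inv_eq_of_mul_eq_one_right e, hg] }
  have hP2 : ∀ g ∈ P, g * g = 1 := by
    rintro g ⟨a, ha, c, hc, hg⟩
    exact Subtype.ext (toV_injective (LinearEquiv.ext fun v => by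
      rw [Subgroup.coe_mul, map_mul, LinearEquiv.mul_apply, hg, hg, map_smul, sq_eq hS, hT a ha, smul_smul,
        smul_smul, OneMemClass.coe_one, map_one]
      rcases hc with rfl | rfl <;> simp))
  have hcommP : IsMulCommutative P := ⟨⟨fun x y => Subtype.ext (by
    have e1 := hP2 x x.2
    have e2 := hP2 y y.2
    have e3 := hP2 _ (P.mul_mem x.2 y.2)
    calc (x : R) * y = ((x : R) * y)⁻¹ := (inv_eq_of_mul_eq_one_right e3).symm
      _ = (y : R)⁻¹ * (x : R)⁻¹ := mul_inv_rev _ _
      _ = _ := by rw [inv_eq_of_mul_eq_one_right e1, inv_eq_of_mul_eq_one_right e2]; rfl)⟩⟩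
  have hlt : Nat.card P < 2 ^ (3 + 1) := hminus P hcommP hP2
  let m : T × Bool → P := fun xb => ⟨cond xb.2 ⟨scalarGL ι F (-1), hm1⟩ 1 * r (xb.1 : A),
    xb.1, xb.1.2, cond xb.2 (-1) 1, by cases xb.2 <;> simp, fun v => by
      rw [Subgroup.coe_mul, map_mul, LinearEquiv.mul_apply, ← heq]
      cases xb.2
      · rw [cond_false, cond_false, OneMemClass.coe_one, map_one, one_smul]; rfl
      · rw [cond_true, cond_true, scalarGL_apply]; simp⟩
  have hm : Function.Injective m := by
    rintro ⟨x, b⟩ ⟨x', b'⟩ e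
    have e' : ∀ v, cond b (-1 : F) 1 • Φ.u x v = cond b' (-1 : F) 1 • Φ.u x' v := fun v => by
      have := congrArg (fun g : P => toV ι F ((g : R) : GL ι F) v) e
      simp only [m, Subgroup.coe_mul, map_mul, LinearEquiv.mul_apply, ← heq] at this
      cases b <;> cases b' <;> simpa [scalarGL_apply] using this
    have hxx : (x : A) = x' := by
      by_contra hne
      have hinj : Function.Injective ![(x : A), x'] := by
        intro i j h
        fin_cases i <;> fin_cases j <;> simp [hne, Ne.symm hne] at h ⊢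
      have h0 := Fintype.linearIndependent_iff.mp (Φ.indep.comp _ hinj)
        ![cond b (-1 : F) 1, -cond b' (-1 : F) 1] (LinearMap.ext fun v => by
          rw [LinearMap.sum_apply, Fin.sum_univ_two]
          show cond b (-1 : F) 1 • Φ.u x v + (-cond b' (-1 : F) 1) • Φ.u x' v = 0
          rw [e', neg_smul, add_neg_cancel]) 0
      cases b <;> simp at h0
    have hb : b = b' := by
      have := Φ.smul_inj (a := (x : A)) fun v => (e' v).trans (by rw [hxx])
      cases b <;> cases b' <;> simp [Φ.one_ne_neg, Φ.one_ne_neg.symm] at this ⊢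
    exact Prod.ext (Subtype.ext hxx) hb
  have h5 := Nat.card_le_card_of_injective m hm
  rw [Nat.card_prod, Nat.card_eq_fintype_card (α := Bool), Fintype.card_bool] at h5
  obtain ⟨l, hl⟩ := (AddSubgroup.card_dvd_of_le (le_top : T ≤ ⊤))
  have hdvd : Nat.card T ∣ 2 ^ (3 * 2) := hA ▸ AddSubgroup.card_addSubgroup_dvd_card T
  obtain ⟨j, hj, ej⟩ := (Nat.dvd_prime_pow Nat.prime_two).mp hdvd
  rw [ej] at h5 ⊢
  interval_cases j <;> omega

variable {Φ : Data F (ι → F) A} {r : A → R} (h : OfR β R Φ r)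

include h

theorem OfR.setup : β.Setup Φ := ⟨fun a => by rw [h.eq]; exact h.iso (r a).2⟩

/-- An isometry normalising the frame normalises the group. -/
theorem OfR.mem_normalizer {g : GL ι F} (hg : g ∈ isoGL β) (hN : pr F (ι → F) (toV ι F g) ∈ Φ.N) :
    g ∈ subgroupNormalizer R := by
  refine mem_normalizer_of fun x hx => ?_
  obtain ⟨a, d, hxa⟩ := h.cover x hx
  obtain ⟨b, hb⟩ := Φ.conj_of_mem_N hN a
  obtain ⟨c, hc⟩ := pr_conj.mp hb
  have hiso : β.Isom (toV ι F (g * x * g⁻¹)) := (isoGL β).mul_mem ((isoGL β).mul_mem hg (h.iso hx)) ((isoGL β).inv_mem hg)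
  have e : ∀ v, toV ι F (g * x * g⁻¹) v = (d * c) • Φ.u b v := fun v => by
    obtain ⟨w, rfl⟩ := (toV ι F g).surjective v
    simp only [map_mul, map_inv, LinearEquiv.mul_apply]
    rw [show (toV ι F g)⁻¹ (toV ι F g w) = w from (toV ι F g).symm_apply_apply w, hxa, map_smul, hc, smul_smul]
  have hrb : β.Isom (Φ.u b) := h.setup.isom b
  rcases sq_of_isom Φ.exists_ne hiso hrb e with hk | hk
  · have e' : g * x * g⁻¹ = r b := toV_injective (LinearEquiv.ext fun v => by rw [e, hk, one_smul, h.eq])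
    rw [e']; exact (r b).2
  · have e' : g * x * g⁻¹ = scalarGL ι F (-1) * (r b : GL ι F) := toV_injective (LinearEquiv.ext fun v => by
      rw [e, hk, map_mul, LinearEquiv.mul_apply, scalarGL_apply, h.eq]; simp)
    rw [e']; exact R.mul_mem h.neg (r b).2

/-- Pairs of lifted transvections are realised by isometries normalising the group. -/
theorem OfR.exists_pair {p q : A} (hp : One Φ p) (hq : One Φ q) :
    ∃ T : GL ι F, T ∈ subgroupNormalizer R ⊓ isoGL β ∧
      pr F (ι → F) (toV ι F T) = pr F (ι → F) (tE hp * tE hq) := by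
  obtain ⟨T, hT⟩ := toV_surjective (ι := ι) (F := F)
    (LinearEquiv.smulOfUnit (Units.mk0 (2 : F)⁻¹ (inv_ne_zero Φ.two)) * (tE hp * tE hq))
  have hTv : ∀ v, toV ι F T v = (2 : F)⁻¹ • (tE hp * tE hq) v := fun v => by rw [hT]; rfl
  have hpr : pr F (ι → F) (toV ι F T) = pr F (ι → F) (tE hp * tE hq) :=
    pr_eq_pr.mpr ⟨2, fun v => by rw [hTv, smul_inv_smul₀ Φ.two]⟩
  have hsim : ∀ r (hr : One Φ r) (v w : ι → F), β.B (tE hr v) (tE hr w) = 2 * β.B v w := fun r hr v w => by
    have e : β.B (Φ.u r v) w = -β.B v (Φ.u r w) := by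
      rw [← h.setup.isom r v (Φ.u r w), hr, β.neg_right, neg_neg]
    rw [tE_apply, tE_apply, β.add_left, β.add_right, β.add_right, h.setup.isom, e]
    ring
  have hiso : T ∈ isoGL β := fun v w => by
    rw [hTv, hTv, LinearEquiv.mul_apply, LinearEquiv.mul_apply, β.smul_left, β.smul_right, hsim, hsim]
    field_simp [Φ.two]
  exact ⟨T, ⟨h.mem_normalizer hiso (hpr ▸ (pair_acts h.setup hp hq).mem_N), hiso⟩, hpr⟩

theorem OfR.pres {M : Subgroup (GL ι F)} (hM : M ≤ isoGL β) {g : (ι → F) ≃ₗ[F] (ι → F)}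
    (hg : pr F (ι → F) g ∈ imgG M) : β.Sim g := by
  obtain ⟨_, ⟨m, hm, rfl⟩, e⟩ := hg
  obtain ⟨c, hc⟩ := pr_eq_pr.mp e
  have hc0 : c ≠ 0 := by
    rintro rfl
    obtain ⟨v, hv⟩ := Φ.exists_ne
    exact hv (g.map_eq_zero_iff.mp (by rw [hc, zero_smul]))
  exact ⟨c * c, mul_ne_zero hc0 hc0, fun v w => by rw [hc, hc, β.smul_left, β.smul_right, hM hm v w, mul_assoc]⟩

/-- The isometries normalising the group satisfy the hypotheses. -/
theorem OfR.grp_top : β.Grp Φ (imgG (subgroupNormalizer R ⊓ isoGL β)) := by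
  refine ⟨?_, fun g hg => h.pres inf_le_right hg, fun p q hp hq => ?_⟩
  · rintro _ ⟨a, rfl⟩
    exact ⟨_, ⟨r a, ⟨Subgroup.le_normalizer (r a).2, h.iso (r a).2⟩, rfl⟩, by rw [Data.e, h.eq]⟩
  · obtain ⟨T, hT, e⟩ := h.exists_pair hp hq
    exact ⟨_, ⟨T, hT, rfl⟩, e⟩

/-- **Maximality from the dichotomy.** -/
theorem OfR.isMaximal {p : ℕ} (hp : p.Prime) (hF : Fintype.card F = p) {S : Subgroup (GL ι F)}
    (hS : S ≤ isoGL β) (hgrp : β.Grp Φ (imgG (subgroupNormalizer R ⊓ S)))
    (hgen : ∀ M : Subgroup (GL ι F), subgroupNormalizer R ⊓ S ≤ M → M ≤ S →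
      (∀ x, β.Trans Φ h.setup (imgG M) x) → S ≤ M)
    (hsmall : ∃ T ∈ S, T ≠ 1 ∧ 3 * finrank F (ι → F) <
      4 * finrank F (LinearMap.ker ((toV ι F T).toLinearMap - LinearMap.id))) :
    IsMaximalIn S (subgroupNormalizer R ⊓ S) := by
  haveI := Fact.mk hp
  haveI : CharP F p := by
    obtain ⟨q, hq⟩ := CharP.exists F
    obtain ⟨⟨m, hm⟩, hqp, hcard⟩ := FiniteField.card F q
    change Fintype.card F = q ^ m at hcard
    rw [hF] at hcard
    have e := (Nat.prime_dvd_prime_iff_eq hqp hp).mp (hcard ▸ dvd_pow_self q hm.ne')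
    rwa [← e]
  have hprime : ∀ c : F, ∃ n : ℕ, (n : F) = c := fun c => by
    obtain ⟨z, hz⟩ := ((ZMod.castHom dvd_rfl F).injective.bijective_of_nat_card_le (by
      rw [Nat.card_zmod, Nat.card_eq_fintype_card, hF])).surjective c
    exact ⟨z.val, by rw [← hz, ZMod.castHom_apply, ZMod.natCast_val]⟩
  refine ⟨lt_of_le_not_ge inf_le_right fun hSN => ?_, fun M hle hM => ?_⟩
  · obtain ⟨T, hTS, hT1, hker⟩ := hsmall
    have hTN : T ∈ subgroupNormalizer R := (hSN hTS).1
    refine hT1 (toV_injective ((eq_one_of_small (Φ := Φ) hker (Φ.mem_N_of fun a => ?_)).trans (map_one _).symm))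
    · have hmem := (Subgroup.mem_normalizer_iff.mp hTN (r a : GL ι F)).mp (r a).2
      obtain ⟨b, c, hb⟩ := h.cover _ hmem
      refine ⟨b, ?_⟩
      rw [Data.e, Data.e, h.eq a, pr_conj]
      exact ⟨c, fun v => by
        rw [← hb, ← LinearEquiv.mul_apply, ← LinearEquiv.mul_apply, ← map_mul, ← map_mul,
          show T * (r a : GL ι F) * T⁻¹ * T = T * r a by group]⟩
  have hG : β.Grp Φ (imgG M) := by
    have hmono : imgG (subgroupNormalizer R ⊓ S) ≤ imgG M := Subgroup.map_mono (Subgroup.map_mono hle)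
    exact ⟨fun g hg => hmono (hgrp.le hg), fun g hg => h.pres (hM.trans hS) hg,
      fun p q hp hq => hmono (hgrp.pair p q hp hq)⟩
  rcases normal_or_trans h.setup hG h.card hprime with hN | hT
  · exact Or.inl (le_antisymm (le_inf (fun g hg => h.mem_normalizer (hS (hM hg)) (hN ⟨_, ⟨g, hg, rfl⟩, rfl⟩)) hM) hle)
  · exact Or.inr (le_antisymm hM (hgen M hle hM hT))

end Bil

end Cfsg.Agent.Classical.Frame
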