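/-
The normalisers of 2-groups of symplectic type are maximal in the orthogonal groups over prime fields.
-/
import Cfsg.Agent.Lib.Classical.Frame.Bil.Maximal
import Cfsg.Agent.Lib.Classical.Frame.Bil.BigO
import Cfsg.Agent.Lib.Classical.OrthNotMax
import Cfsg.Agent.Lib.Classical.OrthogonalGroup

set_option autoImplicit false
set_option linter.unusedSectionVars false

namespace Cfsg.Agent.Classical.Frame.Bil

open Module Matrix Cfsg.Geo QuadraticMap
open Cfsg.Agent.Classical Cfsg.Agent.Classical.OCount Cfsg.Agent.Classical.OOmega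
open scoped commutatorElement

universe u

variable {F : Type u} [Field F] [Fintype F]

/-- The normaliser of a 2-group of symplectic type with centre of order two is maximal. -/
theorem isMaximal_o {n : ℕ} (hn : 13 ≤ n) (Q : (Fin n → F) → F) (hQ : IsNondegenerateQuadraticForm Q) {p k : ℕ}
    (hp : p.Prime) (hpo : Odd p) (hF : Fintype.card F = p) (R : Subgroup (GL (Fin n) F))
    (hR : IsSymplecticTypeGroup 2 R) (hirr : ActsAbsolutelyIrreducibly (matrixSet R))
    (hRD : R ≤ Cfsg.isometryGroup F Q) (hcard : Nat.card R = 2 ^ (1 + 2 * k))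
    (hZ : Nat.card (Subgroup.center R) = 2) :
    IsMaximalIn (omegaGL Q) (subgroupNormalizer R ⊓ omegaGL Q) := by
  have h2 : (2 : F) ≠ 0 := two_ne_zero_of_odd_card (by rw [hF]; exact hpo)
  haveI : Nonempty (Fin n) := ⟨⟨0, by omega⟩⟩
  obtain ⟨Qf, rfl, hPND⟩ := ONotMax.exists_qform hQ
  let β : Bil F (Fin n → F) :=
    { B := polar Qf
      ε := 1
      heps := Or.inl rfl
      add_left := fun v v' w => polar_add_left ..
      smul_left := fun c v w => by rw [polar_smul_left, smul_eq_mul]
      swap := fun v w => by rw [one_mul, polar_comm]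
      nondeg := fun v hv => hPND v hv }
  have hiso : isoGL β = Cfsg.isometryGroup F ⇑Qf := by
    ext g
    rw [mem_isometryGroup_iff]
    constructor
    · intro hg u
      have e : polar Qf (toV _ F g u) (toV _ F g u) = polar Qf u u := hg u u
      rw [ORefl.polar_self_two, ORefl.polar_self_two] at e
      exact mul_left_cancel₀ h2 e
    · intro hg v w
      show polar Qf (toV _ F g v) (toV _ F g w) = polar Qf v w
      rw [QuadraticMap.polar, QuadraticMap.polar, ← map_add, toV_apply, toV_apply, toV_apply, hg, hg, hg]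
  obtain ⟨A, _, _, Φ, r, h⟩ := exists_ofR (β := β) h2 hR hirr (hiso ▸ hRD) hcard hZ
    (Or.inl (by simp only [Fintype.card_fin]; omega))
  have hΩ : omegaGL ⇑Qf ≤ isoGL β := by rw [hiso]; exact omegaGL_le_isometry
  refine h.isMaximal hp hF hΩ ?_ (fun M hle hM ht => ?_) ?_
  · refine Grp.derive h.setup h.grp_top h.card ?_ (fun g hg => h.pres (inf_le_right.trans hΩ) hg)
    rintro _ ⟨_, ⟨a, ha, rfl⟩, rfl⟩ _ ⟨_, ⟨b, hb, rfl⟩, rfl⟩
    refine ⟨_, ⟨⁅a, b⁆, ⟨?_, ?_⟩, rfl⟩, by rw [map_commutatorElement, map_commutatorElement]⟩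
    · have h1 : a ∈ subgroupNormalizer R := ha.1
      have h2 : b ∈ subgroupNormalizer R := hb.1
      rw [commutatorElement_def]
      exact (subgroupNormalizer R).mul_mem ((subgroupNormalizer R).mul_mem ((subgroupNormalizer R).mul_mem h1 h2)
        ((subgroupNormalizer R).inv_mem h1)) ((subgroupNormalizer R).inv_mem h2)
    · show ⁅a, b⁆ ∈ omegaGL ⇑Qf
      rw [omegaGL_eq]
      exact Subgroup.commutator_mem_commutator (hiso ▸ ha.2) (hiso ▸ hb.2)
  · intro g hg
    refine mem_of_img hle hM hg ?_
    obtain ⟨g', hg', rfl⟩ := hg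
    have hσ : (ORefl.toMat Qf).symm g' ∈ commutator ↥(ORefl.Iso Qf) := by
      have hle' : (commutator ↥(Cfsg.isometryGroup F ⇑Qf)).map (ORefl.toMat Qf).symm.toMonoidHom ≤
          commutator ↥(ORefl.Iso Qf) := by
        rw [commutator_def, commutator_def, Subgroup.map_commutator]
        exact Subgroup.commutator_mono le_top le_top
      exact hle' ⟨g', hg', rfl⟩
    have := commutator_le h.setup (fun v w => rfl) (by rw [Module.finrank_fin_fun]; omega) rfl ht hσ
    rw [show toV (Fin n) F ((Cfsg.isometryGroup F ⇑Qf).subtype g') = ((ORefl.toMat Qf).symm g').1 from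
      LinearEquiv.ext fun x => by
        rw [toV_apply, ← ORefl.toMat_apply, MulEquiv.apply_symm_apply]; rfl]
    exact this
  · have hdim : finrank F (Fin n → F) = n := Module.finrank_fin_fun F
    obtain ⟨a, ha0, ha⟩ := exists_singular h2 hPND (by omega)
    obtain ⟨f, hp⟩ := exists_pair hPND ha0 ha
    have hres := res_pnd hPND hp
    have hcd := finrank_comp hp
    obtain ⟨v, hv0, hv⟩ := exists_singular h2 hres (by omega)
    have hv' : Qf (v : Fin n → F) = 0 := hv
    obtain ⟨hav, hfv⟩ := mem_comp.mp v.2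
    obtain ⟨g, hg, hgx⟩ := ONotMax.exists_siegel hPND (by rw [Fintype.card_fin]; omega) ha hav
    refine ⟨g, hg, fun e => ?_, ?_⟩
    · have := hgx f
      rw [e, Units.val_one, Matrix.one_mulVec, hp.2.2, one_smul, hv', zero_mul, add_zero,
        polar_comm Qf v f, show polar Qf f (v : Fin n → F) = 0 from hfv, zero_smul, sub_zero, left_eq_add] at this
      exact hv0 (Subtype.ext this)
    · obtain ⟨ψ, hψ⟩ : ∃ ψ : (Fin n → F) →ₗ[F] F × F, ψ = (Qf.polarBilin a).prod (Qf.polarBilin v) := ⟨_, rfl⟩
      have h1 := LinearMap.finrank_range_add_finrank_ker ψ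
      have h2 : finrank F (LinearMap.range ψ) ≤ 2 :=
        (Submodule.finrank_le _).trans (by rw [Module.finrank_prod, Module.finrank_self])
      have h3 : finrank F (LinearMap.ker ψ) ≤
          finrank F (LinearMap.ker ((toV (Fin n) F g).toLinearMap - LinearMap.id)) :=
        Submodule.finrank_mono fun x hx => by
          rw [hψ, LinearMap.mem_ker] at hx
          have e1 : polar Qf a x = 0 := congrArg Prod.fst hx
          have e2 : polar Qf (v : Fin n → F) x = 0 := congrArg Prod.snd hx
          rw [LinearMap.mem_ker, LinearMap.sub_apply, LinearMap.id_apply, sub_eq_zero]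
          show toV _ F g x = x
          rw [toV_apply, hgx, e1, e2, zero_smul, mul_zero, add_zero, add_zero, zero_smul, sub_zero]
      omega

end Cfsg.Agent.Classical.Frame.Bil
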