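/-
The normalisers of 2-groups of symplectic type are maximal in the symplectic groups over prime fields.
-/
import Cfsg.Agent.Lib.Classical.Frame.Bil.Maximal
import Cfsg.Agent.Lib.Classical.Frame.Bil.BigSp
import Cfsg.Agent.Lib.Classical.SpOvergroup

set_option autoImplicit false
set_option linter.unusedSectionVars false

namespace Cfsg.Agent.Classical.Frame.Bil

open Module Matrix Cfsg.Geo
open Cfsg.Agent.Classical

universe u

variable {F : Type u} [Field F] [Fintype F] {m : ℕ}

/-- The normaliser of a 2-group of symplectic type with centre of order two is maximal. -/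
theorem isMaximal_sp_of (hm : 4 ≤ m) {p k : ℕ} (hp : p.Prime) (hpo : Odd p) (hF : Fintype.card F = p)
    (R : Subgroup (GL (Fin m ⊕ Fin m) F)) (hR : IsSymplecticTypeGroup 2 R)
    (hirr : ActsAbsolutelyIrreducibly (matrixSet R)) (hRD : R ≤ Cfsg.spGL m F)
    (hcard : Nat.card R = 2 ^ (1 + 2 * k)) (hZ : Nat.card (Subgroup.center R) = 2)
    (hι : 7 ≤ m ∨ IsOfMinusType 3 R) :
    IsMaximalIn (Cfsg.spGL m F) (subgroupNormalizer R ⊓ Cfsg.spGL m F) := by
  have h2 : (2 : F) ≠ 0 := two_ne_zero_of_odd_card (by rw [hF]; exact hpo)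
  haveI : Nonempty (Fin m ⊕ Fin m) := ⟨Sum.inl ⟨0, by omega⟩⟩
  have hsf := sympForm_isSymplectic (m := m) (F := F)
  let β : Bil F (Fin m ⊕ Fin m → F) :=
    { B := Cfsg.sympForm m F
      ε := -1
      heps := Or.inr rfl
      add_left := hsf.bilinear.add_left
      smul_left := hsf.bilinear.smul_left
      swap := fun v w => by rw [neg_one_mul]; exact hsf.skew w v
      nondeg := fun v hv => by
        by_contra hne
        obtain ⟨x, hx⟩ := (hsf.nondegenerate v hne).2
        exact hx (hv x) }
  have hSeq : Cfsg.spGL m F = isoGL β := by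
    ext g
    exact ⟨fun hg v w => hg v w, fun hg v w => hg v w⟩
  obtain ⟨A, _, _, Φ, r, h⟩ := exists_ofR (β := β) h2 hR hirr (hSeq ▸ hRD) hcard hZ
    (hι.imp (fun _ => by simp only [Fintype.card_sum, Fintype.card_fin]; omega)
      fun h => ⟨by simp only [Fintype.card_sum, Fintype.card_fin]; omega, h⟩)
  refine h.isMaximal hp hF hSeq.le (by rw [hSeq]; exact h.grp_top) (fun M hle hM ht => ?_) ?_
  · refine SpOver.spGL_le fun v c g hg => ?_
    obtain ⟨g', hg', hg'v⟩ := exists_sp_transvection (m := m) v c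
    obtain rfl := SpOver.tv_unique hg hg'v
    refine mem_of_img hle hM hg' ?_
    rw [show toV _ F g = tr (β := β) v (hsf.alternating v) c from LinearEquiv.ext fun x => by
      rw [toV_apply, hg, tr_apply]]
    exact TC_all h.setup h.card rfl ht v (hsf.alternating v) c
  · obtain ⟨j⟩ := (inferInstance : Nonempty (Fin m ⊕ Fin m))
    obtain ⟨v, hv⟩ : ∃ v : Fin m ⊕ Fin m → F, v = Pi.single j 1 := ⟨_, rfl⟩
    have hv0 : v ≠ 0 := fun e => by rw [hv] at e; simpa using congrFun e j
    obtain ⟨x, hx⟩ := (hsf.nondegenerate v hv0).1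
    obtain ⟨g, hg, hgv⟩ := exists_sp_transvection (m := m) v (1 : F)
    refine ⟨g, hg, fun e => ?_, ?_⟩
    · have := hgv x
      rw [e, Units.val_one, Matrix.one_mulVec, one_mul, left_eq_add, smul_eq_zero] at this
      exact this.elim hx hv0
    · obtain ⟨ψ, hψ⟩ : ∃ ψ : (Fin m ⊕ Fin m → F) →ₗ[F] F, ∀ x, ψ x = Cfsg.sympForm m F x v :=
        ⟨{ toFun := fun x => Cfsg.sympForm m F x v
           map_add' := fun a b => hsf.bilinear.add_left a b v
           map_smul' := fun a b => hsf.bilinear.smul_left a b v }, fun _ => rfl⟩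
      have h1 := LinearMap.finrank_range_add_finrank_ker ψ
      have h2 : finrank F (LinearMap.range ψ) ≤ 1 := (Submodule.finrank_le _).trans (by rw [Module.finrank_self])
      have h3 : finrank F (LinearMap.ker ψ) ≤
          finrank F (LinearMap.ker ((toV (Fin m ⊕ Fin m) F g).toLinearMap - LinearMap.id)) :=
        Submodule.finrank_mono fun x hx => by
          rw [LinearMap.mem_ker, hψ] at hx
          rw [LinearMap.mem_ker, LinearMap.sub_apply, LinearMap.id_apply, sub_eq_zero]
          show toV _ F g x = x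
          rw [toV_apply, hgv, hx, mul_zero, zero_smul, add_zero]
      simp only [Module.finrank_fintype_fun_eq_card, Fintype.card_sum, Fintype.card_fin] at h1 h3 ⊢
      omega

/-- The normaliser of a 2-group of symplectic type with centre of order two is maximal. -/
theorem isMaximal_sp (hm : 7 ≤ m) {p k : ℕ} (hp : p.Prime) (hpo : Odd p) (hF : Fintype.card F = p)
    (R : Subgroup (GL (Fin m ⊕ Fin m) F)) (hR : IsSymplecticTypeGroup 2 R)
    (hirr : ActsAbsolutelyIrreducibly (matrixSet R)) (hRD : R ≤ Cfsg.spGL m F)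
    (hcard : Nat.card R = 2 ^ (1 + 2 * k)) (hZ : Nat.card (Subgroup.center R) = 2) :
    IsMaximalIn (Cfsg.spGL m F) (subgroupNormalizer R ⊓ Cfsg.spGL m F) :=
  isMaximal_sp_of (by omega) hp hpo hF R hR hirr hRD hcard hZ (Or.inl hm)

end Cfsg.Agent.Classical.Frame.Bil
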